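import Groth.Agent.GrowthLib.NumDim
import Groth.Agent.NakaiLib.Gen
import Groth.Agent.DevissExtLib.Main
import Groth.Agent.PerfCompLib.Theta
import Groth.Agent.S1611

/-!
# Sections of powers of globally generated modules on closed subvarieties
-/

set_option autoImplicit false
set_option linter.style.haveILetI false
set_option maxHeartbeats 1000000
universe u

open CategoryTheory CategoryTheory.Limits AlgebraicGeometry TopologicalSpace Opposite
open HilbPolyLib DevissLib IntMultLib IntFunLib
open HodgeIdxLib (hh)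
open CurvLib (hMap)

noncomputable section

namespace GrowthLib

variable {X : Scheme.{u}}

/-! ### Stalks -/

theorem surjective_St_iso {A B : X.Modules} (e : A ≅ B) (x : X) : Function.Surjective ((St x).map e.hom).hom :=
  ((St x).mapIso e).toLinearEquiv.surjective

theorem surjective_St_comp {A B C : X.Modules} {f : A ⟶ B} {g : B ⟶ C} (x : X)
    (hf : Function.Surjective ((St x).map f).hom) (hg : Function.Surjective ((St x).map g).hom) :
    Function.Surjective ((St x).map (f ≫ g)).hom := fun c => by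
  obtain ⟨b, rfl⟩ := hg c
  obtain ⟨a, rfl⟩ := hf b
  exact ⟨a, by rw [Functor.map_comp]; rfl⟩

theorem surjective_St_of_comp {A B C : X.Modules} {f : A ⟶ B} {g : B ⟶ C} (x : X)
    (h : Function.Surjective ((St x).map (f ≫ g)).hom) : Function.Surjective ((St x).map g).hom := fun c => by
  obtain ⟨a, rfl⟩ := h c
  exact ⟨((St x).map f).hom a, by rw [Functor.map_comp]; rfl⟩

theorem surjective_St_of_epi {A B : X.Modules} (f : A ⟶ B) [Epi f] (x : X) :
    Function.Surjective ((St x).map f).hom :=
  haveI : Epi ((St x).map f) := inferInstance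
  (ModuleCat.epi_iff_surjective _).mp inferInstance

theorem maximalIdeal_smul_Fpt [IsNoetherian X] {η : X} {r : X.presheaf.stalk η}
    (hr : r ∈ IsLocalRing.maximalIdeal (X.presheaf.stalk η)) (c : (St η).obj (Fpt η)) : r • c = 0 := by
  obtain ⟨-, -, ⟨eq⟩⟩ := IntMultLib.generator η
  refine eq.injective (Eq.trans ?_ (map_zero eq).symm)
  refine (map_smul eq r c).trans ?_
  refine (Algebra.smul_def r (eq c)).trans ?_
  rw [IsLocalRing.ResidueField.algebraMap_eq, (IsLocalRing.residue_eq_zero_iff r).mpr hr, zero_mul]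

theorem mem_support_Fpt [IsNoetherian X] (ξ : X) : ξ ∈ CohB1.support (Fpt ξ) := by
  rw [(IntMultLib.generator ξ).2.1]; exact subset_closure rfl

theorem exists_Fpt_map [IsNoetherian X] {ξ η : X} (h : η ∈ closure ({ξ} : Set X)) :
    ∃ π : Fpt ξ ⟶ Fpt η, ClSub.toSubscheme (ptIdeal ξ) ≫ π = ClSub.toSubscheme (ptIdeal η) := by
  have hS := CurvLib.idealSeq_shortExact (ptIdeal ξ)
  haveI := hS.epi_g
  haveI := hS.mono_f
  have hzero : ClSub.idealModι (ptIdeal ξ) ≫ ClSub.toSubscheme (ptIdeal η) = 0 := by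
    haveI := IntMultLib.isIntegral_ptIdeal η
    have hg : (ptIdeal η).subschemeι (genericPoint (ptIdeal η).subscheme) = η := by
      refine ((genericPoint_spec _).image (ptIdeal η).subschemeι.continuous).eq ?_
      change closure {η} = closure (⇑(ptIdeal η).subschemeι '' Set.univ)
      rw [Set.image_univ, IntMultLib.range_ptIdeal, closure_closure]
    have tf : DevissExt.TF η (Fpt η) := by
      intro N j _ hN
      exact DevissLib.isZero_of_mono_push (ptIdeal η).subschemeι j (by rw [hg]; exact hN)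
    let c := ClSub.idealModι (ptIdeal ξ) ≫ ClSub.toSubscheme (ptIdeal η)
    have hst : ∀ a, ((St η).map c).hom a = 0 := by
      intro a
      have hc : ((St η).map c).hom a = ((St η).map (ClSub.toSubscheme (ptIdeal η))).hom
          (((St η).map (ClSub.idealModι (ptIdeal ξ))).hom a) := by
        simp only [c, Functor.map_comp]; rfl
      rw [hc]
      let one : (St η).obj (Coh.structureModule X) :=
        gm (Coh.structureModule X) η (show η ∈ (⊤ : X.Opens) from trivial) (1 : Γ(X, ⊤))
      obtain ⟨r, hr⟩ : ∃ r : X.presheaf.stalk η, r • one = ((St η).map (ClSub.idealModι (ptIdeal ξ))).hom a :=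
        ((AmpleLib.one_genOn (X := X) ⊤).genAt (show η ∈ (⊤ : X.Opens) from trivial)).2 _
      rw [← hr, map_smul]
      refine maximalIdeal_smul_Fpt ?_ _
      by_contra hu
      rw [IsLocalRing.mem_maximalIdeal, mem_nonunits_iff, not_not] at hu
      refine (show η ∉ CohB1.support (Fpt ξ) from ?_) (by rw [(IntMultLib.generator ξ).2.1]; exact h)
      have hsurj : Function.Surjective ((St η).map (ClSub.idealModι (ptIdeal ξ))).hom := fun z => by
        obtain ⟨q, hq⟩ := ((AmpleLib.one_genOn (X := X) ⊤).genAt (show η ∈ (⊤ : X.Opens) from trivial)).2 z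
        obtain ⟨v, rfl⟩ := hu
        refine ⟨(q * (↑v⁻¹ : X.presheaf.stalk η)) • a, ?_⟩
        rw [map_smul, ← hr, smul_smul, mul_assoc, Units.inv_mul, mul_one]
        exact hq
      intro hmem
      obtain ⟨w, hw⟩ := (mem_support_iff_nonzero _ η).mp hmem
      obtain ⟨o, rfl⟩ := surjective_St_of_epi (CurvLib.idealSeq (ptIdeal ξ)).g η w
      obtain ⟨y, rfl⟩ := hsurj o
      refine hw ?_
      have := congr_arg (fun ψ => ψ.hom y) (congr_arg (St η).map (CurvLib.idealSeq (ptIdeal ξ)).zero)
      simp only [Functor.map_comp, Functor.map_zero, ModuleCat.hom_comp, ModuleCat.hom_zero,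
        LinearMap.comp_apply, LinearMap.zero_apply] at this
      exact this
    have himg : η ∉ CohB1.support (Abelian.image c) := by
      intro hmem
      obtain ⟨w, hw⟩ := (mem_support_iff_nonzero _ η).mp hmem
      obtain ⟨a, rfl⟩ := surjective_St_of_epi (Abelian.factorThruImage c) η w
      refine hw ?_
      have hinj : Function.Injective ((St η).map (Abelian.image.ι c)).hom :=
        haveI : Mono ((St η).map (Abelian.image.ι c)) := inferInstance
        (ModuleCat.mono_iff_injective _).mp inferInstance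
      refine hinj ?_
      rw [map_zero]
      have h2 := hst a
      rw [← Abelian.image.fac c, Functor.map_comp] at h2
      exact h2
    have := DevissExt.eq_zero_of_tf tf (Abelian.image.ι c) himg
    show c = 0
    rw [← Abelian.image.fac c, this, comp_zero]
  exact ⟨hS.exact.desc _ hzero, hS.exact.g_desc _ hzero⟩

/-! ### Multiplication by a section -/

/-- Multiplication by a section, on all modules. -/
def mulNat {M : X.Modules} (φ : Coh.structureModule X ⟶ M) : 𝟭 X.Modules ⟶ CurvLib.tensorLeft' M :=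
  PerfCompLib.tensUnitNat.inv ≫ (DCoh.tensorBi (X := X)).map φ

/-- Iterated twists. -/
def Tw (M : X.Modules) : ℕ → (X.Modules ⥤ X.Modules)
  | 0 => 𝟭 _
  | t + 1 => CurvLib.tensorLeft' M ⋙ Tw M t

theorem nonempty_Tw {M : X.Modules} : ∀ (t : ℕ) (Y : X.Modules),
    Nonempty ((Tw M t).obj Y ≅ CohB1.tensorMod (CohB1.tensorPow M t) Y)
  | 0, Y => ⟨(HilbPolyLib.unitLeft Y).symm⟩
  | t + 1, Y => by
    obtain ⟨e⟩ := nonempty_Tw t ((CurvLib.tensorLeft' M).obj Y)
    exact ⟨e ≪≫ (HilbPolyLib.assocIso _ M Y).symm⟩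

theorem Tw_mono {M : X.Modules} (hM : PicF.IsInvertible M) : ∀ (t : ℕ) {A B : X.Modules} (f : A ⟶ B), Mono f →
    Mono ((Tw M t).map f)
  | 0, _, _, _, h => h
  | t + 1, A, B, f, h => by
    haveI := h
    let S : ShortComplex X.Modules := ShortComplex.mk f (cokernel.π f) (cokernel.condition f)
    have hS : S.ShortExact :=
      { exact := ShortComplex.exact_cokernel f, mono_f := inferInstanceAs (Mono f)
        epi_g := inferInstanceAs (Epi (cokernel.π f)) }
    exact Tw_mono hM t ((CurvLib.tensorLeft' M).map f) (HilbPolyLib.shortExact_tensor hM hS).mono_f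

theorem Tw_map_zero {M : X.Modules} : ∀ (t : ℕ) (A B : X.Modules), (Tw M t).map (0 : A ⟶ B) = 0
  | 0, _, _ => rfl
  | t + 1, A, B => by
    show (Tw M t).map ((CurvLib.tensorLeft' M).map (0 : A ⟶ B)) = 0
    rw [Functor.map_zero]
    exact Tw_map_zero t _ _

theorem conj_eq {C : Type*} [Category C] {OO MO OM O₁ M₁ : C} {a : OO ⟶ MO} {sw₁ : OO ≅ OO} {sw₂ : MO ≅ OM}
    {b : OO ⟶ OM} {e₁ : OO ≅ O₁} {e₂ : OM ≅ M₁} {φ : O₁ ⟶ M₁} (e : a ≫ sw₂.hom = sw₁.hom ≫ b)
    (en : b ≫ e₂.hom = e₁.hom ≫ φ) :
    e₁.inv ≫ a = e₁.inv ≫ sw₁.hom ≫ e₁.hom ≫ φ ≫ e₂.inv ≫ sw₂.inv ∧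
      (e₁.inv ≫ a) ≫ sw₂.hom ≫ e₂.hom = (e₁.inv ≫ sw₁.hom ≫ e₁.hom) ≫ φ := by
  have h : a = sw₁.hom ≫ e₁.hom ≫ φ ≫ e₂.inv ≫ sw₂.inv := by
    rw [← cancel_mono sw₂.hom, e, ← reassoc_of% en]
    simp
  subst h
  simp

theorem surjective_mulNat_O {M : X.Modules} (φ : Coh.structureModule X ⟶ M) {x : X}
    (hφ : Function.Surjective ((St x).map φ).hom) :
    Function.Surjective ((St x).map ((mulNat φ).app (Coh.structureModule X))).hom := by
  let O := Coh.structureModule X
  let e1 : CohB1.tensorMod O O ≅ O := (PerfCompLib.tensUnitNat (X := X)).app O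
  let e2 : CohB1.tensorMod O M ≅ M := (PerfCompLib.tensUnitNat (X := X)).app M
  have e : ((DCoh.tensorBi (X := X)).map φ).app O ≫ (KFlatLib.tensSwap O M).hom =
      (KFlatLib.tensSwap O O).hom ≫ ((DCoh.tensorBi (X := X)).obj O).map φ :=
    (DCoh.shP.map_comp _ _).symm.trans ((congrArg DCoh.shP.map
      (BraidedCategory.braiding_naturality_left (DCoh.toP.map φ) (DCoh.toP.obj O))).trans
        (DCoh.shP.map_comp _ _))
  have en : ((DCoh.tensorBi (X := X)).obj O).map φ ≫ e2.hom = e1.hom ≫ φ :=
    (PerfCompLib.tensUnitNat (X := X)).hom.naturality φ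
  have key : (mulNat φ).app O =
      e1.inv ≫ (KFlatLib.tensSwap O O).hom ≫ e1.hom ≫ φ ≫ e2.inv ≫ (KFlatLib.tensSwap O M).inv :=
    (conj_eq (e₁ := e1) (e₂ := e2) e en).1
  rw [key]
  exact surjective_St_comp x (surjective_St_iso e1.symm x) (surjective_St_comp x (surjective_St_iso _ x)
    (surjective_St_comp x (surjective_St_iso e1 x) (surjective_St_comp x hφ
      (surjective_St_comp x (surjective_St_iso e2.symm x) (surjective_St_iso (KFlatLib.tensSwap O M).symm x)))))

theorem surjective_of_mulNat_O {M : X.Modules} (φ : Coh.structureModule X ⟶ M) {x : X}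
    (h : Function.Surjective ((St x).map ((mulNat φ).app (Coh.structureModule X))).hom) :
    Function.Surjective ((St x).map φ).hom := by
  let O := Coh.structureModule X
  let e1 : CohB1.tensorMod O O ≅ O := (PerfCompLib.tensUnitNat (X := X)).app O
  let e2 : CohB1.tensorMod O M ≅ M := (PerfCompLib.tensUnitNat (X := X)).app M
  have e : ((DCoh.tensorBi (X := X)).map φ).app O ≫ (KFlatLib.tensSwap O M).hom =
      (KFlatLib.tensSwap O O).hom ≫ ((DCoh.tensorBi (X := X)).obj O).map φ :=
    (DCoh.shP.map_comp _ _).symm.trans ((congrArg DCoh.shP.map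
      (BraidedCategory.braiding_naturality_left (DCoh.toP.map φ) (DCoh.toP.obj O))).trans
        (DCoh.shP.map_comp _ _))
  have en : ((DCoh.tensorBi (X := X)).obj O).map φ ≫ e2.hom = e1.hom ≫ φ :=
    (PerfCompLib.tensUnitNat (X := X)).hom.naturality φ
  have key : (mulNat φ).app O ≫ (KFlatLib.tensSwap O M).hom ≫ e2.hom =
      (e1.inv ≫ (KFlatLib.tensSwap O O).hom ≫ e1.hom) ≫ φ :=
    (conj_eq (e₁ := e1) (e₂ := e2) e en).2
  refine surjective_St_of_comp (f := e1.inv ≫ (KFlatLib.tensSwap O O).hom ≫ e1.hom) x ?_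
  rw [← key]
  exact surjective_St_comp x h (surjective_St_comp x (surjective_St_iso _ x) (surjective_St_iso e2 x))

variable (X) in
theorem mulNat_naturality {M : X.Modules} (φ : Coh.structureModule X ⟶ M) {A B : X.Modules} (f : A ⟶ B) :
    (mulNat φ).app A ≫ (CurvLib.tensorLeft' M).map f = f ≫ (mulNat φ).app B :=
  ((mulNat φ).naturality f).symm

theorem surjective_tensor_epi {M : X.Modules} (hM : PicF.IsInvertible M) {A B : X.Modules} (f : A ⟶ B) [Epi f] (x : X) :
    Function.Surjective ((St x).map ((CurvLib.tensorLeft' M).map f)).hom := by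
  let S : ShortComplex X.Modules := ShortComplex.mk (kernel.ι f) f (kernel.condition f)
  have hS : S.ShortExact :=
    { exact := ShortComplex.exact_of_f_is_kernel _ (kernelIsKernel f)
      mono_f := inferInstanceAs (Mono (kernel.ι f)), epi_g := inferInstanceAs (Epi f) }
  haveI : Epi ((CurvLib.tensorLeft' M).map f) := (HilbPolyLib.shortExact_tensor hM hS).epi_g
  exact surjective_St_of_epi _ x

variable {k : Type u} [Field k] [X.Over (Spec (CommRingCat.of k))] [IsProper (X ↘ Spec (CommRingCat.of k))]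

variable (k) in
include k in
theorem tf_twist {M : X.Modules} (hM : PicF.IsInvertible M) (η : X) : DevissExt.TF η (CohB1.tensorMod M (Fpt η)) := by
  haveI := IntMultLib.isIntegral_ptIdeal η
  letI := LMLib.law X
  obtain ⟨M', hM', ⟨e⟩⟩ := NumRLib.exists_inverse (k := k) hM
  have hg : (ptIdeal η).subschemeι (genericPoint (ptIdeal η).subscheme) = η := by
    refine ((genericPoint_spec _).image (ptIdeal η).subschemeι.continuous).eq ?_
    change closure {η} = closure (⇑(ptIdeal η).subschemeι '' Set.univ)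
    rw [Set.image_univ, IntMultLib.range_ptIdeal, closure_closure]
  intro N j _ hN
  obtain ⟨ψ, hψ⟩ := NumRLib.mono_tensor hM' j
  let i : CohB1.tensorMod M' (CohB1.tensorMod M (Fpt η)) ≅ Fpt η :=
    (HilbPolyLib.assocIso _ _ _).symm ≪≫ HilbPolyLib.congrLeft (HilbPolyLib.swapIso M' M ≪≫ e) _ ≪≫ HilbPolyLib.unitLeft _
  haveI : Mono (ψ ≫ i.hom) := mono_comp' hψ inferInstance
  have hz : IsZero (CohB1.tensorMod M' N) := DevissLib.isZero_of_mono_push (ptIdeal η).subschemeι (ψ ≫ i.hom)
    (by rw [hg, HilbPolyLib.support_tensor hM']; exact hN)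
  refine isZero_of_support_empty ?_
  rw [← HilbPolyLib.support_tensor hM' N, support_of_isZero hz]

variable (k) in
include k in
/-- At a zero of the section the multiplication kills the residue module. -/
theorem mulNat_Fpt_eq_zero {M : X.Modules} (hM : PicF.IsInvertible M) (φ : Coh.structureModule X ⟶ M) {η : X}
    (hη : ¬ Function.Surjective ((St η).map φ).hom) : (mulNat φ).app (Fpt η) = 0 := by
  haveI := CurvLib.isNoetherian k (X := X)
  let O := Coh.structureModule X
  let π := ClSub.toSubscheme (ptIdeal η)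
  haveI : Epi π := CurvLib.epi_toSubscheme _
  have hMO := HilbPolyLib.isInvertible_tensor hM (CurvLib.isInvertible_structureModule (X := X))
  let γ := (CurvLib.tensorLeft' M).map π
  let c := (mulNat φ).app O ≫ γ
  have htop : η ∈ (⊤ : X.Opens) := trivial
  let t : Γ(CohB1.tensorMod M O, ⊤) := ((mulNat φ).app O).app ⊤ (1 : Γ(X, ⊤))
  have hkill : ∀ r ∈ IsLocalRing.maximalIdeal (X.presheaf.stalk η), ∀ z : (St η).obj ((CurvLib.tensorLeft' M).obj (Fpt η)),
      r • z = 0 := by
    intro r hr z
    obtain ⟨y, rfl⟩ := (KFlatLib.stalkTensorIso M (Fpt η) η).toLinearEquiv.surjective z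
    rw [← map_smul]
    refine (congrArg _ ?_).trans (map_zero _)
    induction y using TensorProduct.induction_on with
    | zero => exact smul_zero r
    | tmul a b => rw [← TensorProduct.tmul_smul, maximalIdeal_smul_Fpt hr b, TensorProduct.tmul_zero]
    | add a b ha hb => rw [smul_add, ha, hb, add_zero]
  have hz : ∀ a, ((St η).map c).hom a = 0 := by
    intro a
    obtain ⟨r, rfl⟩ := ((AmpleLib.one_genOn (X := X) ⊤).genAt htop).2 a
    refine (map_smul _ r _).trans ?_
    suffices h : ((St η).map c).hom (gm O η htop (1 : Γ(X, ⊤))) = 0 from (congrArg (r • ·) h).trans (smul_zero r)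
    have h1 : ((St η).map c).hom (gm O η htop (1 : Γ(X, ⊤))) =
        ((St η).map γ).hom (gm (CohB1.tensorMod M O) η htop t) := by
      rw [Functor.map_comp]
      exact congrArg ((St η).map γ).hom (gm_app ((mulNat φ).app O) η htop (1 : Γ(X, ⊤)))
    rw [h1]
    by_contra hne
    refine hη (surjective_of_mulNat_O φ fun z => ?_)
    obtain ⟨s, hs⟩ := (show AmpleLib.GenAt (CohB1.tensorMod M O) t htop from
      NakaiLib.genAt_of_not_killed hMO γ hkill t hne).2 z
    exact ⟨s • gm O η htop (1 : Γ(X, ⊤)),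
      (map_smul _ s _).trans ((congrArg (s • ·) (gm_app ((mulNat φ).app O) η htop (1 : Γ(X, ⊤)))).trans hs)⟩
  have himg : η ∉ CohB1.support (Abelian.image c) := by
    intro hmem
    obtain ⟨w, hw⟩ := (mem_support_iff_nonzero _ η).mp hmem
    obtain ⟨a, rfl⟩ := surjective_St_of_epi (Abelian.factorThruImage c) η w
    refine hw ?_
    have hinj : Function.Injective ((St η).map (Abelian.image.ι c)).hom :=
      haveI : Mono ((St η).map (Abelian.image.ι c)) := inferInstance
      (ModuleCat.mono_iff_injective _).mp inferInstance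
    refine hinj ?_
    rw [map_zero]
    have h2 := hz a
    rw [← Abelian.image.fac c, Functor.map_comp] at h2
    exact h2
  have hi : Abelian.image.ι c = 0 := DevissExt.eq_zero_of_tf (tf_twist k hM η) (Abelian.image.ι c) himg
  have h0 : c = 0 := by
    rw [← Abelian.image.fac c, hi]
    exact comp_zero
  rw [← cancel_epi π, comp_zero, ← mulNat_naturality X φ π]
  exact h0

variable (k) in
include k in
/-- Where the section generates, multiplication is surjective on the residue module. -/
theorem surjective_mulNat_Fpt {M : X.Modules} (hM : PicF.IsInvertible M) (φ : Coh.structureModule X ⟶ M) {ξ η : X}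
    (hη : Function.Surjective ((St η).map φ).hom) :
    Function.Surjective ((St η).map ((mulNat φ).app (Fpt ξ))).hom := by
  haveI := CurvLib.isNoetherian k (X := X)
  let π := ClSub.toSubscheme (ptIdeal ξ)
  haveI : Epi π := CurvLib.epi_toSubscheme _
  refine surjective_St_of_comp (f := π) η ?_
  rw [← mulNat_naturality X φ π]
  exact surjective_St_comp η (surjective_mulNat_O φ hη) (surjective_tensor_epi hM π η)

variable (k) in
include k in
theorem mulNat_Fpt_mono {M : X.Modules} (hM : PicF.IsInvertible M) (φ : Coh.structureModule X ⟶ M) {ξ : X}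
    (hξ : Function.Surjective ((St ξ).map φ).hom) : Mono ((mulNat φ).app (Fpt ξ)) := by
  haveI := CurvLib.isNoetherian k (X := X)
  haveI := IntMultLib.isIntegral_ptIdeal ξ
  let s := (mulNat φ).app (Fpt ξ)
  change Mono s
  have hg : (ptIdeal ξ).subschemeι (genericPoint (ptIdeal ξ).subscheme) = ξ := by
    refine ((genericPoint_spec _).image (ptIdeal ξ).subschemeι.continuous).eq ?_
    change closure {ξ} = closure (⇑(ptIdeal ξ).subschemeι '' Set.univ)
    rw [Set.image_univ, IntMultLib.range_ptIdeal, closure_closure]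
  by_contra hm
  have hK : ξ ∈ CohB1.support (kernel s) := by
    by_contra hK
    exact hm (Preadditive.mono_of_kernel_zero ((DevissLib.isZero_of_mono_push (ptIdeal ξ).subschemeι (kernel.ι s)
      (by rw [hg]; exact hK)).eq_zero_of_src _))
  obtain ⟨-, -, ⟨eq⟩⟩ := IntMultLib.generator ξ
  have hsurjK : Function.Surjective ((St ξ).map (kernel.ι s)).hom := by
    intro z
    obtain ⟨a, ha⟩ := (mem_support_iff_nonzero _ ξ).mp hK
    have hinj : Function.Injective ((St ξ).map (kernel.ι s)).hom :=
      haveI : Mono ((St ξ).map (kernel.ι s)) := inferInstance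
      (ModuleCat.mono_iff_injective _).mp inferInstance
    have hne : eq (((St ξ).map (kernel.ι s)).hom a) ≠ 0 := fun h0 =>
      ha (hinj ((eq.injective (h0.trans (map_zero eq).symm)).trans (map_zero _).symm))
    obtain ⟨r, hr⟩ := IsLocalRing.residue_surjective (R := X.presheaf.stalk ξ)
      (eq z / eq (((St ξ).map (kernel.ι s)).hom a))
    refine ⟨r • a, eq.injective ?_⟩
    refine (congrArg eq (map_smul _ r a)).trans ((map_smul eq r _).trans ?_)
    refine (Algebra.smul_def r _).trans ?_
    rw [IsLocalRing.ResidueField.algebraMap_eq, hr]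
    exact div_mul_cancel₀ _ hne
  obtain ⟨w, hw⟩ := (mem_support_iff_nonzero _ ξ).mp
    (show ξ ∈ CohB1.support (CohB1.tensorMod M (Fpt ξ)) by
      rw [HilbPolyLib.support_tensor hM]; exact mem_support_Fpt ξ)
  obtain ⟨b, rfl⟩ := surjective_mulNat_Fpt k hM φ (ξ := ξ) hξ w
  obtain ⟨a, rfl⟩ := hsurjK b
  refine hw ?_
  have := congr_arg (fun ψ => ψ.hom a) (congr_arg (St ξ).map (kernel.condition s))
  simp only [Functor.map_comp, Functor.map_zero, ModuleCat.hom_comp, ModuleCat.hom_zero,
    LinearMap.comp_apply, LinearMap.zero_apply] at this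
  exact this

/-! ### The restriction ranks -/

variable (k) in
/-- The rank of the restriction of sections of `M^t` to the closure of `ξ`. -/
def resRank (M : X.Modules) (t : ℕ) (ξ : X) : ℕ :=
  Module.finrank k (LinearMap.range (hMap (k := k) ((Tw M t).map (ClSub.toSubscheme (ptIdeal ξ))) 0))

theorem finrank_range_add {U V W U' : Type u} [AddCommGroup U] [AddCommGroup V] [AddCommGroup W] [AddCommGroup U']
    [Module k U] [Module k V] [Module k W] [Module k U'] [Module.Finite k U] [Module.Finite k V] [Module.Finite k W]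
    [Module.Finite k U'] {V' : Type u} [AddCommGroup V'] [Module k V'] [Module.Finite k V']
    (g : U →ₗ[k] V) (μ : V →ₗ[k] W) (hμ : Function.Injective μ) (G : U' →ₗ[k] W) (q : W →ₗ[k] V')
    (hsub : LinearMap.range (μ.comp g) ≤ LinearMap.range G) (hq : q.comp (μ.comp g) = 0) :
    Module.finrank k (LinearMap.range g) + Module.finrank k (LinearMap.range (q.comp G)) ≤
      Module.finrank k (LinearMap.range G) := by
  have h1 := LinearMap.finrank_range_add_finrank_ker (q.domRestrict (LinearMap.range G))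
  have h2 : LinearMap.range (q.domRestrict (LinearMap.range G)) = LinearMap.range (q.comp G) := by
    rw [LinearMap.range_domRestrict, LinearMap.range_comp]
  rw [h2] at h1
  have h3 : Module.finrank k (LinearMap.range g) ≤
      Module.finrank k (LinearMap.ker (q.domRestrict (LinearMap.range G))) := by
    let f : LinearMap.range g →ₗ[k] LinearMap.ker (q.domRestrict (LinearMap.range G)) :=
      { toFun := fun v => ⟨⟨μ v.1, by
            obtain ⟨u, hu⟩ := v.2
            exact hsub ⟨u, by rw [LinearMap.comp_apply, hu]⟩⟩, by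
            obtain ⟨u, hu⟩ := v.2
            rw [LinearMap.mem_ker, LinearMap.domRestrict_apply]
            have := LinearMap.congr_fun hq u
            simpa [hu] using this⟩
        map_add' := fun a b => by ext; exact map_add μ _ _
        map_smul' := fun c a => by ext; exact map_smul μ c _ }
    refine LinearMap.finrank_le_finrank_of_injective (f := f) fun a b h => Subtype.ext (hμ ?_)
    exact congrArg (fun z => (z.1.1 : W)) h
  omega

theorem isCoh_Tw {M : X.Modules} (hM : PicF.IsInvertible M) (t : ℕ) {Y : X.Modules} (hY : Coh.IsCoh Y) :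
    Coh.IsCoh ((Tw M t).obj Y) := by
  obtain ⟨e⟩ := nonempty_Tw (M := M) t Y
  exact QCohLib.isCoh_of_iso e.symm (HilbPolyLib.isCoh_tensor (AmpleThLib.tensorPow_isInvertible hM t) hY)

theorem hMap_zero {A B : X.Modules} (p : ℕ) : hMap (k := k) (0 : A ⟶ B) p = 0 := by
  refine LinearMap.ext fun x => ?_
  rw [CurvLib.hMap_apply, Functor.map_zero]
  exact (congrArg (fun e => Abelian.Ext.comp x e (add_zero p)) (Abelian.Ext.mk₀_zero _ _)).trans
    (Abelian.Ext.comp_zero ..)

/-- Ranks of restriction maps along a multiplication. -/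
theorem rank_add_le {A A' B C D : X.Modules} (g : A ⟶ B) (μ : B ⟶ C) [Mono μ] (G : A' ⟶ C) (q : C ⟶ D)
    (a : A ⟶ A') (e1 : g ≫ μ = a ≫ G) (e2 : μ ≫ q = 0) (hA : Coh.IsCoh A) (hA' : Coh.IsCoh A') (hB : Coh.IsCoh B)
    (hC : Coh.IsCoh C) (hD : Coh.IsCoh D) :
    Module.finrank k (LinearMap.range (hMap (k := k) g 0)) + Module.finrank k (LinearMap.range (hMap (k := k) (G ≫ q) 0)) ≤
      Module.finrank k (LinearMap.range (hMap (k := k) G 0)) := by
  haveI := CurvLib.finite_HH (k := k) hA 0
  haveI := CurvLib.finite_HH (k := k) hA' 0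
  haveI := CurvLib.finite_HH (k := k) hB 0
  haveI := CurvLib.finite_HH (k := k) hC 0
  haveI := CurvLib.finite_HH (k := k) hD 0
  have hinj : Function.Injective (hMap (k := k) μ 0) :=
    CurvLib.injective₀ (S := ShortComplex.mk μ (cokernel.π μ) (cokernel.condition μ))
      { exact := ShortComplex.exact_cokernel μ, mono_f := inferInstanceAs (Mono μ)
        epi_g := inferInstanceAs (Epi (cokernel.π μ)) }
  have hcomp : ∀ {A B C : X.Modules} (a : A ⟶ B) (b : B ⟶ C),
      (hMap (k := k) b 0).comp (hMap (k := k) a 0) = hMap (k := k) (a ≫ b) 0 :=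
    fun a b => LinearMap.ext fun z => (CurvLib.hMap_comp a b 0 z).symm
  have := finrank_range_add (hMap (k := k) g 0) (hMap (k := k) μ 0) hinj (hMap (k := k) G 0) (hMap (k := k) q 0)
    (by rw [hcomp, e1, ← hcomp]; exact LinearMap.range_comp_le_range _ _)
    (by rw [hcomp, hcomp, Category.assoc, e2, comp_zero, hMap_zero])
  rw [hcomp] at this
  exact this

/-- The basic inequality. -/
theorem resRank_succ {M : X.Modules} (hM : PicF.IsInvertible M) (φ : Coh.structureModule X ⟶ M) {ξ η : X}
    (hξ : Function.Surjective ((St ξ).map φ).hom) (hη : ¬ Function.Surjective ((St η).map φ).hom)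
    (hη' : η ∈ closure ({ξ} : Set X)) (t : ℕ) :
    resRank k M t ξ + resRank k M (t + 1) η ≤ resRank k M (t + 1) ξ := by
  haveI := CurvLib.isNoetherian k (X := X)
  obtain ⟨π, hπ⟩ := exists_Fpt_map hη'
  have hO := DevissLib.isCoh_structureModule X
  haveI := Tw_mono hM t _ (mulNat_Fpt_mono k hM φ hξ)
  have e1 : (Tw M t).map (ClSub.toSubscheme (ptIdeal ξ)) ≫ (Tw M t).map ((mulNat φ).app (Fpt ξ)) =
      (Tw M t).map ((mulNat φ).app (Coh.structureModule X)) ≫
        (Tw M t).map ((CurvLib.tensorLeft' M).map (ClSub.toSubscheme (ptIdeal ξ))) := by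
    rw [← Functor.map_comp, ← Functor.map_comp, mulNat_naturality]
  have e2 : (Tw M t).map ((mulNat φ).app (Fpt ξ)) ≫ (Tw M t).map ((CurvLib.tensorLeft' M).map π) = 0 := by
    rw [← Functor.map_comp, mulNat_naturality, mulNat_Fpt_eq_zero k hM φ hη, comp_zero]
    exact Tw_map_zero t _ _
  have h := rank_add_le (k := k) _ _ _ _ _ e1 e2 (isCoh_Tw hM t hO) (isCoh_Tw hM (t + 1) hO)
    (isCoh_Tw hM t (IntFunLib.coh_Fpt k ξ)) (isCoh_Tw hM (t + 1) (IntFunLib.coh_Fpt k ξ))
    (isCoh_Tw hM (t + 1) (IntFunLib.coh_Fpt k η))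
  rw [← Functor.map_comp, ← Functor.map_comp, hπ] at h
  exact h

variable (k) in
theorem one_le_resRank_zero (M : X.Modules) (ξ : X) : 1 ≤ resRank k M 0 ξ := by
  haveI := CurvLib.isNoetherian k (X := X)
  haveI := IntMultLib.isIntegral_ptIdeal ξ
  let π := ClSub.toSubscheme (ptIdeal ξ)
  haveI : Module.Finite k (Coh.HH X ((Tw M 0).obj (Fpt ξ)) 0) := CurvLib.finite_HH (k := k) (IntFunLib.coh_Fpt k ξ) 0
  letI := CurvLib.secModule (k := k) (Coh.structureModule X)
  letI := CurvLib.secModule (k := k) (Fpt ξ)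
  let z := (CurvLib.hhZeroEquiv (k := k) (Coh.structureModule X)).symm (1 : Γ(X, ⊤))
  have hne : hMap (k := k) π 0 z ≠ 0 := by
    intro h0
    have h1 := NakaiLib.hhZeroEquiv_map (k := k) π z
    rw [h0, map_zero, LinearEquiv.apply_symm_apply] at h1
    haveI : Nonempty ((ptIdeal ξ).subschemeι ⁻¹ᵁ (⊤ : X.Opens) : (ptIdeal ξ).subscheme.Opens) :=
      ⟨⟨genericPoint (ptIdeal ξ).subscheme, trivial⟩⟩
    haveI : Nontrivial Γ((ptIdeal ξ).subscheme, (ptIdeal ξ).subschemeι ⁻¹ᵁ (⊤ : X.Opens)) := inferInstance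
    exact one_ne_zero (α := Γ((ptIdeal ξ).subscheme, (ptIdeal ξ).subschemeι ⁻¹ᵁ (⊤ : X.Opens)))
      ((map_one ((ptIdeal ξ).subschemeι.app ⊤).hom).symm.trans h1.symm)
  haveI : Module.Finite k (Coh.HH X (Fpt ξ) 0) := CurvLib.finite_HH (k := k) (IntFunLib.coh_Fpt k ξ) 0
  change 0 < Module.finrank k (LinearMap.range (hMap (k := k) π 0))
  haveI : Nontrivial (LinearMap.range (hMap (k := k) π 0)) :=
    ⟨⟨_, ⟨z, rfl⟩⟩, 0, fun h => hne (congrArg Subtype.val h)⟩
  exact Module.finrank_pos

/-- **Many sections on closed subvarieties.** -/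
theorem choose_le_resRank {M : X.Modules} (hM : PicF.IsInvertible M) (hgg : Curv2.IsGloballyGenerated M) :
    ∀ (d : ℕ) (ξ : X), topologicalKrullDim (closure ({ξ} : Set X)) = (d : WithBot ℕ∞) →
      0 < N k (List.replicate d M) (Fpt ξ) → ∀ t, (t + d).choose d ≤ resRank k M t ξ := by
  haveI := CurvLib.isNoetherian k (X := X)
  intro d
  have hsec : ∀ ξ : X, ∃ φ : Coh.structureModule X ⟶ M, Function.Surjective ((St ξ).map φ).hom := by
    intro ξ
    have htop : ξ ∈ (⊤ : X.Opens) := trivial
    obtain ⟨σ, hσ⟩ := Groth.Agent.S1611.exists_genAt_of_gg hM hgg ξ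
    refine ⟨QCohLib.unitHom M σ, fun z => ?_⟩
    obtain ⟨r, hr⟩ := hσ.2 z
    refine ⟨r • gm (Coh.structureModule X) ξ htop (1 : Γ(X, ⊤)), ?_⟩
    refine (map_smul _ r _).trans (Eq.trans ?_ hr)
    refine congrArg (r • ·) ((gm_app (QCohLib.unitHom M σ) ξ htop (1 : Γ(X, ⊤))).trans ?_)
    rw [QCohLib.unitHom_app, one_smul]
    exact congrArg (gm M ξ htop) (QCohLib.toSections_top M σ)
  induction d with
  | zero =>
    intro ξ _ _ t
    rw [Nat.choose_zero_right]
    induction t with
    | zero => exact one_le_resRank_zero k M ξ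
    | succ t ih =>
      obtain ⟨φ, hφ⟩ := hsec ξ
      refine ih.trans ?_
      haveI := Tw_mono hM t _ (mulNat_Fpt_mono k hM φ hφ)
      have hO := DevissLib.isCoh_structureModule X
      have e1 : (Tw M t).map (ClSub.toSubscheme (ptIdeal ξ)) ≫ (Tw M t).map ((mulNat φ).app (Fpt ξ)) =
          (Tw M t).map ((mulNat φ).app (Coh.structureModule X)) ≫
            (Tw M t).map ((CurvLib.tensorLeft' M).map (ClSub.toSubscheme (ptIdeal ξ))) := by
        rw [← Functor.map_comp, ← Functor.map_comp, mulNat_naturality]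
      have hB := isCoh_Tw hM t (IntFunLib.coh_Fpt k ξ)
      have hC := isCoh_Tw hM (t + 1) (IntFunLib.coh_Fpt k ξ)
      have h := rank_add_le (k := k) _ _ _ _ _ e1 (cokernel.condition _) (isCoh_Tw hM t hO) (isCoh_Tw hM (t + 1) hO)
        hB hC (QCohLib.isCoh_cokernel _ hB.1 hC)
      exact le_trans (Nat.le_add_right _ _) h
  | succ d IH =>
    intro ξ hξ hpos
    obtain ⟨φ, hφ⟩ := hsec ξ
    let s := (mulNat φ).app (Fpt ξ)
    haveI : Mono s := mulNat_Fpt_mono k hM φ hφ
    have hF := IntFunLib.coh_Fpt k ξ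
    have hMF : Coh.IsCoh (CohB1.tensorMod M (Fpt ξ)) := HilbPolyLib.isCoh_tensor hM hF
    have hQ : Coh.IsCoh (cokernel s) := QCohLib.isCoh_cokernel s hF.1 hMF
    have hl : ∀ A ∈ List.replicate d M, PicF.IsInvertible A := fun A hA => by
      rw [List.eq_of_mem_replicate hA]; exact hM
    have hsub : CohB1.support (cokernel s) ⊆ closure ({ξ} : Set X) := by
      refine (support_epi (cokernel.π s)).trans (le_of_eq ?_)
      rw [show CohB1.support ((CurvLib.tensorLeft' M).obj (Fpt ξ)) = CohB1.support (Fpt ξ) from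
        HilbPolyLib.support_tensor hM _, IntFunLib.supp_Fpt k]
    have hnot : ξ ∉ CohB1.support (cokernel s) :=
      DevissLib.notMem_support_cokernel s ξ (surjective_mulNat_Fpt k hM φ hφ)
    have hdQ : topologicalKrullDim (CohB1.support (cokernel s)) ≤ (d : ℕ) := by
      refine dim_le_iff.mp (dim_lt_of_notMem (QCohLib.isClosed_support _ hQ.2) hsub hnot (Y := closure {ξ})
        subset_rfl (by rw [hξ]; exact_mod_cast Nat.lt_succ_self _))
    have hN := N_add (k := k) hl (S := ShortComplex.mk s (cokernel.π s) (cokernel.condition s))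
      { exact := ShortComplex.exact_cokernel s, mono_f := inferInstanceAs (Mono s)
        epi_g := inferInstanceAs (Epi (cokernel.π s)) } hF hMF hQ
    change N k (List.replicate d M) (CohB1.tensorMod M (Fpt ξ)) = N k (List.replicate d M) (Fpt ξ) +
      N k (List.replicate d M) (cokernel s) at hN
    rw [List.replicate_succ, N, hN, add_sub_cancel_left] at hpos
    obtain ⟨η, hηQ, hηd, hηpos⟩ : ∃ η ∈ CohB1.support (cokernel s),
        topologicalKrullDim (closure ({η} : Set X)) = (d : WithBot ℕ∞) ∧ 0 < N k (List.replicate d M) (Fpt η) := by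
      by_contra hcon
      push Not at hcon
      rcases (CohB1.support (cokernel s)).eq_empty_or_nonempty with he | hne
      · refine hpos.ne' (N_low hl hQ ?_)
        rw [he]
        haveI : IsEmpty (IrreducibleCloseds (∅ : Set X)) := ⟨fun c => by
          obtain ⟨x, -⟩ := c.isIrreducible.nonempty
          exact x.2⟩
        exact (Order.krullDim_eq_bot).trans_lt (WithBot.bot_lt_coe _)
      obtain ⟨T, hT, -, hsum⟩ := N_sum (k := k) hl hQ hne (by rw [List.length_replicate]; exact hdQ)
      rw [hsum] at hpos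
      refine absurd hpos (not_lt.mpr (Finset.sum_nonpos fun y hy => ?_))
      obtain ⟨hy1, hy2⟩ := (hT y).mp hy
      rw [List.length_replicate] at hy2
      exact smul_nonpos_of_nonneg_of_nonpos (Nat.zero_le _) (hcon y hy1 hy2)
    have hηφ : ¬ Function.Surjective ((St η).map φ).hom := fun h =>
      DevissLib.notMem_support_cokernel s η (surjective_mulNat_Fpt k hM φ h) hηQ
    intro t
    induction t with
    | zero =>
      rw [Nat.zero_add, Nat.choose_self]; exact one_le_resRank_zero k M ξ
    | succ t ih =>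
      refine le_trans ?_ (resRank_succ (k := k) hM φ hφ hηφ (hsub hηQ) t)
      refine le_of_eq_of_le ?_ (Nat.add_le_add ih (IH η hηd hηpos (t + 1)))
      rw [show t + 1 + (d + 1) = (t + (d + 1)) + 1 by omega, Nat.choose_succ_succ', Nat.add_comm,
        show t + (d + 1) = t + 1 + d by omega]

/-- Semiample modules grow at least like their numerical dimension. -/
theorem grows_of_semiample {L : X.Modules} (hL : PicF.IsInvertible L) {μ₀ : ℕ} (hμ₀ : 0 < μ₀)
    (hgg : Curv2.IsGloballyGenerated (CohB1.tensorPow L μ₀)) {H : X.Modules} (hH : CohB1.IsAmple H)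
    (hnef : Nef k L) {m : ℕ} (hv : ¬ VanishIn k L m) : Grows k L m := by
  haveI := CurvLib.isNoetherian k (X := X)
  set M := CohB1.tensorPow L μ₀
  have hM : PicF.IsInvertible M := AmpleThLib.tensorPow_isInvertible hL μ₀
  simp only [VanishIn, not_forall] at hv
  obtain ⟨ξ, hξ, hne⟩ := hv
  have hpos : 0 < N k (List.replicate m M) (Fpt ξ) := by
    have key : ∀ n (l : List X.Modules), (∀ A ∈ l, PicF.IsInvertible A) → n + l.length = m →
        N k (List.replicate n M ++ l) (Fpt ξ) = (μ₀ : ℤ) ^ n * N k (List.replicate n L ++ l) (Fpt ξ) := by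
      intro n
      induction n with
      | zero => intro l _ _; simp
      | succ n ih =>
        intro l hl hlen
        have hm : ∀ A ∈ List.replicate n M ++ l, PicF.IsInvertible A := fun A hA => by
          rcases List.mem_append.mp hA with h | h
          · rw [List.eq_of_mem_replicate h]; exact hM
          · exact hl A h
        have hd : topologicalKrullDim (CohB1.support (Fpt ξ)) ≤ ((List.replicate n M ++ l).length + 1 : ℕ) := by
          rw [IntFunLib.supp_Fpt k, hξ]
          simp only [List.length_append, List.length_replicate]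
          exact_mod_cast (by omega : m ≤ n + l.length + 1)
        rw [List.replicate_succ, List.cons_append, N_pow (k := k) hm hL (IntFunLib.coh_Fpt k ξ) hd μ₀,
          N_perm (show (L :: (List.replicate n M ++ l)).Perm (List.replicate n M ++ L :: l) from
            List.perm_middle.symm), ih (L :: l) (fun A hA => by
            rcases List.mem_cons.mp hA with rfl | h; exacts [hL, hl A h]) (by simp; omega),
          N_perm (show (List.replicate n L ++ L :: l).Perm (List.replicate (n + 1) L ++ l) by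
            rw [List.replicate_succ]; exact List.perm_middle), pow_succ]
        ring
    have h1 := key m [] (by simp) (by simp)
    rw [List.append_nil, List.append_nil] at h1
    rw [h1]
    exact mul_pos (pow_pos (by exact_mod_cast hμ₀) m)
      (lt_of_le_of_ne (N_nef_nonneg_proj (k := k) hL hnef hH hξ) (Ne.symm hne))
  refine ⟨μ₀, m.factorial, hμ₀, m.factorial_pos, fun t _ => ?_⟩
  have h1 := choose_le_resRank (k := k) hM hgg m ξ hξ hpos t
  have h2 : t ^ m ≤ m.factorial * (t + m).choose m := by
    refine le_trans (Nat.pow_le_pow_left t.le_succ m) ((Nat.pow_succ_le_ascFactorial (t + 1) m).trans ?_)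
    rw [Nat.ascFactorial_eq_factorial_mul_choose]
  obtain ⟨e⟩ := nonempty_Tw (M := M) t (Coh.structureModule X)
  obtain ⟨f⟩ := nonempty_pow_pow L μ₀ t
  have h3 : resRank k M t ξ ≤ Module.finrank k (Coh.HH X (CohB1.tensorPow L (μ₀ * t)) 0) := by
    haveI := CurvLib.finite_HH (k := k) (isCoh_Tw hM t (DevissLib.isCoh_structureModule X)) 0
    haveI := CurvLib.finite_HH (k := k) (isCoh_Tw hM t (IntFunLib.coh_Fpt k ξ)) 0
    refine (LinearMap.finrank_range_le _).trans (le_of_eq ?_)
    exact HodgeIdxLib.hh_congr (e ≪≫ HilbPolyLib.swapIso _ _ ≪≫ HilbPolyLib.unitLeft _ ≪≫ f) 0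
  exact h2.trans (Nat.mul_le_mul_left _ (h1.trans h3))

/-- Globally generated modules have nonnegative degree on curves. -/
theorem N_gg_nonneg {M : X.Modules} (hM : PicF.IsInvertible M) (hgg : Curv2.IsGloballyGenerated M) {ξ : X}
    (hξ : topologicalKrullDim (closure ({ξ} : Set X)) = ((1 : ℕ) : WithBot ℕ∞)) : 0 ≤ N k [M] (Fpt ξ) := by
  haveI := CurvLib.isNoetherian k (X := X)
  have htop : ξ ∈ (⊤ : X.Opens) := trivial
  obtain ⟨σ, hσ⟩ := Groth.Agent.S1611.exists_genAt_of_gg hM hgg ξ
  let φ := QCohLib.unitHom M σ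
  have hφ : Function.Surjective ((St ξ).map φ).hom := fun z => by
    obtain ⟨r, hr⟩ := hσ.2 z
    refine ⟨r • gm (Coh.structureModule X) ξ htop (1 : Γ(X, ⊤)), ?_⟩
    refine (map_smul _ r _).trans (Eq.trans ?_ hr)
    refine congrArg (r • ·) ((gm_app φ ξ htop (1 : Γ(X, ⊤))).trans ?_)
    rw [QCohLib.unitHom_app, one_smul]
    exact congrArg (gm M ξ htop) (QCohLib.toSections_top M σ)
  let s := (mulNat φ).app (Fpt ξ)
  haveI : Mono s := mulNat_Fpt_mono k hM φ hφ
  have hF := IntFunLib.coh_Fpt k ξ
  have hMF : Coh.IsCoh (CohB1.tensorMod M (Fpt ξ)) := HilbPolyLib.isCoh_tensor hM hF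
  have hQ : Coh.IsCoh (cokernel s) := QCohLib.isCoh_cokernel s hF.1 hMF
  have hsub : CohB1.support (cokernel s) ⊆ closure ({ξ} : Set X) := by
    refine (support_epi (cokernel.π s)).trans (le_of_eq ?_)
    rw [show CohB1.support ((CurvLib.tensorLeft' M).obj (Fpt ξ)) = CohB1.support (Fpt ξ) from
      HilbPolyLib.support_tensor hM _, IntFunLib.supp_Fpt k]
  have hnot : ξ ∉ CohB1.support (cokernel s) :=
    DevissLib.notMem_support_cokernel s ξ (surjective_mulNat_Fpt k hM φ hφ)
  have hdQ : topologicalKrullDim (CohB1.support (cokernel s)) ≤ ((0 : ℕ) : WithBot ℕ∞) :=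
    dim_le_iff.mp (dim_lt_of_notMem (QCohLib.isClosed_support _ hQ.2) hsub hnot (Y := closure {ξ})
      subset_rfl (by rw [hξ]; exact_mod_cast Nat.one_lt_two))
  have hN := N_add (k := k) (l := []) (by simp) (S := ShortComplex.mk s (cokernel.π s) (cokernel.condition s))
    { exact := ShortComplex.exact_cokernel s, mono_f := inferInstanceAs (Mono s)
      epi_g := inferInstanceAs (Epi (cokernel.π s)) } hF hMF hQ
  change N k [] (CohB1.tensorMod M (Fpt ξ)) = N k [] (Fpt ξ) + N k [] (cokernel s) at hN
  rw [N, hN, add_sub_cancel_left, N, CurvLib.euler_eq_h0 (k := k) hQ (by exact_mod_cast hdQ)]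
  exact Int.natCast_nonneg _

end GrowthLib
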