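import Groth.Agent.TwistLib.PtApp
import Groth.Agent.AmpleThLib.Ample
import Groth.Prelude.Def_Twist2

/-!
# The coordinate sections of `O(1)`
-/

set_option autoImplicit false
universe u

open CategoryTheory AlgebraicGeometry TopologicalSpace

namespace GrowthLib

theorem exists_section_one {A : Type u} [CommRing A] {R : Type u} [CommRing R] [Algebra R A]
    (𝒜 : ℕ → Submodule R A) [GradedAlgebra 𝒜] (hinv : PicF.IsInvertible (Twist.twist 𝒜 ((1 : ℕ) : ℤ)))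
    {t : A} (ht : t ∈ 𝒜 1) {x : Proj 𝒜} (hx : x ∈ Proj.basicOpen 𝒜 t) :
    ∃ s : Coh.structureModule (Proj 𝒜) ⟶ Twist.twist 𝒜 ((1 : ℕ) : ℤ),
      x ∈ CohB1.genLocus (Twist.twist 𝒜 ((1 : ℕ) : ℤ)) s := by
  refine ⟨QCohLib.unitHom _ (Twist.globalOf 𝒜 ⟨t, ht⟩), ?_⟩
  rw [AmpleThLib.genLocus_unitHom hinv]
  exact (AmpleLib.genAt_res (le_top : Proj.basicOpen 𝒜 t ≤ ⊤) _ hx).mp
    ((TwistLib.globalOf_genOn 𝒜 ht).genAt hx)

end GrowthLib
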