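import Groth.Agent.GrowthLib.Pullback
import Groth.Agent.GenusZeroLib.Embed
import Groth.Agent.PnCohLib.Serre
import Groth.Agent.FormalCohLib.ProjAmple
import Groth.Agent.SerreVanLib.Main
import Groth.Agent.IntFunLib.Main
import Groth.Agent.S1611

/-!
# Cohomology of powers of globally generated invertible modules
-/

set_option autoImplicit false
set_option linter.style.haveILetI false
set_option maxHeartbeats 1000000
universe u

open CategoryTheory CategoryTheory.Limits AlgebraicGeometry TopologicalSpace Opposite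
open HilbPolyLib IntFunLib
open HodgeIdxLib (hh)
open TwistLib (genSet)

noncomputable section

namespace GrowthLib

variable {X : Scheme.{u}}

theorem nonempty_tensorPow_congr {L M : X.Modules} (e : L ≅ M) :
    ∀ n : ℕ, Nonempty (CohB1.tensorPow L n ≅ CohB1.tensorPow M n)
  | 0 => ⟨Iso.refl _⟩
  | n + 1 => by
    obtain ⟨i⟩ := nonempty_tensorPow_congr e n
    exact ⟨HilbPolyLib.congrLeft i L ≪≫ HilbPolyLib.congrRight _ e⟩

variable {k : Type u} [Field k] [X.Over (Spec (CommRingCat.of k))] [IsProper (X ↘ Spec (CommRingCat.of k))]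

variable (k) in
include k in
theorem exists_toProjSpace {L : X.Modules} (hL : PicF.IsInvertible L) (hgen : Curv2.IsGloballyGenerated L) :
    ∃ (m : ℕ) (φ : X ⟶ CohB1.ProjSpace m k), φ ≫ CohB1.ProjSpace.toSpec m k = X ↘ Spec (CommRingCat.of k) ∧
      Nonempty ((Scheme.Modules.pullback φ).obj (Twist.twistProjSpace m k 1) ≅ L) := by
  classical
  haveI := CurvLib.isNoetherian k (X := X)
  choose σ hσ using fun x => Groth.Agent.S1611.exists_genAt_of_gg hL hgen x
  obtain ⟨t, ht⟩ := isCompact_univ.elim_finite_subcover (fun x : X => (genSet hL (σ x) : Set X))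
    (fun x => (genSet hL (σ x)).2) (fun x _ => Set.mem_iUnion.mpr ⟨x, hσ x⟩)
  let v : Fin (t.card + 1) → Γ(L, ⊤) := fun i => if h : i.1 < t.card then σ (t.equivFin.symm ⟨i.1, h⟩).1 else 0
  have hv : ∀ y : X, ∃ i, y ∈ genSet hL (v i) := fun y => by
    obtain ⟨x, hx, hy⟩ := Set.mem_iUnion₂.mp (ht (Set.mem_univ y))
    refine ⟨⟨(t.equivFin ⟨x, hx⟩).1, by omega⟩, ?_⟩
    simp only [v, (t.equivFin ⟨x, hx⟩).2, dite_true, Fin.eta, Equiv.symm_apply_apply]
    exact hy
  obtain ⟨r, hr, -, -, hiso⟩ := GenusZeroLib.exists_toPA_iso (X ↘ Spec (CommRingCat.of k)) hL v hv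
  refine ⟨t.card, r, hr, ?_⟩
  have h1 : Twist.twistProjSpace t.card k 1 = Twist.twist (CohB1.polyGrading t.card k) ((1 : ℕ) : ℤ) := by
    rw [Nat.cast_one]; rfl
  rw [h1]
  exact hiso

/-- Higher cohomology of powers of a globally generated invertible module grows at most like `n^{r-1}`. -/
theorem exists_bound_gg {L : X.Modules} (hL : PicF.IsInvertible L) (hgen : Curv2.IsGloballyGenerated L) {r : ℕ}
    (hr : topologicalKrullDim X ≤ (r : ℕ)) {i : ℕ} (hi : 0 < i) :
    ∃ C : ℕ, ∀ n : ℕ, hh k (CohB1.tensorPow L n) i ≤ C * (n + 1) ^ (r - 1) := by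
  classical
  haveI := CurvLib.isNoetherian k (X := X)
  obtain ⟨m, φ, hφ, ⟨e⟩⟩ := exists_toProjSpace k hL hgen
  haveI : IsProper (CohB1.ProjSpace m k ↘ Spec (CommRingCat.of k)) := FormalCohLib.isProper_projToSpec m k
  haveI := CurvLib.isNoetherian k (X := CohB1.ProjSpace m k)
  have hA : CohB1.IsAmple (Twist.twistProjSpace m k 1) := FormalCohLib.isAmple_twistProjSpace m k
  have hAi : PicF.IsInvertible (Twist.twistProjSpace m k 1) := hA.1
  haveI := isProper_of_over φ hφ
  have hsupp : ∀ q, topologicalKrullDim (CohB1.support (rO φ (q + 1))) < (r : ℕ) := fun q => by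
    refine IntFunLib.dim_lt_of_points (QCohLib.isClosed_support _ (isCoh_rO φ hφ _).2) fun y hy => ?_
    refine dim_closure_lt_of_infinite k (f := φ) (S := Set.univ) isClosed_univ (fun hfin => ?_)
      ((IsHomeomorph.topologicalKrullDim_eq _ (Homeomorph.Set.univ _).isHomeomorph).trans_lt (dim_le_iff.mpr hr))
    exact notMem_support_rpush_of_finite φ (DevissLib.isCoh_structureModule X) y
      (hfin.subset (Set.inter_subset_inter_left _ (Set.subset_univ _))) q hy
  choose C hC using fun q => exists_small_pow (k := k) hA hAi (isCoh_rO φ hφ (q + 1)) (hsupp q)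
  obtain ⟨n₀, hn₀⟩ := SerreVanLib.exists_vanishing (CohB1.ProjSpace m k ↘ Spec (CommRingCat.of k)) hAi hA _
    (isCoh_rO φ hφ 0)
  refine ⟨(∑ n ∈ Finset.range n₀, hh k (CohB1.tensorMod (rO φ 0) (CohB1.tensorPow (Twist.twistProjSpace m k 1) n)) i) +
    2 * ∑ j ∈ Finset.range i, ∑ _p ∈ Finset.range (i + 1), C j, fun n => ?_⟩
  have h0 : hh k (CohB1.tensorMod (rO φ 0) (CohB1.tensorPow (Twist.twistProjSpace m k 1) n)) i ≤
      (∑ n ∈ Finset.range n₀, hh k (CohB1.tensorMod (rO φ 0) (CohB1.tensorPow (Twist.twistProjSpace m k 1) n)) i) *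
        (n + 1) ^ (r - 1) := by
    by_cases hn : n < n₀
    · exact le_trans (Finset.single_le_sum (f := fun n => hh k (CohB1.tensorMod (rO φ 0)
        (CohB1.tensorPow (Twist.twistProjSpace m k 1) n)) i) (fun _ _ => Nat.zero_le _) (Finset.mem_range.mpr hn))
        (Nat.le_mul_of_pos_right _ (by positivity))
    · haveI := hn₀ n (not_lt.mp hn) i hi
      rw [show hh k (CohB1.tensorMod (rO φ 0) (CohB1.tensorPow (Twist.twistProjSpace m k 1) n)) i = 0 from
        Module.finrank_zero_of_subsingleton]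
      exact Nat.zero_le _
  have h1 : ∀ j p, hh k (CohB1.tensorMod (rO φ (j + 1)) (CohB1.tensorPow (Twist.twistProjSpace m k 1) n)) p ≤
      C j * (n + 1) ^ (r - 1) := fun j p => by
    have h := hC j p n
    rcases Nat.eq_zero_or_pos r with h0 | h0
    · subst h0
      rw [pow_zero] at h ⊢
      exact le_trans (Nat.le_mul_of_pos_left _ (by omega)) h
    · refine Nat.le_of_mul_le_mul_left ?_ (Nat.succ_pos n)
      refine h.trans (le_of_eq ?_)
      rw [mul_left_comm, ← pow_succ', Nat.sub_add_cancel h0]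
  have hp := (abs_le.mp (pullback_bound φ hφ hAi n i)).2
  obtain ⟨en⟩ := nonempty_tensorPow_congr e n
  rw [HodgeIdxLib.hh_congr en i] at hp
  have h2 : ∑ j ∈ Finset.range i, ∑ p ∈ Finset.range (i + 1),
      hh k (CohB1.tensorMod (rO φ (j + 1)) (CohB1.tensorPow (Twist.twistProjSpace m k 1) n)) p ≤
      (∑ j ∈ Finset.range i, ∑ _p ∈ Finset.range (i + 1), C j) * (n + 1) ^ (r - 1) := by
    simp only [Finset.sum_mul]
    exact Finset.sum_le_sum fun j _ => Finset.sum_le_sum fun p _ => h1 j p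
  have h5 : hh k (CohB1.tensorPow L n) i ≤
      hh k (CohB1.tensorMod (rO φ 0) (CohB1.tensorPow (Twist.twistProjSpace m k 1) n)) i +
        2 * ∑ j ∈ Finset.range i, ∑ p ∈ Finset.range (i + 1),
          hh k (CohB1.tensorMod (rO φ (j + 1)) (CohB1.tensorPow (Twist.twistProjSpace m k 1) n)) p := by
    zify; linarith
  rw [add_mul, mul_assoc]
  omega

end GrowthLib

end
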