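import Groth.Agent.GrowthLib.NegTwist
import Groth.Agent.GrowthLib.GlobGen

/-!
# Non-vanishing of top cohomology of negative twists
-/

set_option autoImplicit false
set_option linter.style.haveILetI false
set_option maxHeartbeats 1000000
universe u

open CategoryTheory CategoryTheory.Limits AlgebraicGeometry TopologicalSpace Opposite
open HilbPolyLib IntFunLib
open HodgeIdxLib (hh)

noncomputable section

namespace GrowthLib

variable {X : Scheme.{u}} {k : Type u} [Field k] [X.Over (Spec (CommRingCat.of k))]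
  [IsProper (X ↘ Spec (CommRingCat.of k))]

/-- Top cohomology of negative twists by an ample module without base points is not identically zero. -/
theorem exists_top_nonvanishing {L M : X.Modules} (hA : CohB1.IsAmple L) (hM : PicF.IsInvertible M)
    (eLM : CohB1.tensorMod L M ≅ Coh.structureModule X)
    (hbs : ∀ x : X, ∃ s : Coh.structureModule X ⟶ L, x ∈ CohB1.genLocus L s) {G : X.Modules} (hG : Coh.IsCoh G)
    {a : ℕ} (ha : 0 < a) (hd : topologicalKrullDim (CohB1.support G) = (a : ℕ)) :
    ∃ m : ℕ, hh k (CohB1.tensorMod (CohB1.tensorPow M m) G) a ≠ 0 := by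
  by_contra hcon
  push Not at hcon
  haveI := CurvLib.isNoetherian k (X := X)
  have hL := hA.1
  obtain ⟨P, hP⟩ := exists_isHilbPoly' (k := k) hL hG
  have hGd : ∀ s, topologicalKrullDim (CohB1.support (CohB1.tensorMod (CohB1.tensorPow M s) G)) ≤ (a : ℕ) :=
    fun s => by rw [HilbPolyLib.support_tensor (AmpleThLib.tensorPow_isInvertible hM s)]; exact hd.le
  have hMs : ∀ s, Coh.IsCoh (CohB1.tensorMod (CohB1.tensorPow M s) G) := fun s =>
    HilbPolyLib.isCoh_tensor (AmpleThLib.tensorPow_isInvertible hM s) hG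
  -- the Euler characteristic of negative twists
  have hshift : ∀ n s : ℕ, Nonempty (CohB1.tensorMod (CohB1.tensorPow L (n + s)) (CohB1.tensorMod (CohB1.tensorPow M s) G) ≅
      CohB1.tensorMod (CohB1.tensorPow L n) G) := by
    intro n s
    induction s with
    | zero => exact ⟨HilbPolyLib.congrRight _ (HilbPolyLib.unitLeft G)⟩
    | succ s ih =>
      obtain ⟨e⟩ := ih
      refine ⟨?_ ≪≫ e⟩
      exact HilbPolyLib.assocIso (CohB1.tensorPow L (n + s)) L _ ≪≫ HilbPolyLib.congrRight _
        ((HilbPolyLib.assocIso L (CohB1.tensorPow M (s + 1)) G).symm ≪≫ HilbPolyLib.congrLeft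
          ((HilbPolyLib.assocIso L (CohB1.tensorPow M s) M).symm ≪≫
            HilbPolyLib.congrLeft (HilbPolyLib.swapIso L (CohB1.tensorPow M s)) M ≪≫
            HilbPolyLib.assocIso (CohB1.tensorPow M s) L M ≪≫ HilbPolyLib.congrRight _ eLM ≪≫
            HilbPolyLib.swapIso _ _ ≪≫ HilbPolyLib.unitLeft _) G)
  have hneg : ∀ s : ℕ, P.eval (-(s : ℚ)) =
      (Curv2.euler k X (CohB1.tensorMod (CohB1.tensorPow M s) G) : ℚ) := by
    intro s
    obtain ⟨Q, hQ⟩ := exists_isHilbPoly' (k := k) hL (hMs s)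
    have e : Q.comp (Polynomial.X + Polynomial.C (s : ℚ)) = P := by
      refine eq_of_eval_nat fun n => ?_
      obtain ⟨i⟩ := hshift n s
      rw [Polynomial.eval_comp, Polynomial.eval_add, Polynomial.eval_X, Polynomial.eval_C, ← Nat.cast_add,
        ← hP n, ← hQ (n + s), euler_twist, euler_twist, CurvLib.euler_congr i]
    rw [← e, Polynomial.eval_comp, Polynomial.eval_add, Polynomial.eval_X, Polynomial.eval_C, neg_add_cancel,
      show (0 : ℚ) = ((0 : ℕ) : ℚ) from Nat.cast_zero.symm, ← hQ 0, euler_twist]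
    exact congrArg _ (CurvLib.euler_congr (HilbPolyLib.unitLeft _))
  obtain ⟨C, hC⟩ := exists_bound_neg (k := k) hA hL hM eLM hbs a G hG hd.le
  refine (alpha_pos hA hG hP hd).ne' ?_
  rw [StabCat.alpha, coeff_eq_zero_of_bound ha (natDegree_le hA hG hP hd.le) (C := (a + 1) * C) fun m => ?_, mul_zero]
  rw [hneg m, CurvLib.euler_eq_sum (d := a + 1) fun n hn =>
    CurvLib.subsingleton_HH_of_support_dim _ (hMs m).2 (hGd m) n (by omega)]
  push_cast
  refine (Finset.abs_sum_le_sum_abs _ _).trans ?_
  refine le_trans (Finset.sum_le_card_nsmul _ _ ((C : ℚ) * ((m : ℚ) + 1) ^ (a - 1)) fun p hp => ?_) (le_of_eq ?_)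
  · rw [abs_mul, abs_pow, abs_neg, abs_one, one_pow, one_mul, Nat.abs_cast]
    rcases lt_or_eq_of_le (Nat.lt_succ_iff.mp (Finset.mem_range.mp hp)) with h | h
    · exact_mod_cast hC p h m
    · subst h
      rw [show Module.finrank k (Coh.HH X (CohB1.tensorMod (CohB1.tensorPow M m) G) p) = 0 from hcon m]
      simp only [Nat.cast_zero]; positivity
  · rw [Finset.card_range, nsmul_eq_mul]; push_cast; ring

end GrowthLib

end
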