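import Groth.Agent.GrowthLib.Core

/-!
# Bigness by growth of sections
-/

set_option autoImplicit false
set_option linter.style.haveILetI false
set_option maxHeartbeats 1000000
universe u

open CategoryTheory CategoryTheory.Limits AlgebraicGeometry TopologicalSpace Opposite
open HilbPolyLib DevissLib IntMultLib IntFunLib
open HodgeIdxLib (hh)
open KFlatLib (pb)

noncomputable section

namespace GrowthLib

theorem cls_tpow {X : Scheme.{u}} [PicGrp.Law X] {A : X.Modules} (hA : PicF.IsInvertible A) (n : ℕ) :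
    PicGrp.cls (CohB1.tensorPow A n) (AmpleThLib.tensorPow_isInvertible hA n) = PicGrp.cls A hA ^ n :=
  Subtype.ext (PicGrp.cls_pow_val hA n).symm

/-- Products of monomorphisms of invertible modules. -/
theorem exists_mono_mul {X : Scheme.{u}} {P Q P' Q' : X.Modules} (hQ : PicF.IsInvertible Q)
    (hP' : PicF.IsInvertible P') (φ : P ⟶ Q) [Mono φ] (ψ : P' ⟶ Q') [Mono ψ] :
    ∃ χ : CohB1.tensorMod P P' ⟶ CohB1.tensorMod Q Q', Mono χ := by
  obtain ⟨a, ha⟩ := mono_tensor' hP' φ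
  obtain ⟨b, hb⟩ := NumRLib.mono_tensor hQ ψ
  exact ⟨a ≫ b, mono_comp' ha hb⟩

/-- A section of a power from two sections. -/
theorem exists_section_add {X : Scheme.{u}} {L : X.Modules} (hL : PicF.IsInvertible L) {a b : ℕ}
    (σ : Coh.structureModule X ⟶ CohB1.tensorPow L a) [Mono σ] (τ : Coh.structureModule X ⟶ CohB1.tensorPow L b)
    [Mono τ] : ∃ s : Coh.structureModule X ⟶ CohB1.tensorPow L (a + b), Mono s := by
  obtain ⟨χ, hχ⟩ := exists_mono_mul (AmpleThLib.tensorPow_isInvertible hL a) CurvLib.isInvertible_structureModule σ τ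
  obtain ⟨e⟩ := IntMultLib.nonempty_tensorPow_add L a b
  exact ⟨(HilbPolyLib.unitLeft (Coh.structureModule X)).inv ≫ χ ≫ e.inv,
    mono_comp' inferInstance (mono_comp' hχ inferInstance)⟩

/-- Sections in all large degrees from two consecutive ones. -/
theorem exists_section_of_consecutive {X : Scheme.{u}} {L : X.Modules} (hL : PicF.IsInvertible L) {p : ℕ}
    (σ : Coh.structureModule X ⟶ CohB1.tensorPow L p) [Mono σ]
    (τ : Coh.structureModule X ⟶ CohB1.tensorPow L (p + 1)) [Mono τ] :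
    ∀ M, p * p ≤ M → ∃ s : Coh.structureModule X ⟶ CohB1.tensorPow L M, Mono s := by
  have key : ∀ a b : ℕ, ∃ s : Coh.structureModule X ⟶ CohB1.tensorPow L (a * p + b * (p + 1)), Mono s := by
    intro a b
    induction b with
    | zero =>
      induction a with
      | zero =>
        exact ⟨(eqToIso (congrArg (CohB1.tensorPow L) (by simp : 0 = 0 * p + 0 * (p + 1)))).hom, inferInstance⟩
      | succ a ih =>
        obtain ⟨s, hs⟩ := ih
        obtain ⟨t, ht⟩ := exists_section_add hL s σ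
        exact ⟨t ≫ eqToHom (congrArg (CohB1.tensorPow L) (by ring)), mono_comp' ht inferInstance⟩
    | succ b ih =>
      obtain ⟨s, hs⟩ := ih
      obtain ⟨t, ht⟩ := exists_section_add hL s τ
      exact ⟨t ≫ eqToHom (congrArg (CohB1.tensorPow L) (by ring)), mono_comp' ht inferInstance⟩
  intro M hM
  rcases Nat.eq_zero_or_pos p with rfl | hp
  · obtain ⟨t, ht⟩ := key 0 M
    exact ⟨t ≫ eqToHom (congrArg (CohB1.tensorPow L) (by simp)), mono_comp' ht inferInstance⟩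
  have hr : M % p ≤ M / p := le_trans (Nat.mod_lt M hp).le (Nat.le_div_iff_mul_le hp |>.mpr hM)
  obtain ⟨t, ht⟩ := key (M / p - M % p) (M % p)
  refine ⟨t ≫ eqToHom (congrArg (CohB1.tensorPow L) ?_), mono_comp' ht inferInstance⟩
  zify [hr]
  linear_combination (Int.mul_ediv_add_emod (M : ℤ) (p : ℤ))

/-- A polynomial is eventually at least half its top term. -/
theorem eventually_ge_half {d : ℕ} {P : Polynomial ℚ} (hP : P.natDegree ≤ d) {c : ℚ} (hc : P.coeff d = c)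
    (h0 : 0 < c) : ∃ N : ℕ, ∀ m : ℕ, N ≤ m → c / 2 * (m : ℚ) ^ d ≤ P.eval (m : ℚ) := by
  set K := ∑ i ∈ Finset.range d, |P.coeff i|
  refine ⟨⌈2 * K * 2 ^ d / c⌉₊ + 1, fun m hm => ?_⟩
  have h := abs_eval_sub_top hP m
  rw [hc] at h
  have h1 := neg_abs_le (P.eval (m : ℚ) - c * (m : ℚ) ^ d)
  have hm1 : (1 : ℚ) ≤ m := by exact_mod_cast le_trans (Nat.le_add_left 1 _) hm
  rcases Nat.eq_zero_or_pos d with rfl | hd
  · simp only [Finset.range_zero, Finset.sum_empty, K] at h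
    simp only [zero_mul, pow_zero, mul_one] at h ⊢
    simp only [pow_zero, mul_one] at h1
    linarith
  obtain ⟨e, rfl⟩ : ∃ e, d = e + 1 := ⟨d - 1, by omega⟩
  have hK : 0 ≤ K := Finset.sum_nonneg fun i _ => abs_nonneg _
  have h2 : K * ((m : ℚ) + 1) ^ e ≤ c / 2 * (m : ℚ) ^ (e + 1) := by
    have h3 : ((m : ℚ) + 1) ^ e ≤ 2 ^ (e + 1) * (m : ℚ) ^ e := by
      calc ((m : ℚ) + 1) ^ e ≤ (2 * m) ^ e := pow_le_pow_left₀ (by positivity) (by linarith) e
        _ = 2 ^ e * (m : ℚ) ^ e := mul_pow _ _ _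
        _ ≤ _ := mul_le_mul_of_nonneg_right (pow_le_pow_right₀ (by norm_num) e.le_succ) (by positivity)
    have h4 : 2 * K * 2 ^ (e + 1) / c ≤ (m : ℚ) :=
      (Nat.le_ceil _).trans (by exact_mod_cast le_trans (Nat.le_add_right _ 1) hm)
    rw [div_le_iff₀ h0] at h4
    calc K * ((m : ℚ) + 1) ^ e ≤ K * (2 ^ (e + 1) * (m : ℚ) ^ e) := mul_le_mul_of_nonneg_left h3 hK
      _ = (2 * K * 2 ^ (e + 1)) / 2 * (m : ℚ) ^ e := by ring
      _ ≤ (m * c) / 2 * (m : ℚ) ^ e := by gcongr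
      _ = _ := by ring
  rw [Nat.add_sub_cancel] at h
  linarith

section

variable (k : Type u) [Field k] {X : Scheme.{u}} [X.Over (Spec (CommRingCat.of k))]

/-- Growth along multiples. -/
abbrev Grows (L : X.Modules) (n : ℕ) : Prop :=
  ∃ ν a : ℕ, 0 < ν ∧ 0 < a ∧ ∀ μ : ℕ, 1 ≤ μ →
    μ ^ n ≤ a * Module.finrank k (Coh.HH X (CohB1.tensorPow L (ν * μ)) 0)

/-- Eventual growth. -/
abbrev EvGrows (L : X.Modules) (n : ℕ) : Prop :=
  ∃ C : ℝ, 0 < C ∧ ∃ m₁ : ℕ, ∀ m : ℕ, m₁ ≤ m →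
    C * (m : ℝ) ^ n ≤ (Module.finrank k (Coh.HH X (CohB1.tensorPow L m) 0) : ℝ)

/-- Some power contains an ample module. -/
abbrev BigPow (L : X.Modules) : Prop :=
  ∃ (ν : ℕ) (A : X.Modules) (φ : A ⟶ CohB1.tensorPow L ν), 0 < ν ∧ CohB1.IsAmple A ∧ Mono φ

variable {k}

theorem grows_of_evGrows {L : X.Modules} {n : ℕ} (h : EvGrows k L n) : Grows k L n := by
  obtain ⟨C, hC, m₁, h⟩ := h
  refine ⟨m₁ + 1, ⌈1 / C⌉₊ + 1, Nat.succ_pos _, Nat.succ_pos _, fun μ hμ => ?_⟩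
  have hle : m₁ ≤ (m₁ + 1) * μ := le_trans m₁.le_succ (Nat.le_mul_of_pos_right _ hμ)
  have h1 := h _ hle
  set f := Module.finrank k (Coh.HH X (CohB1.tensorPow L ((m₁ + 1) * μ)) 0)
  have h2 : C * (μ : ℝ) ^ n ≤ f := by
    refine le_trans (mul_le_mul_of_nonneg_left (pow_le_pow_left₀ (by positivity) ?_ n) hC.le) h1
    exact_mod_cast Nat.le_mul_of_pos_left μ m₁.succ_pos
  have h3 : (μ : ℝ) ^ n ≤ (1 / C) * f := by
    rw [one_div_mul_eq_div, le_div_iff₀ hC]; linarith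
  have h4 : (μ : ℝ) ^ n ≤ ((⌈1 / C⌉₊ + 1) * f : ℕ) := by
    refine h3.trans ?_
    push_cast
    exact mul_le_mul_of_nonneg_right (le_trans (Nat.le_ceil _) (le_add_of_nonneg_right zero_le_one)) (by positivity)
  exact_mod_cast h4

variable [IsProper (X ↘ Spec (CommRingCat.of k))] [IsIntegral X]

include k in
/-- Large powers of an ample module absorb any invertible module. -/
theorem exists_mono_large {A : X.Modules} (hA : CohB1.IsAmple A) {B : X.Modules} (hB : PicF.IsInvertible B) :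
    ∃ n₀ : ℕ, ∀ n, n₀ ≤ n → ∃ φ : B ⟶ CohB1.tensorPow A n, Mono φ := by
  haveI := CurvLib.isNoetherian k (X := X)
  haveI : X.IsSeparated := ⟨by
    rw [show Limits.terminal.from X = (X ↘ Spec (CommRingCat.of k)) ≫ Limits.terminal.from _ from Subsingleton.elim _ _]
    infer_instance⟩
  letI := LMLib.law X
  obtain ⟨B', hB', ⟨e⟩⟩ := NumRLib.exists_inverse (k := k) hB
  obtain ⟨n₀, -, hn⟩ := MiscFlat6.eventually_ample_globallyGenerated hA hB'
  refine ⟨n₀, fun n hn' => ?_⟩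
  obtain ⟨s, hs⟩ := NumRLib.exists_mono_of_globallyGenerated
    (HilbPolyLib.isInvertible_tensor (AmpleThLib.tensorPow_isInvertible hA.1 n) hB') (hn n hn').2
  exact NumRLib.exists_mono_twist (k := k) hB e s

include k in
theorem isBigMod_of_bigPow {L : X.Modules} (hL : PicF.IsInvertible L) (h : BigPow L) : NumRLib.IsBigMod L := by
  obtain ⟨ν, A, φ, hν, hA, hφ⟩ := h
  intro B hB
  obtain ⟨n₀, hn⟩ := exists_mono_large (k := k) hA hB.1
  obtain ⟨s, hs⟩ := hn (n₀ + 1) n₀.le_succ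
  obtain ⟨ψ, hψ⟩ := exists_mono_pow hA.1 (AmpleThLib.tensorPow_isInvertible hL ν) φ (n₀ + 1)
  obtain ⟨e⟩ := nonempty_pow_pow L ν (n₀ + 1)
  exact ⟨ν * (n₀ + 1), s ≫ ψ ≫ e.hom, Nat.mul_pos hν n₀.succ_pos,
    mono_comp' hs (mono_comp' hψ inferInstance)⟩

/-- Lower bound for powers of an ample module. -/
theorem exists_lower_ample {A : X.Modules} (hA : CohB1.IsAmple A) {n : ℕ}
    (hn : topologicalKrullDim X = (n : WithBot ℕ∞)) :
    ∃ N a : ℕ, 0 < a ∧ ∀ m, N ≤ m → m ^ n ≤ a * hh k (CohB1.tensorPow A m) 0 := by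
  haveI := CurvLib.isNoetherian k (X := X)
  have hO := DevissLib.isCoh_structureModule X
  have hdim : topologicalKrullDim (CohB1.support (Coh.structureModule X)) = (n : WithBot ℕ∞) := by
    rw [support_structureModule', ← hn]
    exact (Homeomorph.Set.univ _).isHomeomorph.topologicalKrullDim_eq
  obtain ⟨P, hP⟩ := HilbPolyLib.exists_isHilbPoly' (k := k) hA.1 hO
  have hdeg := HilbPolyLib.natDegree_le hA hO hP hdim.le
  have hα := HilbPolyLib.alpha_pos hA hO hP hdim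
  have hc : 0 < P.coeff n := by
    rcases lt_or_ge 0 (P.coeff n) with h | h
    · exact h
    · exact absurd hα (not_lt.mpr (mul_nonpos_of_nonneg_of_nonpos (by positivity) h))
  obtain ⟨N₁, hN₁⟩ := eventually_ge_half hdeg rfl hc
  obtain ⟨N₂, hN₂⟩ := HilbPolyLib.exists_eval_eq_finrank hA hO hP
  refine ⟨max N₁ N₂, ⌈2 / P.coeff n⌉₊ + 1, Nat.succ_pos _, fun m hm => ?_⟩
  have h1 := hN₁ m (le_of_max_le_left hm)
  rw [hN₂ m (le_of_max_le_right hm)] at h1
  have e : hh k (CohB1.tensorMod (CohB1.tensorPow A m) (Coh.structureModule X)) 0 = hh k (CohB1.tensorPow A m) 0 :=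
    HodgeIdxLib.hh_congr (HilbPolyLib.swapIso _ _ ≪≫ HilbPolyLib.unitLeft _) 0
  change P.coeff n / 2 * (m : ℚ) ^ n ≤ ((hh k (CohB1.tensorMod (CohB1.tensorPow A m) (Coh.structureModule X)) 0 : ℕ) : ℚ) at h1
  rw [e] at h1
  have h2 : (m : ℚ) ^ n ≤ (2 / P.coeff n) * (hh k (CohB1.tensorPow A m) 0 : ℚ) := by
    rw [div_mul_eq_mul_div, le_div_iff₀ hc]; linarith
  have h3 : (m : ℚ) ^ n ≤ (((⌈2 / P.coeff n⌉₊ + 1) * hh k (CohB1.tensorPow A m) 0 : ℕ) : ℚ) := by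
    refine h2.trans ?_
    push_cast
    exact mul_le_mul_of_nonneg_right (le_trans (Nat.le_ceil _) (le_add_of_nonneg_right zero_le_one)) (by positivity)
  exact_mod_cast h3

include k in
/-- Sections in all large degrees, and one degree with a large ample module inside. -/
theorem exists_sections_of_isBigMod {H : X.Modules} (hH : CohB1.IsAmple H) {L : X.Modules}
    (hL : PicF.IsInvertible L) (h : NumRLib.IsBigMod L) :
    ∃ M₀ : ℕ, ∀ M, M₀ ≤ M → ∃ s : Coh.structureModule X ⟶ CohB1.tensorPow L M, Mono s := by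
  haveI := CurvLib.isNoetherian k (X := X)
  haveI : X.IsSeparated := ⟨by
    rw [show Limits.terminal.from X = (X ↘ Spec (CommRingCat.of k)) ≫ Limits.terminal.from _ from Subsingleton.elim _ _]
    infer_instance⟩
  letI := LMLib.law X
  obtain ⟨n₁, hn₁⟩ := exists_mono_large (k := k) hH CurvLib.isInvertible_structureModule
  obtain ⟨n₂, -, hn₂⟩ := MiscFlat6.eventually_ample_globallyGenerated hH hL
  obtain ⟨hBA, hBG⟩ := hn₂ (max n₁ n₂) (le_max_right _ _)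
  set Hn := CohB1.tensorPow H (max n₁ n₂) with hHndef
  obtain ⟨t, ht⟩ : ∃ t : Coh.structureModule X ⟶ Hn, Mono t := hn₁ (max n₁ n₂) (le_max_left _ _)
  have hHn : PicF.IsInvertible Hn := AmpleThLib.tensorPow_isInvertible hH.1 _
  obtain ⟨s, hs⟩ := NumRLib.exists_mono_of_globallyGenerated (HilbPolyLib.isInvertible_tensor hHn hL) hBG
  obtain ⟨m, φ, hm, hφ⟩ := h _ hBA
  obtain ⟨p, rfl⟩ : ∃ p, m = p + 1 := ⟨m - 1, by omega⟩
  have hτ : Mono (s ≫ φ) := mono_comp' hs hφ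
  obtain ⟨L', hL', ⟨e⟩⟩ := NumRLib.exists_inverse (k := k) hL
  obtain ⟨ψ, hψ⟩ := mono_tensor' hL' φ
  let e₁ := HilbPolyLib.assocIso Hn L L' ≪≫ HilbPolyLib.congrRight Hn e ≪≫ HilbPolyLib.swapIso _ _ ≪≫ HilbPolyLib.unitLeft Hn
  let e₂ := HilbPolyLib.assocIso (CohB1.tensorPow L p) L L' ≪≫ HilbPolyLib.congrRight _ e ≪≫
    HilbPolyLib.swapIso _ _ ≪≫ HilbPolyLib.unitLeft (CohB1.tensorPow L p)
  have hσ : Mono (t ≫ e₁.inv ≫ ψ ≫ e₂.hom) :=
    mono_comp' ht (mono_comp' inferInstance (mono_comp' hψ inferInstance))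
  exact ⟨p * p, @exists_section_of_consecutive X L hL p (t ≫ e₁.inv ≫ ψ ≫ e₂.hom) hσ (s ≫ φ) hτ⟩

theorem evGrows_of_isBigMod {H : X.Modules} (hH : CohB1.IsAmple H) {L : X.Modules} (hL : PicF.IsInvertible L)
    {n : ℕ} (hn : topologicalKrullDim X = (n : WithBot ℕ∞)) (h : NumRLib.IsBigMod L) : EvGrows k L n := by
  haveI := CurvLib.isNoetherian k (X := X)
  obtain ⟨ν, φ, hν, hφ⟩ := h H hH
  obtain ⟨M₀, hM₀⟩ := exists_sections_of_isBigMod (k := k) hH hL h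
  obtain ⟨N, a, ha, hlow⟩ := exists_lower_ample (k := k) hH hn
  refine ⟨1 / ((a : ℝ) * (2 * ν : ℕ) ^ n), by positivity, M₀ + ν * N + 2 * (M₀ + ν), fun M hM => ?_⟩
  set μ := (M - M₀) / ν
  have hμ1 : ν * μ ≤ M - M₀ := Nat.mul_div_le _ _
  have hμ2 : M - M₀ < ν * (μ + 1) := Nat.lt_mul_div_succ _ hν
  rw [Nat.mul_succ] at hμ2
  have hNμ : N ≤ μ := (Nat.le_div_iff_mul_le hν).mpr (by rw [mul_comm]; omega)
  obtain ⟨s, hs⟩ := hM₀ (M - ν * μ) (by omega)
  have hHμ := AmpleThLib.tensorPow_isInvertible hH.1 μ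
  have hLν := AmpleThLib.tensorPow_isInvertible hL ν
  obtain ⟨ψ, hψ⟩ := exists_mono_pow hH.1 hLν φ μ
  obtain ⟨e⟩ := nonempty_pow_pow L ν μ
  haveI : Mono (ψ ≫ e.hom) := mono_comp' hψ inferInstance
  obtain ⟨χ, hχ⟩ := exists_mono_mul (AmpleThLib.tensorPow_isInvertible hL (ν * μ))
    CurvLib.isInvertible_structureModule (ψ ≫ e.hom) s
  obtain ⟨e'⟩ := IntMultLib.nonempty_tensorPow_add L (ν * μ) (M - ν * μ)
  let e₁ := HilbPolyLib.swapIso (CohB1.tensorPow H μ) (Coh.structureModule X) ≪≫ HilbPolyLib.unitLeft _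
  let e₂ : CohB1.tensorMod (CohB1.tensorPow L (ν * μ)) (CohB1.tensorPow L (M - ν * μ)) ≅ CohB1.tensorPow L M :=
    e'.symm ≪≫ eqToIso (congrArg (CohB1.tensorPow L) (by omega))
  haveI : Mono (e₁.inv ≫ χ ≫ e₂.hom) := mono_comp' inferInstance (mono_comp' hχ inferInstance)
  have h1 : hh k (CohB1.tensorPow H μ) 0 ≤ hh k (CohB1.tensorPow L M) 0 :=
    hh_le_of_mono (e₁.inv ≫ χ ≫ e₂.hom) (CurvLib.isCoh_of_isInvertible hHμ)
      (CurvLib.isCoh_of_isInvertible (AmpleThLib.tensorPow_isInvertible hL M))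
  have h2 : (μ : ℝ) ^ n ≤ a * (hh k (CohB1.tensorPow L M) 0 : ℝ) := by
    exact_mod_cast (hlow μ hNμ).trans (Nat.mul_le_mul_left a h1)
  have h3 : (M : ℝ) ≤ ((2 * ν : ℕ) : ℝ) * μ := by
    have : M ≤ 2 * ν * μ := by rw [mul_assoc]; omega
    exact_mod_cast this
  change _ ≤ ((hh k (CohB1.tensorPow L M) 0 : ℕ) : ℝ)
  rw [div_mul_eq_mul_div, one_mul, div_le_iff₀ (by positivity)]
  calc (M : ℝ) ^ n ≤ (((2 * ν : ℕ) : ℝ) * μ) ^ n := pow_le_pow_left₀ (by positivity) h3 n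
    _ = ((2 * ν : ℕ) : ℝ) ^ n * (μ : ℝ) ^ n := mul_pow _ _ _
    _ ≤ ((2 * ν : ℕ) : ℝ) ^ n * (a * (hh k (CohB1.tensorPow L M) 0 : ℝ)) := by gcongr
    _ = _ := by ring

/-- The twist of a coherent module with support below the top dimension grows slowly. -/
theorem exists_bound_lower {A : X.Modules} (hA : CohB1.IsAmple A) {L : X.Modules} (hL : PicF.IsInvertible L)
    {Q : X.Modules} (hQ : Coh.IsCoh Q) {n : ℕ} (hd : topologicalKrullDim (CohB1.support Q) < (n : ℕ)) :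
    ∃ C : ℕ, ∀ m, (m + 1) * hh k (CohB1.tensorMod (CohB1.tensorPow L m) Q) 0 ≤ C * (m + 1) ^ n := by
  haveI := CurvLib.isNoetherian k (X := X)
  rcases (CohB1.support Q).eq_empty_or_nonempty with he | hne
  · refine ⟨0, fun m => ?_⟩
    rw [HodgeIdxLib.hh_eq_zero (isZero_of_support_empty
      ((HilbPolyLib.support_tensor (AmpleThLib.tensorPow_isInvertible hL m) Q).trans he)) 0]
    simp
  obtain ⟨e, rfl⟩ : ∃ e, n = e + 1 := by
    refine ⟨n - 1, ?_⟩
    rcases Nat.eq_zero_or_pos n with rfl | h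
    · haveI : Nonempty (CohB1.support Q) := hne.to_subtype
      have h0 : (0 : WithBot ℕ∞) ≤ topologicalKrullDim (CohB1.support Q) := IntFunLib.nonneg_dim hne
      exact absurd (h0.trans_lt hd) (lt_irrefl _)
    · omega
  obtain ⟨C, hC⟩ := exists_bound_coh (k := k) hA hL hQ (dim_le_iff.mp hd)
  exact ⟨C, fun m => by rw [pow_succ', mul_left_comm C]; exact Nat.mul_le_mul_left _ (hC m)⟩

theorem isBigMod_of_freq {H : X.Modules} (hH : CohB1.IsAmple H) {L : X.Modules} (hL : PicF.IsInvertible L)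
    {n : ℕ} (hn : topologicalKrullDim X = (n : WithBot ℕ∞))
    (h : ∃ ν a : ℕ, 0 < ν ∧ ∀ N : ℕ, ∃ μ, N ≤ μ ∧
      μ ^ n ≤ a * Module.finrank k (Coh.HH X (CohB1.tensorPow L (ν * μ)) 0)) : NumRLib.IsBigMod L := by
  haveI := CurvLib.isNoetherian k (X := X)
  letI := LMLib.law X
  obtain ⟨ν, a, hν, hgr⟩ := h
  intro A hA
  obtain ⟨n₁, hn₁⟩ := exists_mono_large (k := k) hA hA.1
  obtain ⟨n₂, hn₂⟩ := exists_mono_large (k := k) hA CurvLib.isInvertible_structureModule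
  obtain ⟨B, hB, ⟨φ₁, hφ₁⟩, σ, hσ⟩ : ∃ B : X.Modules, PicF.IsInvertible B ∧ (∃ φ₁ : A ⟶ B, Mono φ₁) ∧
      ∃ σ : Coh.structureModule X ⟶ B, Mono σ :=
    ⟨_, AmpleThLib.tensorPow_isInvertible hA.1 (max n₁ n₂), hn₁ _ (le_max_left _ _), hn₂ _ (le_max_right _ _)⟩
  obtain ⟨B', hB', ⟨e⟩⟩ := NumRLib.exists_inverse (k := k) hB
  obtain ⟨hQ, hQd⟩ := dim_cok_le k hn hB (NumRLib.ne_zero_of_mono σ)
  have hQ' := HilbPolyLib.isCoh_tensor hB' hQ
  obtain ⟨C, hC⟩ := exists_bound_lower (k := k) hH (AmpleThLib.tensorPow_isInvertible hL ν) hQ'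
    (by rw [HilbPolyLib.support_tensor hB']; exact hQd)
  have hμ : ∃ μ : ℕ, 1 ≤ μ ∧ 0 < hh k (CohB1.tensorMod (CohB1.tensorPow (CohB1.tensorPow L ν) μ) B') 0 := by
    obtain ⟨μ, hμge, hμb⟩ := hgr (a * C * 2 ^ n + 1)
    refine ⟨μ, le_trans (Nat.le_add_left _ _) hμge, Nat.pos_of_ne_zero fun h0 => ?_⟩
    have hT := HilbPolyLib.isInvertible_tensor
      (AmpleThLib.tensorPow_isInvertible (AmpleThLib.tensorPow_isInvertible hL ν) μ) hB'
    have h1 := HodgeIdxLib.ses_cok (k := k) hB hT (NumRLib.ne_zero_of_mono σ) hQ 0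
    obtain ⟨f⟩ := nonempty_pow_pow L ν μ
    rw [h0, zero_add, HodgeIdxLib.hh_congr (HilbPolyLib.assocIso _ B' B ≪≫
      HilbPolyLib.congrRight _ (HilbPolyLib.swapIso B' B ≪≫ e) ≪≫ HilbPolyLib.swapIso _ _ ≪≫
      HilbPolyLib.unitLeft _ ≪≫ f) 0, HodgeIdxLib.hh_congr (HilbPolyLib.assocIso _ B' _) 0] at h1
    have h2 : μ ^ n ≤ a * hh k (CohB1.tensorPow L (ν * μ)) 0 := hμb
    have h3 := hC μ
    have h4 : (μ + 1) * μ ^ n ≤ a * C * (μ + 1) ^ n := by
      calc (μ + 1) * μ ^ n ≤ (μ + 1) * (a * hh k (CohB1.tensorPow L (ν * μ)) 0) := Nat.mul_le_mul_left _ h2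
        _ = a * ((μ + 1) * hh k (CohB1.tensorPow L (ν * μ)) 0) := by ring
        _ ≤ a * (C * (μ + 1) ^ n) := Nat.mul_le_mul_left _ ((Nat.mul_le_mul_left _ h1).trans h3)
        _ = _ := by ring
    have h5 : (μ + 1) ^ n ≤ 2 ^ n * μ ^ n := by
      rw [← Nat.mul_pow]; exact Nat.pow_le_pow_left (by omega) n
    have h6 : (μ + 1) * μ ^ n ≤ a * C * 2 ^ n * μ ^ n := by
      refine h4.trans ?_
      rw [mul_assoc (a * C)]
      exact Nat.mul_le_mul_left _ h5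
    have h7 : μ + 1 ≤ a * C * 2 ^ n := Nat.le_of_mul_le_mul_right h6 (Nat.pow_pos (by omega))
    omega
  obtain ⟨μ, hμ1, hμ0⟩ := hμ
  have hT := HilbPolyLib.isInvertible_tensor
    (AmpleThLib.tensorPow_isInvertible (AmpleThLib.tensorPow_isInvertible hL ν) μ) hB'
  haveI := Module.nontrivial_of_finrank_pos hμ0
  obtain ⟨s, hs⟩ := CurvLib.exists_hom_ne_zero (L := CohB1.tensorMod (CohB1.tensorPow (CohB1.tensorPow L ν) μ) B') this
  haveI := CurvLib.mono_of_ne_zero CurvLib.isInvertible_structureModule hT hs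
  obtain ⟨ψ, hψ⟩ := NumRLib.exists_mono_twist (k := k) hB e s
  obtain ⟨f⟩ := nonempty_pow_pow L ν μ
  exact ⟨ν * μ, φ₁ ≫ ψ ≫ f.hom, Nat.mul_pos hν hμ1, mono_comp' hφ₁ (mono_comp' hψ inferInstance)⟩

theorem isBigMod_of_grows {H : X.Modules} (hH : CohB1.IsAmple H) {L : X.Modules} (hL : PicF.IsInvertible L)
    {n : ℕ} (hn : topologicalKrullDim X = (n : WithBot ℕ∞)) (h : Grows k L n) : NumRLib.IsBigMod L :=
  let ⟨ν, a, hν, _, hgr⟩ := h
  isBigMod_of_freq hH hL hn ⟨ν, a, hν, fun N => ⟨N + 1, N.le_succ, hgr _ (Nat.le_add_left _ _)⟩⟩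

variable (k X) in
theorem hh_structure_pos : 0 < hh k (Coh.structureModule X) 0 := by
  haveI := CurvLib.finite_HH (k := k) (DevissLib.isCoh_structureModule X) 0
  let e := (QCohLib.hEquiv ((QCohLib.toAbF X).obj (Coh.structureModule X)) 0).trans
    (QCohLib.h0 (U := (⊤ : Opens X.toTopCat)))
  haveI : Nontrivial Γ(X, ⊤) := inferInstance
  haveI : Nontrivial (Coh.HH X (Coh.structureModule X) 0) :=
    ⟨e.symm (0 : Γ(X, ⊤)), e.symm (1 : Γ(X, ⊤)), fun h => zero_ne_one (α := Γ(X, ⊤)) (e.symm.injective h)⟩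
  exact Module.finrank_pos

theorem bigPow_of_isBigMod {H : X.Modules} (hH : CohB1.IsAmple H) {L : X.Modules} (h : NumRLib.IsBigMod L) :
    BigPow L :=
  let ⟨m, φ, hm, hφ⟩ := h H hH
  ⟨m, H, φ, hm, hH, hφ⟩

end

end GrowthLib
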