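import Groth.Agent.GrowthLib.FieldBound
import Groth.Agent.GrowthLib.Main
import Groth.Agent.NumTrivLib.Main
import Groth.Agent.NumTrivLib.Transfer
import Groth.Agent.PnDualLib.Embed
import Groth.Agent.MiscFlat6.TensorGG

/-!
# Sections of large powers of an ample module twisted by numerically trivial modules
-/

set_option autoImplicit false
set_option linter.style.haveILetI false
set_option linter.unusedSectionVars false
set_option maxHeartbeats 1000000
universe u

open CategoryTheory CategoryTheory.Limits AlgebraicGeometry TopologicalSpace Opposite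
open HodgeIdxLib (hh)
open KFlatLib (pb)
open NumTrivLib (NT)
open CubeConsLib (cl cl_eq_iff cl_tensor pull pull_cl)

noncomputable section

namespace GrowthLib

variable (k : Type u) [Field k] (X : Scheme.{u}) [X.Over (Spec (CommRingCat.of k))]
  [IsProper (X ↘ Spec (CommRingCat.of k))]

/-- Uniform vanishing. -/
theorem exists_van_ampleNT {L : X.Modules} (hL : CohB1.IsAmple L) :
    ∃ m₀ : ℕ, ∀ m, m₀ ≤ m → ∀ N : X.Modules, NT k N → ∀ q : ℕ, 1 ≤ q →
      Subsingleton (Coh.HH X (CohB1.tensorMod (CohB1.tensorPow L m) N) q) := by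
  haveI := CurvLib.isNoetherian k (X := X)
  obtain ⟨r, c, i, hc, hi, hib, ⟨e⟩⟩ := PnDualLib.exists_closedImm_pow k hL
  haveI := hi
  obtain ⟨D, hD⟩ := HilbPolyLib.exists_dim_lt k (X := X)
  have hcoh : ∀ b, Coh.IsCoh (CohB1.tensorPow L b) := fun b =>
    CurvLib.isCoh_of_isInvertible (AmpleThLib.tensorPow_isInvertible hL.1 b)
  choose M hM using fun b : ℕ => ((NumTrivLib.good_all i hib D).2 _ (hcoh b)
    ((topologicalKrullDim_subspace_le _ _).trans_lt hD)).van
  obtain ⟨B, hB⟩ := ((Finset.range c).image fun b => (M b).toNat).exists_le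
  refine ⟨c * B, fun m hm N hN q hq => ?_⟩
  have hb : m % c < c := Nat.mod_lt _ hc
  have hj : M (m % c) - q ≤ ((m / c : ℕ) : ℤ) := by
    have h1 : (M (m % c)).toNat ≤ B := hB _ (Finset.mem_image_of_mem _ (Finset.mem_range.2 hb))
    have h2 : B ≤ m / c := (Nat.le_div_iff_mul_le hc).2 (by rw [mul_comm]; exact hm)
    omega
  haveI := hM (m % c) N hN q hq _ hj
  obtain ⟨E⟩ := NumTrivLib.nonempty_HH_tw i (HilbPolyLib.isCoh_tensor hN.inv (hcoh (m % c))) q ((m / c : ℕ) : ℤ)
  obtain ⟨φ⟩ : Nonempty (CohB1.tensorMod (CohB1.tensorPow L m) N ≅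
      CohB1.tensorMod (pb i (Twist.twistProjSpace r k ((m / c : ℕ) : ℤ)))
        (CohB1.tensorMod N (CohB1.tensorPow L (m % c)))) := by
    have he : cl L ^ c = Hc i 1 := by rw [← NumTrivLib.cl_tensorPow]; exact cl_eq_iff.2 ⟨e⟩
    rw [← cl_eq_iff, cl_tensor, cl_tensor, cl_tensor, NumTrivLib.cl_tensorPow, NumTrivLib.cl_tensorPow, cl_pb_twist,
      show Hc i ((m / c : ℕ) : ℤ) = Hc i 1 ^ (m / c) by rw [Hc_pow, one_mul], ← he, ← pow_mul]
    conv_lhs => rw [← Nat.div_add_mod m c, pow_add]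
    rw [mul_comm (cl N) (cl L ^ (m % c)), mul_assoc]
  exact SerreVanLib.subsingleton_HH_of_iso φ q E.toEquiv.subsingleton

theorem hh_zero_pos [IsIntegral X] {M : X.Modules} (hM : PicF.IsInvertible M) (hg : Curv2.IsGloballyGenerated M) :
    0 < hh k M 0 := by
  obtain ⟨-, N, s, hs⟩ := fgen_of_gg k hM hg
  obtain ⟨a, ha⟩ := hs (genericPoint X)
  haveI := CurvLib.finite_HH (k := k) (CurvLib.isCoh_of_isInvertible hM) 0
  let e := (QCohLib.hEquiv ((QCohLib.toAbF X).obj M) 0).trans (QCohLib.h0 (U := (⊤ : Opens X.toTopCat)))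
  haveI : Nontrivial (Coh.HH X M 0) := by
    by_contra h
    rw [not_nontrivial_iff_subsingleton] at h
    haveI : Subsingleton Γ(M, (⊤ : X.Opens)) := @Equiv.subsingleton _ _ e.symm.toEquiv h
    have h1 : s a = 0 := Subsingleton.elim _ _
    rw [h1] at ha
    refine one_ne_zero (α := X.presheaf.stalk (genericPoint X)) (ha.1 ?_)
    show _ • _ = _ • _
    rw [map_zero, smul_zero, smul_zero]
  exact Module.finrank_pos

/-- **Equality of the dimensions.** -/
theorem exists_h0_ampleNT [IsIntegral X] {L : X.Modules} (hL : CohB1.IsAmple L) :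
    ∃ m₀ : ℕ, ∀ m, m₀ ≤ m → ∀ N : X.Modules, NT k N →
      hh k (CohB1.tensorMod (CohB1.tensorPow L m) N) 0 = hh k (CohB1.tensorPow L m) 0 ∧
        0 < hh k (CohB1.tensorPow L m) 0 := by
  haveI := CurvLib.isNoetherian k (X := X)
  have hO := DevissLib.isCoh_structureModule X
  obtain ⟨m₁, h₁⟩ := exists_van_ampleNT k X hL
  obtain ⟨m₂, h₂⟩ := MiscFlat6.eventually_gg_of_isAmple hL _ hO
  refine ⟨max m₁ m₂, fun m hm N hN => ⟨?_, ?_⟩⟩
  · have hi := AmpleThLib.tensorPow_isInvertible hL.1 m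
    have hc := CurvLib.isCoh_of_isInvertible hi
    have he : ∀ M : X.Modules, Coh.IsCoh M → (∀ q, 1 ≤ q → Subsingleton (Coh.HH X M q)) →
        Curv2.euler k X M = (hh k M 0 : ℤ) := fun M _ hv => CurvLib.euler_eq_finrank hv
    have h3 : ∀ q, 1 ≤ q → Subsingleton (Coh.HH X (CohB1.tensorPow L m) q) := fun q hq =>
      SerreVanLib.subsingleton_HH_of_iso (HilbPolyLib.swapIso _ _ ≪≫ HilbPolyLib.unitLeft _).symm q
        (h₁ m (le_of_max_le_left hm) _ NumTrivLib.NT.unit q hq)
    have h4 : Curv2.euler k X (CohB1.tensorMod N (CohB1.tensorPow L m)) = Curv2.euler k X (CohB1.tensorPow L m) :=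
      sub_eq_zero.1 (NumTrivLib.Φ_eq_zero hN hc)
    rw [CurvLib.euler_congr (HilbPolyLib.swapIso N (CohB1.tensorPow L m)),
      he _ (SerreVanLib.isCoh_tensor hc hN.inv) (h₁ m (le_of_max_le_left hm) N hN), he _ hc h3] at h4
    exact_mod_cast h4
  · exact hh_zero_pos k X (AmpleThLib.tensorPow_isInvertible hL.1 m)
      (gg_of_iso (HilbPolyLib.unitLeft _) (h₂ m (le_of_max_le_right hm)))

end GrowthLib

end
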