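import Groth.Agent.GrowthLib.MultiMain
import Groth.Agent.FormalCohLib.ProjAmple
import Groth.Prelude.Def_W4c5asymptcohfnACF

/-!
# Asymptotic cohomological functions
-/

set_option autoImplicit false
set_option linter.style.haveILetI false
set_option maxHeartbeats 1000000
universe u

open CategoryTheory CategoryTheory.Limits AlgebraicGeometry TopologicalSpace Opposite
open HilbPolyLib DevissLib IntMultLib IntFunLib
open HodgeIdxLib (hh)
open KFlatLib (pb)
open ZeroObject

noncomputable section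

namespace GrowthLib

/-! ### Normalised sequences -/

/-- `f m · n! / m^n`. -/
def nrm (n : ℕ) (f : ℕ → ℕ) (m : ℕ) : ℝ := (f m : ℝ) * n.factorial / (m : ℝ) ^ n

theorem nrm_nonneg (n : ℕ) (f : ℕ → ℕ) (m : ℕ) : 0 ≤ nrm n f m := by unfold nrm; positivity

theorem isBoundedUnder_nrm {n C : ℕ} {f : ℕ → ℕ} (h : ∀ m, f m ≤ C * (m + 1) ^ n) :
    Filter.IsBoundedUnder (· ≤ ·) Filter.atTop (nrm n f) ∧
      Filter.IsBoundedUnder (· ≥ ·) Filter.atTop (nrm n f) := by
  refine ⟨⟨C * 2 ^ n * n.factorial, Filter.eventually_map.mpr (Filter.eventually_atTop.mpr ⟨1, fun m hm => ?_⟩)⟩,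
    ⟨0, Filter.eventually_map.mpr (Filter.Eventually.of_forall (nrm_nonneg n f))⟩⟩
  have hm1 : (1 : ℝ) ≤ m := by exact_mod_cast hm
  have h1 : (f m : ℝ) ≤ C * ((m : ℝ) + 1) ^ n := by exact_mod_cast h m
  have h2 : ((m : ℝ) + 1) ^ n ≤ 2 ^ n * (m : ℝ) ^ n := by
    rw [← mul_pow]; exact pow_le_pow_left₀ (by positivity) (by linarith) n
  show nrm n f m ≤ _
  rw [nrm, div_le_iff₀ (by positivity)]
  have h3 : (f m : ℝ) ≤ C * (2 ^ n * (m : ℝ) ^ n) := h1.trans (mul_le_mul_of_nonneg_left h2 (by positivity))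
  calc (f m : ℝ) * n.factorial ≤ C * (2 ^ n * (m : ℝ) ^ n) * n.factorial :=
        mul_le_mul_of_nonneg_right h3 (by positivity)
    _ = _ := by ring

/-- A negligible sequence. -/
theorem tendsto_nrm_zero {n C : ℕ} {g : ℕ → ℕ} (h : ∀ m, (m + 1) * g m ≤ C * (m + 1) ^ n) :
    Filter.Tendsto (nrm n g) Filter.atTop (nhds 0) := by
  refine squeeze_zero' (Filter.Eventually.of_forall (nrm_nonneg n g))
    (Filter.eventually_atTop.mpr ⟨1, fun m hm => ?_⟩)
    ((tendsto_const_div_atTop_nhds_zero_nat (C * 2 ^ n * n.factorial : ℝ)))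
  have hm1 : (1 : ℝ) ≤ m := by exact_mod_cast hm
  have h1 : ((m : ℝ) + 1) * g m ≤ C * ((m : ℝ) + 1) ^ n := by exact_mod_cast h m
  have h2 : ((m : ℝ) + 1) ^ n ≤ 2 ^ n * (m : ℝ) ^ n := by
    rw [← mul_pow]; exact pow_le_pow_left₀ (by positivity) (by linarith) n
  rw [nrm, div_le_div_iff₀ (by positivity) (by positivity)]
  have h3 : (g m : ℝ) * m ≤ C * (2 ^ n * (m : ℝ) ^ n) := by
    have h4 := h1.trans (mul_le_mul_of_nonneg_left h2 (Nat.cast_nonneg C))
    nlinarith [(Nat.cast_nonneg (g m) : (0 : ℝ) ≤ g m)]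
  calc (g m : ℝ) * n.factorial * m = (g m : ℝ) * m * n.factorial := by ring
    _ ≤ C * (2 ^ n * (m : ℝ) ^ n) * n.factorial := mul_le_mul_of_nonneg_right h3 (by positivity)
    _ = _ := by ring

theorem limsup_le_of_tendsto {u v w : ℕ → ℝ} (hu : Filter.IsBoundedUnder (· ≥ ·) Filter.atTop u)
    (hv : Filter.IsBoundedUnder (· ≤ ·) Filter.atTop v) (hv' : Filter.IsBoundedUnder (· ≥ ·) Filter.atTop v)
    (hw : Filter.Tendsto w Filter.atTop (nhds 0)) (h : ∀ᶠ m in Filter.atTop, u m ≤ v m + w m) :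
    Filter.limsup u Filter.atTop ≤ Filter.limsup v Filter.atTop := by
  refine le_of_forall_pos_le_add fun ε hε => ?_
  refine Filter.limsup_le_of_le hu.isCoboundedUnder_le ?_
  have h1 := Filter.eventually_lt_of_limsup_lt (lt_add_of_pos_right (Filter.limsup v Filter.atTop) (half_pos hε)) hv
  have h2 := hw.eventually (eventually_lt_nhds (half_pos hε))
  filter_upwards [h, h1, h2] with m a b c
  linarith

/-- Sequences whose difference is negligible have the same limsup. -/
theorem limsup_nrm_eq {n C D : ℕ} {f g e : ℕ → ℕ} (hf : ∀ m, f m ≤ C * (m + 1) ^ n)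
    (he : ∀ m, (m + 1) * e m ≤ D * (m + 1) ^ n) (h : ∀ m, |(f m : ℤ) - g m| ≤ e m) :
    Filter.limsup (nrm n f) Filter.atTop = Filter.limsup (nrm n g) Filter.atTop := by
  have hg : ∀ m, g m ≤ (C + D) * (m + 1) ^ n := fun m => by
    have h1 := abs_le.mp (h m)
    have h2 := hf m
    have h3 : e m ≤ D * (m + 1) ^ n := (Nat.le_mul_of_pos_left _ (Nat.succ_pos m)).trans (he m)
    rw [add_mul]
    omega
  obtain ⟨f1, f2⟩ := isBoundedUnder_nrm hf
  obtain ⟨g1, g2⟩ := isBoundedUnder_nrm hg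
  have hw := tendsto_nrm_zero he
  have key : ∀ m, nrm n f m ≤ nrm n g m + nrm n e m ∧ nrm n g m ≤ nrm n f m + nrm n e m := fun m => by
    have h1 : |(f m : ℝ) - g m| ≤ e m := by exact_mod_cast h m
    obtain ⟨a, b⟩ := abs_le.mp h1
    unfold nrm
    constructor <;> rw [← add_div, ← add_mul] <;>
      exact div_le_div_of_nonneg_right (mul_le_mul_of_nonneg_right (by linarith) (by positivity)) (by positivity)
  exact le_antisymm (limsup_le_of_tendsto f2 g1 g2 hw (Filter.Eventually.of_forall fun m => (key m).1))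
    (limsup_le_of_tendsto g2 f1 f2 hw (Filter.Eventually.of_forall fun m => (key m).2))

/-! ### Twist families -/

theorem cls_congr {X : Scheme.{u}} {L M : X.Modules} (hL : PicF.IsInvertible L) (hM : PicF.IsInvertible M) (e : L ≅ M) :
    PicGrp.cls L hL = PicGrp.cls M hM :=
  (PicGrp.cls_eq_cls_iff hL hM).mpr ⟨e⟩

theorem cls_tensor {X : Scheme.{u}} [PicGrp.Law X] {L M : X.Modules} (hL : PicF.IsInvertible L) (hM : PicF.IsInvertible M) :
    PicGrp.cls (CohB1.tensorMod L M) (HilbPolyLib.isInvertible_tensor hL hM) = PicGrp.cls L hL * PicGrp.cls M hM :=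
  Subtype.ext (PicGrp.cls_mul_cls_val hL hM).symm

theorem cls_multiTwist {X : Scheme.{u}} [PicGrp.Law X] {r : ℕ} {L : Fin r → X.Modules}
    (hL : ∀ j, PicF.IsInvertible (L j)) (m : Fin r → ℕ) :
    PicGrp.cls (FGA.multiTwist L m) (HilbPolyLib.isInvertible_multiTwist L hL m) =
      ∏ j, PicGrp.cls (L j) (hL j) ^ m j := by
  have key : ∀ (l : List (Fin r)) (h : PicF.IsInvertible (FGA.tensorList (l.map fun j => CohB1.tensorPow (L j) (m j)))),
      PicGrp.cls _ h = (l.map fun j => PicGrp.cls (L j) (hL j) ^ m j).prod := by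
    intro l
    induction l with
    | nil => intro h; exact PicGrp.cls_structureModule_eq_one
    | cons j l ih =>
      intro h
      have h' : PicF.IsInvertible (FGA.tensorList (l.map fun j => CohB1.tensorPow (L j) (m j))) :=
        HilbPolyLib.isInvertible_tensorList _ fun M hM => by
          obtain ⟨i, -, rfl⟩ := List.mem_map.mp hM
          exact AmpleThLib.tensorPow_isInvertible (hL i) _
      refine Eq.trans ?_ (List.prod_cons).symm
      rw [← ih h']; dsimp only; rw [← cls_tpow (hL j) (m j), ← cls_tensor]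
      rfl
  rw [← List.prod_ofFn, List.ofFn_eq_map]
  exact key _ _

theorem isInvertible_ztwist {X : Scheme.{u}} {r : ℕ} {L M : Fin r → X.Modules} (hL : ∀ j, PicF.IsInvertible (L j))
    (hM : ∀ j, PicF.IsInvertible (M j)) (a : Fin r → ℤ) : PicF.IsInvertible (W4c5asymptcohfn.ztwist X L M a) :=
  HilbPolyLib.isInvertible_tensor (HilbPolyLib.isInvertible_multiTwist L hL _)
    (HilbPolyLib.isInvertible_multiTwist M hM _)

theorem cls_ztwist {X : Scheme.{u}} [PicGrp.Law X] {r : ℕ} {L M : Fin r → X.Modules} (hL : ∀ j, PicF.IsInvertible (L j))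
    (hM : ∀ j, PicF.IsInvertible (M j)) (hi : ∀ j, ClSub.IsInverseOf (L j) (M j)) (a : Fin r → ℤ) :
    PicGrp.cls (W4c5asymptcohfn.ztwist X L M a) (isInvertible_ztwist hL hM a) =
      ∏ j, PicGrp.cls (L j) (hL j) ^ a j := by
  refine ((cls_tensor (HilbPolyLib.isInvertible_multiTwist L hL _)
    (HilbPolyLib.isInvertible_multiTwist M hM _)).trans ?_)
  rw [cls_multiTwist hL, cls_multiTwist hM, ← Finset.prod_mul_distrib]
  refine Finset.prod_congr rfl fun j _ => ?_
  rw [← PicGrp.cls_inv_eq_cls (hL j) (hM j) (hi j), inv_pow, ← zpow_natCast, ← zpow_natCast, ← zpow_neg,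
    ← zpow_add]
  congr 1
  omega

variable {k : Type u} [Field k] {X : Scheme.{u}} [X.Over (Spec (CommRingCat.of k))]
  [IsProper (X ↘ Spec (CommRingCat.of k))]

omit [X.Over (Spec (CommRingCat.of k))] [IsProper (X ↘ Spec (CommRingCat.of k))] in
theorem isTwistFam_ztwist [PicGrp.Law X] {r : ℕ} {L M : Fin r → X.Modules} (hL : ∀ j, PicF.IsInvertible (L j))
    (hi : ∀ j, ClSub.IsInverseOf (L j) (M j)) : IsTwistFam L (W4c5asymptcohfn.ztwist X L M) := by
  have hM : ∀ j, PicF.IsInvertible (M j) := fun j => (hi j).elim fun e => isInvertible_of_inverse (hL j) e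
  refine ⟨hL, isInvertible_ztwist hL hM, fun a j => ?_⟩
  rw [← PicGrp.cls_eq_cls_iff (isInvertible_ztwist hL hM _)
    (HilbPolyLib.isInvertible_tensor (isInvertible_ztwist hL hM a) (hL j)), cls_tensor (isInvertible_ztwist hL hM a) (hL j),
    cls_ztwist hL hM hi, cls_ztwist hL hM hi]
  simp only [Pi.add_apply]
  rw [Finset.prod_congr rfl (g := fun l => PicGrp.cls (L l) (hL l) ^ a l * PicGrp.cls (L l) (hL l) ^ (Pi.single (M := fun _ => ℤ) j 1 l))
    (fun l _ => zpow_add _ _ _), Finset.prod_mul_distrib]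
  congr 1
  rw [Finset.prod_eq_single j (fun l _ hl => by rw [Pi.single_eq_of_ne hl, zpow_zero])
    (fun h => absurd (Finset.mem_univ j) h), Pi.single_eq_same, zpow_one]

include k in
/-- A family starting at the structure sheaf consists of invertible modules. -/
theorem isTwistFam_of_zero {r : ℕ} {L : Fin r → X.Modules} {F : (Fin r → ℤ) → X.Modules}
    (hL : ∀ j, PicF.IsInvertible (L j)) (h0 : Nonempty (F 0 ≅ Coh.structureModule X))
    (hs : ∀ a j, Nonempty (F (a + Pi.single j 1) ≅ CohB1.tensorMod (F a) (L j))) : IsTwistFam L F := by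
  haveI := CurvLib.isNoetherian k (X := X)
  letI := LMLib.law X
  refine ⟨hL, ?_, hs⟩
  suffices ∀ (N : ℕ) (a : Fin r → ℤ), size a = N → PicF.IsInvertible (F a) from fun a => this _ a rfl
  intro N
  induction N with
  | zero =>
    intro a ha
    obtain rfl : a = 0 := funext fun j => by
      have := Finset.single_le_sum (fun l _ => Nat.zero_le (a l).natAbs) (Finset.mem_univ j)
      rw [size] at ha
      simp only [Pi.zero_apply]; omega
    obtain ⟨e⟩ := h0
    exact HilbPolyLib.isInvertible_of_iso e.symm CurvLib.isInvertible_structureModule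
  | succ N ih =>
    intro a ha
    obtain ⟨j, hj⟩ : ∃ j, a j ≠ 0 := by
      by_contra h
      push Not at h
      rw [size, Finset.sum_eq_zero fun l _ => by rw [h l]; rfl] at ha
      omega
    have hsz : ∀ t : ℤ, (a j + t).natAbs + 1 = (a j).natAbs → size (a + Pi.single j t) = N := by
      intro t ht
      rw [size, ← Finset.add_sum_erase _ _ (Finset.mem_univ j)] at ha ⊢
      rw [Finset.sum_congr rfl (g := fun l => (a l).natAbs) (fun l hl => by
        rw [Pi.add_apply, Pi.single_eq_of_ne (Finset.ne_of_mem_erase hl), add_zero]), Pi.add_apply,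
        Pi.single_eq_same]
      omega
    rcases lt_or_gt_of_ne hj with h | h
    · obtain ⟨e⟩ := hs a j
      obtain ⟨L', hL', ⟨eL⟩⟩ := NumRLib.exists_inverse (k := k) (hL j)
      have hb := ih _ (hsz 1 (by omega))
      exact HilbPolyLib.isInvertible_of_iso (HilbPolyLib.congrLeft e L' ≪≫ HilbPolyLib.assocIso _ _ _ ≪≫
        HilbPolyLib.congrRight _ eL ≪≫ HilbPolyLib.swapIso _ _ ≪≫ HilbPolyLib.unitLeft _)
        (HilbPolyLib.isInvertible_tensor hb hL')
    · have hb := ih _ (hsz (-1) (by omega))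
      obtain ⟨e⟩ := hs (a + Pi.single j (-1)) j
      rw [add_assoc, ← Pi.single_add, neg_add_cancel, Pi.single_zero, add_zero] at e
      exact HilbPolyLib.isInvertible_of_iso e.symm (HilbPolyLib.isInvertible_tensor hb (hL j))

variable (k) in
include k in
/-- The twists of a single invertible module. -/
theorem exists_fam {L : X.Modules} (hL : PicF.IsInvertible L) :
    ∃ F : (Fin 1 → ℤ) → X.Modules, IsTwistFam (fun _ => L) F ∧
      ∀ m : ℕ, Nonempty (F (fun _ => (m : ℤ)) ≅ CohB1.tensorPow L m) := by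
  haveI := CurvLib.isNoetherian k (X := X)
  letI := LMLib.law X
  obtain ⟨L', hL', e⟩ := NumRLib.exists_inverse (k := k) hL
  have hi : ∀ _ : Fin 1, ClSub.IsInverseOf L L' := fun _ => e
  refine ⟨W4c5asymptcohfn.ztwist X (fun _ => L) (fun _ => L'), isTwistFam_ztwist (fun _ => hL) hi, fun m => ?_⟩
  rw [← PicGrp.cls_eq_cls_iff (isInvertible_ztwist (fun _ => hL) (fun _ => hL') _)
    (AmpleThLib.tensorPow_isInvertible hL m), cls_ztwist (fun _ => hL) (fun _ => hL') hi, cls_tpow hL m,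
    Fin.prod_univ_one, zpow_natCast]

/-! ### Cohomology of powers -/

/-- `h^p(F ⊗ L^m) = O(m^e)`. -/
theorem exists_bound_pow {A : X.Modules} (hA : CohB1.IsAmple A) {L : X.Modules} (hL : PicF.IsInvertible L)
    {Q : X.Modules} (hQ : Coh.IsCoh Q) {e : ℕ} (hd : topologicalKrullDim (CohB1.support Q) ≤ (e : ℕ)) :
    ∃ C : ℕ, ∀ p m : ℕ, hh k (CohB1.tensorMod Q (CohB1.tensorPow L m)) p ≤ C * (m + 1) ^ e := by
  obtain ⟨F, hF, hFm⟩ := exists_fam k hL
  obtain ⟨C, hC⟩ := exists_bound_multi (k := k) e X A hA 1 _ F hF Q hQ hd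
  refine ⟨C, fun p m => ?_⟩
  obtain ⟨em⟩ := hFm m
  have h := hC p (fun _ => (m : ℤ))
  rw [show size (fun _ : Fin 1 => (m : ℤ)) = m by simp [size]] at h
  rw [← HodgeIdxLib.hh_congr (HilbPolyLib.congrLeft em Q ≪≫ HilbPolyLib.swapIso _ _) p]
  exact h

/-- Small supports give negligible cohomology. -/
theorem exists_small_pow {A : X.Modules} (hA : CohB1.IsAmple A) {L : X.Modules} (hL : PicF.IsInvertible L)
    {Q : X.Modules} (hQ : Coh.IsCoh Q) {d : ℕ} (hd : topologicalKrullDim (CohB1.support Q) < (d : ℕ)) :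
    ∃ C : ℕ, ∀ p m : ℕ, (m + 1) * hh k (CohB1.tensorMod Q (CohB1.tensorPow L m)) p ≤ C * (m + 1) ^ d := by
  haveI := CurvLib.isNoetherian k (X := X)
  rcases (CohB1.support Q).eq_empty_or_nonempty with he | hne
  · refine ⟨0, fun p m => ?_⟩
    rw [HodgeIdxLib.hh_congr (HilbPolyLib.swapIso _ _) p, HodgeIdxLib.hh_eq_zero (isZero_of_support_empty
      ((HilbPolyLib.support_tensor (AmpleThLib.tensorPow_isInvertible hL m) Q).trans he)) p]
    simp
  obtain ⟨e, rfl⟩ : ∃ e, d = e + 1 := by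
    refine ⟨d - 1, ?_⟩
    rcases Nat.eq_zero_or_pos d with rfl | h
    · exact absurd ((IntFunLib.nonneg_dim hne).trans_lt hd) (lt_irrefl _)
    · omega
  obtain ⟨C, hC⟩ := exists_bound_pow (k := k) hA hL hQ (dim_le_iff.mp hd)
  exact ⟨C, fun p m => by rw [pow_succ', mul_left_comm C]; exact Nat.mul_le_mul_left _ (hC p m)⟩

/-- Short exact sequences in all degrees, twisted from the right. -/
theorem ses_pow {L : X.Modules} (hL : PicF.IsInvertible L) {S : ShortComplex X.Modules} (hS : S.ShortExact)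
    (h₁ : Coh.IsCoh S.X₁) (h₂ : Coh.IsCoh S.X₂) (h₃ : Coh.IsCoh S.X₃) (p : ℕ) :
    hh k (CohB1.tensorMod S.X₂ L) p ≤ hh k (CohB1.tensorMod S.X₁ L) p + hh k (CohB1.tensorMod S.X₃ L) p ∧
      hh k (CohB1.tensorMod S.X₃ L) p ≤ hh k (CohB1.tensorMod S.X₂ L) p + hh k (CohB1.tensorMod S.X₁ L) (p + 1) ∧
      hh k (CohB1.tensorMod S.X₁ L) (p + 1) ≤
        hh k (CohB1.tensorMod S.X₃ L) p + hh k (CohB1.tensorMod S.X₂ L) (p + 1) ∧
      hh k (CohB1.tensorMod S.X₁ L) 0 ≤ hh k (CohB1.tensorMod S.X₂ L) 0 := by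
  haveI := CurvLib.isNoetherian k (X := X)
  have h : ∀ q, hh k (CohB1.tensorMod L S.X₂) q ≤ hh k (CohB1.tensorMod L S.X₁) q + hh k (CohB1.tensorMod L S.X₃) q ∧
      hh k (CohB1.tensorMod L S.X₃) q ≤ hh k (CohB1.tensorMod L S.X₂) q + hh k (CohB1.tensorMod L S.X₁) (q + 1) ∧
      hh k (CohB1.tensorMod L S.X₁) (q + 1) ≤
        hh k (CohB1.tensorMod L S.X₃) q + hh k (CohB1.tensorMod L S.X₂) (q + 1) ∧
      hh k (CohB1.tensorMod L S.X₁) 0 ≤ hh k (CohB1.tensorMod L S.X₂) 0 := fun q =>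
    HodgeIdxLib.ses_mk (k := k) _ _ _ (HilbPolyLib.shortExact_tensor hL hS)
      (HilbPolyLib.isCoh_tensor hL h₁) (HilbPolyLib.isCoh_tensor hL h₂) (HilbPolyLib.isCoh_tensor hL h₃) q
  simp only [fun (M : X.Modules) q => HodgeIdxLib.hh_congr (k := k) (HilbPolyLib.swapIso M L) q]
  exact h p

/-- Twists of the middle and right terms differ by a negligible amount when the left one is small. -/
theorem exists_diff_right {A : X.Modules} (hA : CohB1.IsAmple A) {L : X.Modules} (hL : PicF.IsInvertible L)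
    {S : ShortComplex X.Modules} (hS : S.ShortExact) (h₁ : Coh.IsCoh S.X₁) (h₂ : Coh.IsCoh S.X₂)
    (h₃ : Coh.IsCoh S.X₃) {n : ℕ} (hd : topologicalKrullDim (CohB1.support S.X₁) < (n : ℕ)) (p : ℕ) :
    ∃ (e : ℕ → ℕ) (D : ℕ), (∀ m, (m + 1) * e m ≤ D * (m + 1) ^ n) ∧
      ∀ m, |(hh k (CohB1.tensorMod S.X₂ (CohB1.tensorPow L m)) p : ℤ) -
        hh k (CohB1.tensorMod S.X₃ (CohB1.tensorPow L m)) p| ≤ e m := by
  obtain ⟨C, hC⟩ := exists_small_pow (k := k) hA hL h₁ hd
  refine ⟨fun m => hh k (CohB1.tensorMod S.X₁ (CohB1.tensorPow L m)) p +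
    hh k (CohB1.tensorMod S.X₁ (CohB1.tensorPow L m)) (p + 1), 2 * C, fun m => ?_, fun m => ?_⟩
  · have := hC p m; have := hC (p + 1) m
    rw [mul_add, mul_assoc]; omega
  · obtain ⟨a, b, -, -⟩ := ses_pow (k := k) (AmpleThLib.tensorPow_isInvertible hL m) hS h₁ h₂ h₃ p
    rw [abs_le]; constructor <;> push_cast <;> omega

/-- Twists of the left and middle terms differ by a negligible amount when the right one is small. -/
theorem exists_diff_left {A : X.Modules} (hA : CohB1.IsAmple A) {L : X.Modules} (hL : PicF.IsInvertible L)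
    {S : ShortComplex X.Modules} (hS : S.ShortExact) (h₁ : Coh.IsCoh S.X₁) (h₂ : Coh.IsCoh S.X₂)
    (h₃ : Coh.IsCoh S.X₃) {n : ℕ} (hd : topologicalKrullDim (CohB1.support S.X₃) < (n : ℕ)) (p : ℕ) :
    ∃ (e : ℕ → ℕ) (D : ℕ), (∀ m, (m + 1) * e m ≤ D * (m + 1) ^ n) ∧
      ∀ m, |(hh k (CohB1.tensorMod S.X₁ (CohB1.tensorPow L m)) p : ℤ) -
        hh k (CohB1.tensorMod S.X₂ (CohB1.tensorPow L m)) p| ≤ e m := by
  obtain ⟨C, hC⟩ := exists_small_pow (k := k) hA hL h₃ hd
  refine ⟨fun m => hh k (CohB1.tensorMod S.X₃ (CohB1.tensorPow L m)) p +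
    hh k (CohB1.tensorMod S.X₃ (CohB1.tensorPow L m)) (p - 1), 2 * C, fun m => ?_, fun m => ?_⟩
  · have := hC p m; have := hC (p - 1) m
    rw [mul_add, mul_assoc]; omega
  · have hm := AmpleThLib.tensorPow_isInvertible hL m
    obtain ⟨a, -, -, d⟩ := ses_pow (k := k) hm hS h₁ h₂ h₃ p
    rcases p with _ | q
    · rw [abs_le]; constructor <;> push_cast <;> omega
    · obtain ⟨-, -, c, -⟩ := ses_pow (k := k) hm hS h₁ h₂ h₃ q
      rw [abs_le, Nat.add_sub_cancel]; constructor <;> push_cast <;> omega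

theorem hhatF_eq_nrm (n i : ℕ) (Q L : X.Modules) : W4c5asymptcohfn.hhatF k X n i Q L =
    Filter.limsup (nrm n fun m => hh k (CohB1.tensorMod Q (CohB1.tensorPow L m)) i) Filter.atTop := rfl

theorem hhat_eq_nrm (n i : ℕ) (L : X.Modules) : W4c5asymptcohfn.hhat k X n i L =
    Filter.limsup (nrm n fun m => hh k (CohB1.tensorPow L m) i) Filter.atTop := rfl

end GrowthLib
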