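import Groth.Agent.GrowthLib.Asymp
import Groth.Agent.AVAmpleLib.Degree

/-!
# Asymptotic cohomological functions: generic rank, homogeneity, Lipschitz estimates
-/

set_option autoImplicit false
set_option linter.style.haveILetI false
set_option maxHeartbeats 1000000
universe u

open CategoryTheory CategoryTheory.Limits AlgebraicGeometry TopologicalSpace Opposite
open HilbPolyLib DevissLib IntMultLib IntFunLib
open HodgeIdxLib (hh)
open KFlatLib (pb)
open ZeroObject

noncomputable section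

namespace GrowthLib

variable {k : Type u} [Field k] {X : Scheme.{u}} [X.Over (Spec (CommRingCat.of k))]
  [IsProper (X ↘ Spec (CommRingCat.of k))]

/-! ### Generic rank -/

/-- Cohomology of a split extension. -/
theorem hh_split {S : ShortComplex X.Modules} (hS : S.ShortExact) (σ : S.Splitting) (h₁ : Coh.IsCoh S.X₁)
    (h₂ : Coh.IsCoh S.X₂) (h₃ : Coh.IsCoh S.X₃) (p : ℕ) : hh k S.X₂ p = hh k S.X₁ p + hh k S.X₃ p := by
  haveI := CurvLib.finite_HH (k := k) h₁ p
  haveI := CurvLib.finite_HH (k := k) h₂ p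
  haveI := CurvLib.finite_HH (k := k) h₃ p
  have hid : ∀ (M : X.Modules) (x : Coh.HH X M p), CurvLib.hMap (k := k) (𝟙 M) p x = x := fun M x => by
    rw [CurvLib.hMap_apply, CategoryTheory.Functor.map_id, Sheaf.H.map_id_apply]
  have hinj : Function.Injective (CurvLib.hMap (k := k) S.f p) := fun a b hab => by
    have h := congrArg (CurvLib.hMap (k := k) σ.r p) hab
    rwa [← CurvLib.hMap_comp, ← CurvLib.hMap_comp, σ.f_r, hid, hid] at h
  have hsur : Function.Surjective (CurvLib.hMap (k := k) S.g p) := fun z =>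
    ⟨CurvLib.hMap (k := k) σ.s p z, by rw [← CurvLib.hMap_comp, σ.s_g, hid]⟩
  have h := (CurvLib.hMap (k := k) S.g p).finrank_range_add_finrank_ker
  rw [← CurvLib.exact₂ hS p, LinearMap.finrank_range_of_inj hinj, LinearMap.range_eq_top.mpr hsur, finrank_top] at h
  show Module.finrank k _ = Module.finrank k _ + Module.finrank k _
  omega

/-- `r` copies of the structure sheaf. -/
def pw (X : Scheme.{u}) : ℕ → X.Modules
  | 0 => 0
  | r + 1 => pw X r ⊞ Coh.structureModule X

/-- The split sequence defining `pw`. -/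
def pwSeq (X : Scheme.{u}) (r : ℕ) : ShortComplex X.Modules :=
  ShortComplex.mk (biprod.inl : pw X r ⟶ pw X r ⊞ Coh.structureModule X) biprod.snd biprod.inl_snd

/-- Its splitting. -/
def pwSplit (X : Scheme.{u}) (r : ℕ) : (pwSeq X r).Splitting :=
  ShortComplex.Splitting.ofHasBinaryBiproduct _ _

include k in
theorem isCoh_pw : ∀ r : ℕ, Coh.IsCoh (pw X r)
  | 0 => DevissLib.isCoh_of_isZero (isZero_zero _)
  | r + 1 => by
    haveI := CurvLib.isNoetherian k (X := X)
    exact DevissLib.isCoh_biprod (isCoh_pw r) (DevissLib.isCoh_structureModule X)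

include k in
theorem genRank_pw [IsIntegral X] : ∀ r : ℕ, CurvLib.genRank (pw X r) = r
  | 0 => by
    haveI := CurvLib.isNoetherian k (X := X)
    have h : CohB1.support (pw X 0) = ∅ := support_of_isZero (isZero_zero _)
    have hs : Subsingleton ((pw X 0).presheaf.stalk (genericPoint X)) := by
      by_contra hc
      exact (h.le (show genericPoint X ∈ CohB1.support (pw X 0) from hc) : _)
    exact Module.finrank_zero_of_subsingleton
  | r + 1 => by
    haveI := CurvLib.isNoetherian k (X := X)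
    have h := CurvLib.genRank_add (pwSplit X r).shortExact (isCoh_pw (k := k) r) (isCoh_pw (k := k) (r + 1))
      (DevissLib.isCoh_structureModule X)
    exact h.trans (by rw [show (pwSeq X r).X₁ = pw X r from rfl, genRank_pw r]; exact congrArg (r + ·) (AVAmpleLib.genRank_structureModule X))

theorem hh_pw {P : X.Modules} (hP : PicF.IsInvertible P) (p : ℕ) :
    ∀ r : ℕ, hh k (CohB1.tensorMod (pw X r) P) p = r * hh k P p
  | 0 => by
    haveI := CurvLib.isNoetherian k (X := X)
    rw [HodgeIdxLib.hh_congr (HilbPolyLib.swapIso _ _) p, HodgeIdxLib.hh_eq_zero (M := CohB1.tensorMod P (pw X 0))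
      (isZero_of_support_empty ((HilbPolyLib.support_tensor hP _).trans (support_of_isZero (isZero_zero _)))) p, zero_mul]
  | r + 1 => by
    haveI := CurvLib.isNoetherian k (X := X)
    have hO := DevissLib.isCoh_structureModule X
    have h : hh k (CohB1.tensorMod P (pw X (r + 1))) p =
        hh k (CohB1.tensorMod P (pw X r)) p + hh k (CohB1.tensorMod P (Coh.structureModule X)) p :=
      hh_split (k := k) (HilbPolyLib.shortExact_tensor hP (pwSplit X r).shortExact)
        ((pwSplit X r).map (CurvLib.tensorLeft' P)) (HilbPolyLib.isCoh_tensor hP (isCoh_pw (k := k) r))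
        (HilbPolyLib.isCoh_tensor hP (isCoh_pw (k := k) (r + 1))) (HilbPolyLib.isCoh_tensor hP hO) p
    rw [HodgeIdxLib.hh_congr (HilbPolyLib.swapIso _ _) p, h,
      HodgeIdxLib.hh_congr (HilbPolyLib.swapIso P (pw X r)) p, hh_pw hP p r,
      HodgeIdxLib.hh_congr (HilbPolyLib.swapIso P _ ≪≫ HilbPolyLib.unitLeft P) p]
    ring

/-- Twists of generically isomorphic modules have the same asymptotic cohomology. -/
theorem limsup_eq_of_generic [IsIntegral X] {A : X.Modules} (hA : CohB1.IsAmple A) {L : X.Modules}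
    (hL : PicF.IsInvertible L) {n : ℕ} (hn : topologicalKrullDim X ≤ (n : ℕ)) {H F : X.Modules} (hH : Coh.IsCoh H)
    (hF : Coh.IsCoh F) (φ : H ⟶ F) (hφ : Function.Bijective ((St (genericPoint X)).map φ).hom) (p : ℕ) :
    W4c5asymptcohfn.hhatF k X n p H L = W4c5asymptcohfn.hhatF k X n p F L := by
  haveI := CurvLib.isNoetherian k (X := X)
  have hdim : ∀ N : X.Modules, topologicalKrullDim (CohB1.support N) ≤ (n : ℕ) := fun N =>
    (topologicalKrullDim_subspace_le _ _).trans hn
  have hsmall : ∀ N : X.Modules, Coh.IsCoh N → genericPoint X ∉ CohB1.support N →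
      topologicalKrullDim (CohB1.support N) < (n : ℕ) := fun N hN h => by
    refine dim_lt_of_notMem (QCohLib.isClosed_support _ hN.2) (fun z _ => ?_) h (Y := Set.univ) (Set.subset_univ _)
      (dim_le_iff.mpr ((topologicalKrullDim_subspace_le _ _).trans hn))
    rw [(genericPoint_spec X).def]; exact trivial
  have hK := QCohLib.isCoh_kernel φ hH hF.1
  have hC := QCohLib.isCoh_cokernel φ hH.1 hF
  let I := kernel (cokernel.π φ)
  let e : H ⟶ I := kernel.lift (cokernel.π φ) φ (cokernel.condition φ)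
  have hI : Coh.IsCoh I := QCohLib.isCoh_kernel _ hF hC.1
  haveI : Epi e := (inferInstance : Epi (Abelian.factorThruImage φ))
  have he : e ≫ kernel.ι (cokernel.π φ) = φ := kernel.lift_ι _ _ _
  have w1 : kernel.ι φ ≫ e = 0 := by
    rw [← cancel_mono (kernel.ι (cokernel.π φ)), Category.assoc, he, kernel.condition, zero_comp]
  have hS1 : (ShortComplex.mk (kernel.ι φ) e w1).ShortExact := by
    refine { exact := ?_, mono_f := inferInstanceAs (Mono (kernel.ι φ)), epi_g := inferInstanceAs (Epi e) }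
    let ψ : ShortComplex.mk (kernel.ι φ) e w1 ⟶ ShortComplex.mk (kernel.ι φ) φ (kernel.condition φ) :=
      { τ₁ := 𝟙 _, τ₂ := 𝟙 _, τ₃ := kernel.ι (cokernel.π φ), comm₂₃ := by simp [he] }
    exact (ShortComplex.exact_iff_of_epi_of_isIso_of_mono ψ).2 (ShortComplex.exact_kernel φ)
  have hS2 : (ShortComplex.mk (kernel.ι (cokernel.π φ)) (cokernel.π φ) (kernel.condition _)).ShortExact :=
    { exact := ShortComplex.exact_kernel _, mono_f := inferInstanceAs (Mono (kernel.ι _))
      epi_g := inferInstanceAs (Epi (cokernel.π φ)) }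
  obtain ⟨e₁, D₁, he₁, h₁⟩ := exists_diff_right (k := k) hA hL hS1 hK hH hI
    (hsmall _ hK (DevissLib.notMem_support_kernel φ _ hφ.1)) p
  obtain ⟨e₂, D₂, he₂, h₂⟩ := exists_diff_left (k := k) hA hL hS2 hI hF hC
    (hsmall _ hC (DevissLib.notMem_support_cokernel φ _ hφ.2)) p
  obtain ⟨B₁, hB₁⟩ := exists_bound_pow (k := k) hA hL hH (hdim H)
  obtain ⟨B₂, hB₂⟩ := exists_bound_pow (k := k) hA hL hI (hdim I)
  rw [hhatF_eq_nrm, hhatF_eq_nrm]
  exact (limsup_nrm_eq (hB₁ p) he₁ h₁).trans (limsup_nrm_eq (hB₂ p) he₂ h₂)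

theorem hhatF_eq_rank_mul [IsIntegral X] {A : X.Modules} (hA : CohB1.IsAmple A) {L : X.Modules}
    (hL : PicF.IsInvertible L) {n : ℕ} (hn : topologicalKrullDim X ≤ (n : ℕ)) {F : X.Modules} (hF : Coh.IsCoh F)
    {r : ℕ} (hr : CurvLib.genRank F = r) (p : ℕ) :
    W4c5asymptcohfn.hhatF k X n p F L = (r : ℝ) * W4c5asymptcohfn.hhat k X n p L := by
  haveI := CurvLib.isNoetherian k (X := X)
  let η := genericPoint X
  letI : Field (X.presheaf.stalk η) := (inferInstance : Field X.functionField)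
  have hP := isCoh_pw (k := k) (X := X) r
  haveI : Module.Finite (X.presheaf.stalk η) ((St η).obj F) :=
    haveI := DevissLib.isNoetherian_stalk hF η
    inferInstance
  haveI : Module.Finite (X.presheaf.stalk η) ((St η).obj (pw X r)) :=
    haveI := DevissLib.isNoetherian_stalk hP η
    inferInstance
  have hrk : Module.finrank (X.presheaf.stalk η) ((St η).obj F) =
      Module.finrank (X.presheaf.stalk η) ((St η).obj (pw X r)) := hr.trans (genRank_pw (k := k) r).symm
  obtain ⟨e⟩ := FiniteDimensional.nonempty_linearEquiv_of_finrank_eq hrk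
  obtain ⟨H, p₁, p₂, hH, -, -, hb₁, hb₂⟩ := DevissExt.exists_bridge_iso hF hP η e
  rw [← limsup_eq_of_generic (k := k) hA hL hn hH hF p₁ hb₁ p, limsup_eq_of_generic (k := k) hA hL hn hH hP p₂ hb₂ p,
    hhatF_eq_nrm, hhat_eq_nrm]
  obtain ⟨C, hC⟩ := exists_bound_pow (k := k) hA hL (DevissLib.isCoh_structureModule X)
    ((topologicalKrullDim_subspace_le _ _).trans hn)
  have hC' : ∀ m, hh k (CohB1.tensorPow L m) p ≤ C * (m + 1) ^ n := fun m =>
    (le_of_eq (HodgeIdxLib.hh_congr (HilbPolyLib.unitLeft _) p).symm).trans (hC p m)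
  have hfun : (nrm n fun m => hh k (CohB1.tensorMod (pw X r) (CohB1.tensorPow L m)) p) =
      (fun x : ℝ => (r : ℝ) * x) ∘ nrm n fun m => hh k (CohB1.tensorPow L m) p := by
    funext m
    simp only [nrm, Function.comp_apply, hh_pw (AmpleThLib.tensorPow_isInvertible hL m) p r]
    push_cast; ring
  rw [hfun]
  obtain ⟨b1, b2⟩ := isBoundedUnder_nrm hC'
  exact (Monotone.map_limsup_of_continuousAt (fun a b hab => mul_le_mul_of_nonneg_left hab (Nat.cast_nonneg r)) _
    (continuous_const.mul continuous_id).continuousAt b1 b2.isCoboundedUnder_le).symm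

/-! ### Homogeneity -/

theorem boundedUnder_comp {r : ℝ → ℝ → Prop} {v : ℕ → ℝ} {g : ℕ → ℕ} (h : Filter.IsBoundedUnder r Filter.atTop v)
    (hg : Filter.Tendsto g Filter.atTop Filter.atTop) : Filter.IsBoundedUnder r Filter.atTop (v ∘ g) := by
  obtain ⟨b, hb⟩ := h
  exact ⟨b, Filter.eventually_map.mpr (hg.eventually (Filter.eventually_map.mp hb))⟩

/-- The limit superior along multiples. -/
theorem limsup_nrm_multiples {n C D a : ℕ} (ha : 0 < a) {f : ℕ → ℕ} (hf : ∀ m, f m ≤ C * (m + 1) ^ n)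
    (hlip : ∀ m, ((m + 1 : ℕ) : ℤ) * |(f (m + 1) : ℤ) - f m| ≤ (D : ℤ) * ((m + 1 : ℕ) : ℤ) ^ n) :
    Filter.limsup (nrm n fun q => f (a * q)) Filter.atTop =
      (a : ℝ) ^ n * Filter.limsup (nrm n f) Filter.atTop := by
  have haR : (0 : ℝ) < a := by exact_mod_cast ha
  obtain ⟨f1, f2⟩ := isBoundedUnder_nrm hf
  -- every index is close to a multiple
  set u : ℕ → ℝ := fun m => nrm n f (a * (m / a)) with hu
  have hdiv : Filter.Tendsto (fun m : ℕ => m / a) Filter.atTop Filter.atTop :=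
    Filter.tendsto_atTop_atTop.mpr fun b => ⟨a * b, fun m hm => (Nat.le_div_iff_mul_le ha).mpr (by rwa [mul_comm])⟩
  have hmul : Filter.Tendsto (fun q : ℕ => a * q) Filter.atTop Filter.atTop :=
    Filter.tendsto_atTop_atTop.mpr fun b => ⟨b, fun q hq => hq.trans (Nat.le_mul_of_pos_left q ha)⟩
  have hu1 : Filter.IsBoundedUnder (· ≤ ·) Filter.atTop u :=
    boundedUnder_comp f1 (hmul.comp hdiv)
  have hu2 : Filter.IsBoundedUnder (· ≥ ·) Filter.atTop u :=
    boundedUnder_comp f2 (hmul.comp hdiv)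
  have hq : Filter.limsup u Filter.atTop = Filter.limsup (nrm n f ∘ fun q => a * q) Filter.atTop := by
    show Filter.limsup ((nrm n f ∘ fun q => a * q) ∘ fun m => m / a) Filter.atTop = _
    rw [Filter.limsup_comp, Filter.map_div_atTop_eq_nat a ha]
  have hscale : (nrm n fun q => f (a * q)) = fun q => if q = 0 then nrm n (fun q => f (a * q)) 0 else
      (a : ℝ) ^ n * nrm n f (a * q) := by
    funext q
    split
    · subst q; rfl
    · have : (q : ℝ) ≠ 0 := by exact_mod_cast ‹¬ q = 0›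
      unfold nrm
      push_cast
      rw [mul_pow]
      field_simp
  have hL : Filter.limsup (nrm n fun q => f (a * q)) Filter.atTop = (a : ℝ) ^ n * Filter.limsup u Filter.atTop := by
    rw [hq]
    have hev : (nrm n fun q => f (a * q)) =ᶠ[Filter.atTop] (fun x : ℝ => (a : ℝ) ^ n * x) ∘ (nrm n f ∘ fun q => a * q) :=
      Filter.eventually_atTop.mpr ⟨1, fun q hq1 => by
        rw [hscale]; simp only [Function.comp_apply]; rw [if_neg (by omega)]⟩
    rw [Filter.limsup_congr hev]
    exact (Monotone.map_limsup_of_continuousAt (fun x y hxy => mul_le_mul_of_nonneg_left hxy (by positivity)) _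
      (continuous_const.mul continuous_id).continuousAt (boundedUnder_comp f1 hmul) ((boundedUnder_comp f2 hmul).isCoboundedUnder_le)).symm
  rw [hL]
  congr 1
  -- `nrm f m` against `nrm f (a * (m / a))`
  set g : ℕ → ℕ := fun m => f (a * (m / a))
  have hg : ∀ m, |(f m : ℤ) - g m| ≤ (∑ j ∈ Finset.Ico (a * (m / a)) m, |(f (j + 1) : ℤ) - f j|) := by
    intro m
    have h := Finset.sum_Ico_sub (fun j => (f j : ℤ)) (Nat.mul_div_le m a)
    show |(f m : ℤ) - f (a * (m / a))| ≤ _
    rw [← h]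
    exact Finset.abs_sum_le_sum_abs _ _
  set e : ℕ → ℕ := fun m => (|(f m : ℤ) - g m|).toNat
  have heq : ∀ m, |(f m : ℤ) - g m| = (e m : ℤ) := fun m => (Int.toNat_of_nonneg (abs_nonneg _)).symm
  have he : ∀ m, (m + 1) * e m ≤ (a * a * D) * (m + 1) ^ n := by
    intro m
    have key : ∀ j ∈ Finset.Ico (a * (m / a)) m,
        ((m + 1 : ℕ) : ℤ) * |(f (j + 1) : ℤ) - f j| ≤ (a : ℤ) * D * ((m + 1 : ℕ) : ℤ) ^ n := by
      intro j hj
      obtain ⟨hj1, hj2⟩ := Finset.mem_Ico.mp hj
      have h1 : m + 1 ≤ a * (j + 1) := by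
        have := Nat.div_add_mod m a
        have := Nat.mod_lt m ha
        nlinarith [Nat.zero_le (a * (m / a))]
      have h2 : ((m + 1 : ℕ) : ℤ) * |(f (j + 1) : ℤ) - f j| ≤ (a : ℤ) * (((j + 1 : ℕ) : ℤ) * |(f (j + 1) : ℤ) - f j|) := by
        rw [← mul_assoc]
        exact mul_le_mul_of_nonneg_right (by exact_mod_cast h1) (abs_nonneg _)
      refine h2.trans ((mul_le_mul_of_nonneg_left (hlip j) (by positivity)).trans ?_)
      rw [mul_assoc]
      refine mul_le_mul_of_nonneg_left (mul_le_mul_of_nonneg_left ?_ (by positivity)) (by positivity)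
      exact pow_le_pow_left₀ (by positivity) (by push_cast; omega) n
    have h3 : ((m + 1 : ℕ) : ℤ) * |(f m : ℤ) - g m| ≤ ((a * a * D) * (m + 1) ^ n : ℕ) := by
      refine (mul_le_mul_of_nonneg_left (hg m) (by positivity)).trans ?_
      rw [Finset.mul_sum]
      refine (Finset.sum_le_card_nsmul _ _ _ key).trans ?_
      rw [Nat.card_Ico, nsmul_eq_mul]
      push_cast
      have h4 : ((m - a * (m / a) : ℕ) : ℤ) ≤ a := by
        have := Nat.div_add_mod m a
        have := Nat.mod_lt m ha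
        omega
      calc ((m - a * (m / a) : ℕ) : ℤ) * ((a : ℤ) * D * ((m : ℤ) + 1) ^ n)
          ≤ (a : ℤ) * ((a : ℤ) * D * ((m : ℤ) + 1) ^ n) := mul_le_mul_of_nonneg_right h4 (by positivity)
        _ = _ := by ring
    rw [heq] at h3
    exact_mod_cast h3
  rw [limsup_nrm_eq hf he (fun m => (heq m).le)]
  -- renormalisation
  obtain ⟨B, hB⟩ := f1
  have hr : Filter.Tendsto (fun m : ℕ => ((a * (m / a) : ℕ) : ℝ) / (m : ℝ)) Filter.atTop (nhds 1) := by
    refine tendsto_of_tendsto_of_tendsto_of_le_of_le' (g := fun m : ℕ => 1 - (a : ℝ) / m) ?_ tendsto_const_nhds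
      (Filter.eventually_atTop.mpr ⟨1, fun m hm => ?_⟩) (Filter.eventually_atTop.mpr ⟨1, fun m hm => ?_⟩)
    · simpa using (tendsto_const_nhds (x := (1 : ℝ))).sub (tendsto_const_div_atTop_nhds_zero_nat (a : ℝ))
    · have hm0 : (0 : ℝ) < m := by exact_mod_cast hm
      rw [one_sub_div hm0.ne', div_le_div_iff_of_pos_right hm0]
      have := Nat.div_add_mod m a
      have := Nat.mod_lt m ha
      have h5 : (m : ℝ) ≤ ((a * (m / a) : ℕ) : ℝ) + a := by exact_mod_cast (by omega : m ≤ a * (m / a) + a)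
      linarith
    · have hm0 : (0 : ℝ) < m := by exact_mod_cast hm
      rw [div_le_one hm0]
      exact_mod_cast Nat.mul_div_le m a
  have hgu : ∀ᶠ m in Filter.atTop, nrm n g m = (((a * (m / a) : ℕ) : ℝ) / (m : ℝ)) ^ n * u m := by
    refine Filter.eventually_atTop.mpr ⟨a, fun m hm => ?_⟩
    have h1 : ((a * (m / a) : ℕ) : ℝ) ≠ 0 := by
      have : 0 < m / a := Nat.div_pos hm ha
      exact_mod_cast Nat.mul_ne_zero ha.ne' this.ne'
    have h2 : (m : ℝ) ≠ 0 := by exact_mod_cast (show m ≠ 0 by omega)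
    rw [hu]
    unfold nrm
    simp only [g]
    rw [div_pow]
    field_simp
  refine le_antisymm (limsup_le_of_tendsto (u := u) (v := nrm n g) (w := fun m => u m - nrm n g m) hu2 ?_ ?_ ?_
    (Filter.Eventually.of_forall fun m => by simp)) (limsup_le_of_tendsto (w := fun m => nrm n g m - u m) ?_ hu1 hu2 ?_
      (Filter.Eventually.of_forall fun m => by simp))
  all_goals first
    | exact (isBoundedUnder_nrm (C := C) fun m => (hf _).trans (Nat.mul_le_mul_left _
        (Nat.pow_le_pow_left (Nat.succ_le_succ (Nat.mul_div_le m a)) n))).1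
    | exact (isBoundedUnder_nrm (C := C) fun m => (hf _).trans (Nat.mul_le_mul_left _
        (Nat.pow_le_pow_left (Nat.succ_le_succ (Nat.mul_div_le m a)) n))).2
    | skip
  all_goals
    have hbdd : Filter.IsBoundedUnder (· ≤ ·) Filter.atTop fun m => ‖u m‖ := by
      refine hu1.mono_le (Filter.Eventually.of_forall fun m => ?_)
      show ‖u m‖ ≤ u m
      rw [Real.norm_eq_abs, abs_of_nonneg (nrm_nonneg n f _)]
    have h0 : Filter.Tendsto (fun m => ((((a * (m / a) : ℕ) : ℝ) / (m : ℝ)) ^ n - 1) * u m) Filter.atTop (nhds 0) := by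
      refine Filter.Tendsto.zero_mul_isBoundedUnder_le ?_ hbdd
      simpa using (hr.pow n).sub_const 1
  · refine (by simpa using h0.neg : Filter.Tendsto (fun m => -(((((a * (m / a) : ℕ) : ℝ) / (m : ℝ)) ^ n - 1) * u m))
      Filter.atTop (nhds 0)).congr' (hgu.mono fun m hm => ?_)
    show _ = u m - nrm n g m
    rw [hm]; ring
  · refine h0.congr' (hgu.mono fun m hm => ?_)
    show _ = nrm n g m - u m
    rw [hm]; ring

theorem hhat_pow [IsIntegral X] {A : X.Modules} (hA : CohB1.IsAmple A) {L : X.Modules} (hL : PicF.IsInvertible L)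
    {n : ℕ} (hn : topologicalKrullDim X ≤ (n : ℕ)) {a : ℕ} (ha : 0 < a) (p : ℕ) :
    W4c5asymptcohfn.hhat k X n p (CohB1.tensorPow L a) = (a : ℝ) ^ n * W4c5asymptcohfn.hhat k X n p L := by
  obtain ⟨F, hF, hFm⟩ := exists_fam k hL
  obtain ⟨D, -, hD⟩ := exists_step hA hn hF.inv
    (fun e' _ Q hQ hd => exists_bound_multi (k := k) e' X A hA 1 _ F hF Q hQ hd) hL
  obtain ⟨C, hC⟩ := exists_bound_pow (k := k) hA hL (DevissLib.isCoh_structureModule X)
    ((topologicalKrullDim_subspace_le _ _).trans hn)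
  rw [hhat_eq_nrm, hhat_eq_nrm,
    show (fun m => hh k (CohB1.tensorPow (CohB1.tensorPow L a) m) p) = fun m => hh k (CohB1.tensorPow L (a * m)) p from
      funext fun m => (nonempty_pow_pow L a m).elim fun e => HodgeIdxLib.hh_congr e p]
  refine limsup_nrm_multiples (D := D) ha (f := fun m => hh k (CohB1.tensorPow L m) p)
    (fun m => (le_of_eq (HodgeIdxLib.hh_congr (HilbPolyLib.unitLeft _) p).symm).trans (hC p m)) fun m => ?_
  have h := hD p (fun _ => (m : ℤ))
  obtain ⟨em⟩ := hFm m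
  rw [show size (fun _ : Fin 1 => (m : ℤ)) = m by simp [size], HodgeIdxLib.hh_congr em p,
    HodgeIdxLib.hh_congr (HilbPolyLib.congrLeft em L) p] at h
  push_cast
  exact h

/-! ### Lipschitz estimate -/

/-- Comparison of the asymptotic functions of two members of a twist family. -/
theorem abs_hhat_sub_le [IsIntegral X] {A : X.Modules} (hA : CohB1.IsAmple A) {n : ℕ}
    (hn : topologicalKrullDim X ≤ ((n + 1 : ℕ) : WithBot ℕ∞)) {r : ℕ} {L : Fin r → X.Modules}
    {F : (Fin r → ℤ) → X.Modules} (hF : IsTwistFam L F)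
    (hpow : ∀ (a : Fin r → ℤ) (m : ℕ), Nonempty (CohB1.tensorPow (F a) m ≅ F ((m : ℤ) • a))) :
    ∃ D : ℕ, ∀ (p : ℕ) (a b : Fin r → ℤ), |W4c5asymptcohfn.hhat k X (n + 1) p (F a) -
        W4c5asymptcohfn.hhat k X (n + 1) p (F b)| ≤ (D : ℝ) * size (a - b) * ((max (size a) (size b) : ℕ) : ℝ) ^ n := by
  obtain ⟨D, hD⟩ := exists_lipschitz (k := k) hA hn hF
  refine ⟨D * (n + 1).factorial, fun p a b => ?_⟩
  set M := max (size a) (size b)
  have hsm : ∀ (c : Fin r → ℤ) (m : ℕ), size ((m : ℤ) • c) = m * size c := fun c m => by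
    rw [size, size, Finset.mul_sum]
    exact Finset.sum_congr rfl fun j _ => by rw [Pi.smul_apply, smul_eq_mul, Int.natAbs_mul, Int.natAbs_natCast]
  have hb : ∀ c : Fin r → ℤ, ∃ C : ℕ, ∀ m, hh k (CohB1.tensorPow (F c) m) p ≤ C * (m + 1) ^ (n + 1) := fun c => by
    obtain ⟨C, hC⟩ := exists_bound_pow (k := k) hA (hF.inv c) (DevissLib.isCoh_structureModule X)
      ((topologicalKrullDim_subspace_le _ _).trans hn)
    exact ⟨C, fun m => (le_of_eq (HodgeIdxLib.hh_congr (HilbPolyLib.unitLeft _) p).symm).trans (hC p m)⟩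
  obtain ⟨Ca, hCa⟩ := hb a
  obtain ⟨Cb, hCb⟩ := hb b
  obtain ⟨a1, a2⟩ := isBoundedUnder_nrm hCa
  obtain ⟨b1, b2⟩ := isBoundedUnder_nrm hCb
  rw [hhat_eq_nrm, hhat_eq_nrm]
  set fa := nrm (n + 1) fun m => hh k (CohB1.tensorPow (F a) m) p
  set fb := nrm (n + 1) fun m => hh k (CohB1.tensorPow (F b) m) p
  set K : ℝ := (D : ℝ) * (n + 1).factorial * size (a - b)
  set w : ℕ → ℝ := fun m => K * (((M : ℝ) + 1 / m) ^ n - (M : ℝ) ^ n)
  have hw : Filter.Tendsto w Filter.atTop (nhds 0) := by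
    have h1 : Filter.Tendsto (fun m : ℕ => ((M : ℝ) + 1 / (m : ℝ)) ^ n) Filter.atTop (nhds ((M : ℝ) ^ n)) := by
      have := ((tendsto_const_nhds (x := (M : ℝ))).add (tendsto_const_div_atTop_nhds_zero_nat (1 : ℝ))).pow n
      simpa using this
    simp only [w]
    simpa using (h1.sub_const ((M : ℝ) ^ n)).const_mul K
  have key : ∀ᶠ m in Filter.atTop, |fa m - fb m| ≤ K * (M : ℝ) ^ n + w m := by
    refine Filter.eventually_atTop.mpr ⟨1, fun m hm => ?_⟩
    obtain ⟨ea⟩ := hpow a m
    obtain ⟨eb⟩ := hpow b m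
    have h := hD p ((m : ℤ) • a) ((m : ℤ) • b) (m * M) (by rw [hsm]; exact Nat.mul_le_mul_left _ (le_max_left _ _))
      (by rw [hsm]; exact Nat.mul_le_mul_left _ (le_max_right _ _))
    rw [← smul_sub, hsm, ← HodgeIdxLib.hh_congr ea p, ← HodgeIdxLib.hh_congr eb p] at h
    have h' : |(hh k (CohB1.tensorPow (F a) m) p : ℝ) - hh k (CohB1.tensorPow (F b) m) p| ≤
        (D : ℝ) * ((m * size (a - b) : ℕ) : ℝ) * (((m * M : ℕ) : ℝ) + 1) ^ n := by exact_mod_cast h
    have hm0 : (0 : ℝ) < m := by exact_mod_cast hm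
    show |nrm (n + 1) _ m - nrm (n + 1) _ m| ≤ K * (M : ℝ) ^ n + K * (((M : ℝ) + 1 / m) ^ n - (M : ℝ) ^ n)
    rw [nrm, nrm, ← sub_div, ← sub_mul, abs_div, abs_mul, abs_of_pos (show (0 : ℝ) < (n + 1).factorial by positivity),
      abs_of_pos (show (0 : ℝ) < (m : ℝ) ^ (n + 1) by positivity), div_le_iff₀ (by positivity)]
    refine (mul_le_mul_of_nonneg_right h' (by positivity)).trans (le_of_eq ?_)
    rw [← mul_add, add_sub_cancel, show (M : ℝ) + 1 / m = ((m : ℝ) * M + 1) / m by field_simp, div_pow]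
    push_cast
    simp only [K]
    field_simp
    ring
  have hcast : ((D * (n + 1).factorial : ℕ) : ℝ) * size (a - b) * (M : ℝ) ^ n = K * (M : ℝ) ^ n := by
    simp only [K]; push_cast; ring
  rw [hcast, abs_sub_le_iff]
  constructor <;> rw [sub_le_iff_le_add'] <;> refine le_of_forall_pos_le_add fun ε hε => ?_
  · refine Filter.limsup_le_of_le a2.isCoboundedUnder_le ?_
    filter_upwards [key, Filter.eventually_lt_of_limsup_lt (lt_add_of_pos_right _ (half_pos hε)) b1,
      hw.eventually (eventually_lt_nhds (half_pos hε))] with m h1 h2 h3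
    have := (abs_sub_le_iff.mp h1).1
    linarith
  · refine Filter.limsup_le_of_le b2.isCoboundedUnder_le ?_
    filter_upwards [key, Filter.eventually_lt_of_limsup_lt (lt_add_of_pos_right _ (half_pos hε)) a1,
      hw.eventually (eventually_lt_nhds (half_pos hε))] with m h1 h2 h3
    have := (abs_sub_le_iff.mp h1).2
    linarith

omit [IsProper (X ↘ Spec (CommRingCat.of k))] [X.Over (Spec (CommRingCat.of k))] in
theorem nonempty_ztwist_pow [PicGrp.Law X] {r : ℕ} {L M : Fin r → X.Modules} (hL : ∀ j, PicF.IsInvertible (L j))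
    (hi : ∀ j, ClSub.IsInverseOf (L j) (M j)) (a : Fin r → ℤ) (m : ℕ) :
    Nonempty (CohB1.tensorPow (W4c5asymptcohfn.ztwist X L M a) m ≅ W4c5asymptcohfn.ztwist X L M ((m : ℤ) • a)) := by
  have hM : ∀ j, PicF.IsInvertible (M j) := fun j => (hi j).elim fun e => isInvertible_of_inverse (hL j) e
  rw [← PicGrp.cls_eq_cls_iff (AmpleThLib.tensorPow_isInvertible (isInvertible_ztwist hL hM a) m)
    (isInvertible_ztwist hL hM _), cls_tpow (isInvertible_ztwist hL hM a), cls_ztwist hL hM hi, cls_ztwist hL hM hi,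
    ← Finset.prod_pow]
  exact Finset.prod_congr rfl fun j _ => by
    rw [← zpow_natCast, ← zpow_mul, Pi.smul_apply, smul_eq_mul, mul_comm]

omit [X.Over (Spec (CommRingCat.of k))] [IsProper (X ↘ Spec (CommRingCat.of k))] in
theorem size_le_norm {r : ℕ} (a : Fin r → ℤ) : (size a : ℝ) ≤ (r : ℝ) * ‖fun j => ((a j : ℤ) : ℝ)‖ := by
  rw [size, Nat.cast_sum]
  refine (Finset.sum_le_card_nsmul _ _ _ fun j _ => ?_).trans
    (le_of_eq (by rw [Finset.card_univ, Fintype.card_fin, nsmul_eq_mul]))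
  refine le_trans (le_of_eq ?_) (norm_le_pi_norm (fun j => ((a j : ℤ) : ℝ)) j)
  rw [Real.norm_eq_abs, Nat.cast_natAbs, Int.cast_abs]

/-- The asymptotic function of the trivial class vanishes in positive dimension. -/
theorem hhat_trivial {M : X.Modules} (e : Nonempty (M ≅ Coh.structureModule X)) {n : ℕ} (hn : 0 < n) (p : ℕ) :
    W4c5asymptcohfn.hhat k X n p M = 0 := by
  haveI := CurvLib.isNoetherian k (X := X)
  obtain ⟨e⟩ := e
  obtain ⟨n', rfl⟩ : ∃ n', n = n' + 1 := ⟨n - 1, by omega⟩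
  have key : ∀ m, hh k (CohB1.tensorPow M m) p = hh k (Coh.structureModule X) p := by
    intro m
    induction m with
    | zero => rfl
    | succ m ih =>
      rw [← ih]
      exact HodgeIdxLib.hh_congr (HilbPolyLib.congrRight (CohB1.tensorPow M m) e ≪≫ HilbPolyLib.swapIso _ _ ≪≫
        HilbPolyLib.unitLeft _) p
  rw [hhat_eq_nrm]
  refine (tendsto_nrm_zero (C := hh k (Coh.structureModule X) p) fun m => ?_).limsup_eq
  rw [key m, pow_succ', mul_left_comm]
  exact Nat.mul_le_mul_left _ (Nat.le_mul_of_pos_right _ (Nat.pow_pos (Nat.succ_pos m)))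

end GrowthLib
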