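import Groth.Agent.GrowthLib.Semiample
import Groth.Agent.GrowthLib.Asymp
import Groth.Agent.DCohRestrLib.Glue

/-!
# Cohomology of powers in degrees above the dimension of the base locus
-/

set_option autoImplicit false
set_option linter.style.haveILetI false
set_option maxHeartbeats 1000000
universe u

open CategoryTheory CategoryTheory.Limits AlgebraicGeometry TopologicalSpace Opposite MonoidalCategory
open HilbPolyLib DevissLib IntMultLib IntFunLib
open HodgeIdxLib (hh)

noncomputable section

namespace GrowthLib

variable {X : Scheme.{u}}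

theorem isClosed_baseLocus (L : X.Modules) : IsClosed (W4c5asymptcohfn.baseLocus X L) := by
  have : W4c5asymptcohfn.baseLocus X L =
      ⋂ s : Coh.structureModule X ⟶ L, ((CohB1.genLocus L s : Set X))ᶜ := by
    ext x; simp [W4c5asymptcohfn.baseLocus]
  rw [this]
  exact isClosed_iInter fun s => (CohB1.genLocus L s).2.isClosed_compl

theorem isIso_St_of_mem_genLocus {L : X.Modules} (φ : Coh.structureModule X ⟶ L) {x : X}
    (hx : x ∈ CohB1.genLocus L φ) : IsIso ((St x).map φ) := by
  obtain ⟨U, hU, hxU⟩ : ∃ U : X.Opens, IsIso ((Scheme.Modules.restrictFunctor U.ι).map φ) ∧ x ∈ U := by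
    obtain ⟨U, hU, hxU⟩ := Opens.mem_sSup.mp hx
    exact ⟨U, hU, hxU⟩
  haveI : IsIso ((Scheme.Modules.restrictFunctor U.ι).map φ) := hU
  exact Groth.Agent.DCohRestrLib.isIso_stalk_of_restrict U.ι φ ⟨x, hxU⟩

/-- Where the section generates, multiplication by it is bijective on every stalk. -/
theorem isIso_St_mulNat {L : X.Modules} (φ : Coh.structureModule X ⟶ L) {x : X}
    (hx : x ∈ CohB1.genLocus L φ) (C : X.Modules) : IsIso ((St x).map ((mulNat φ).app C)) := by
  haveI := isIso_St_of_mem_genLocus φ hx
  haveI : IsIso ((St x).map (((DCoh.tensorBi (X := X)).map φ).app C)) := by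
    have h := (Iso.inv_comp_eq _).mpr (KFlatLib.stalkTensorIso_natural_left (x := x) (N := C) φ)
    rw [← h]
    infer_instance
  show IsIso ((St x).map (PerfCompLib.tensUnitNat.inv.app C ≫ ((DCoh.tensorBi (X := X)).map φ).app C))
  rw [Functor.map_comp]
  infer_instance

variable {k : Type u} [Field k] [X.Over (Spec (CommRingCat.of k))] [IsProper (X ↘ Spec (CommRingCat.of k))]

/-- Cohomology above the dimension of the base locus: `h^p(L^m ⊗ Q) = O(m^{e-1})` for `dim Supp Q ≤ e`. -/
theorem exists_bound_baseLocus {L : X.Modules} (hL : PicF.IsInvertible L) {d : ℕ}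
    (hd : topologicalKrullDim (W4c5asymptcohfn.baseLocus X L) ≤ (d : ℕ)) :
    ∀ (e : ℕ) (Q : X.Modules), Coh.IsCoh Q → topologicalKrullDim (CohB1.support Q) ≤ (e : ℕ) →
      ∃ C : ℕ, ∀ p, d < p → ∀ m : ℕ, hh k (CohB1.tensorMod (CohB1.tensorPow L m) Q) p ≤ C * (m + 1) ^ (e - 1) := by
  haveI := CurvLib.isNoetherian k (X := X)
  have hvan : ∀ (Q : X.Modules), Coh.IsCoh Q → topologicalKrullDim (CohB1.support Q) ≤ (d : ℕ) → ∀ p, d < p →
      ∀ m, hh k (CohB1.tensorMod (CohB1.tensorPow L m) Q) p = 0 := fun Q hQ hQd p hp m =>
    hh_eq_zero_of_dim (HilbPolyLib.isCoh_tensor (AmpleThLib.tensorPow_isInvertible hL m) hQ)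
      (by rw [HilbPolyLib.support_tensor (AmpleThLib.tensorPow_isInvertible hL m)]; exact hQd) hp
  intro e
  induction e with
  | zero =>
    intro Q hQ hQe
    exact ⟨0, fun p hp m => by rw [hvan Q hQ (hQe.trans (by exact_mod_cast Nat.zero_le d)) p hp m]; simp⟩
  | succ e IH =>
    intro Q hQ hQe
    obtain ⟨t, G, φ, hG0, ⟨eG⟩, hGc, hstep⟩ := DevissLib.exists_filtration hQ
    have hmono : ∀ j ≤ t, ∃ ψ : G j ⟶ Q, Mono ψ := by
      intro j hj
      induction h : t - j generalizing j with
      | zero =>
        obtain rfl : j = t := by omega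
        exact ⟨eG.hom, inferInstance⟩
      | succ s ih =>
        obtain ⟨ψ, hψ⟩ := ih (j + 1) (by omega) (by omega)
        haveI := (hstep j (by omega)).1
        exact ⟨φ j ≫ ψ, inferInstance⟩
    have main : ∀ j ≤ t, ∃ C : ℕ, ∀ p, d < p → ∀ m : ℕ,
        hh k (CohB1.tensorMod (CohB1.tensorPow L m) (G j)) p ≤ C * (m + 1) ^ e := by
      intro j
      induction j with
      | zero =>
        intro _
        refine ⟨0, fun p _ m => ?_⟩
        rw [HodgeIdxLib.hh_eq_zero (isZero_of_support_empty ((HilbPolyLib.support_tensor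
          (AmpleThLib.tensorPow_isInvertible hL m) _).trans (support_of_isZero hG0))) p]
        simp
      | succ j ih =>
        intro hj
        obtain ⟨B, hB⟩ := ih (by omega)
        obtain ⟨hm, Z, i, hi, hZ, I, ι, hι, hI, hI0, ⟨eI⟩⟩ := hstep j (by omega)
        haveI := hm
        haveI := hι
        have hc : Coh.IsCoh (cokernel (φ j)) :=
          QCohLib.isCoh_cokernel (φ j) (hGc j (by omega)).1 (hGc (j + 1) hj)
        let η := i (genericPoint Z)
        have hsuppC : CohB1.support (cokernel (φ j)) ⊆ closure ({η} : Set X) := by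
          rw [DevissLib.support_iso eI]
          refine (support_push_subset' i i.isClosedEmbedding.isClosed_range I).trans ?_
          exact (DevissExt.closure_generic i).symm.le
        have hηQ : closure ({η} : Set X) ⊆ CohB1.support Q := by
          obtain ⟨ψ, hψ⟩ := hmono (j + 1) hj
          refine closure_minimal (Set.singleton_subset_iff.mpr ?_) (QCohLib.isClosed_support Q hQ.2)
          refine support_mono ψ (support_epi (cokernel.π (φ j)) ?_)
          rw [DevissLib.support_iso eI]
          exact DevissExt.mem_support_push i ι hI0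
        suffices hC : ∃ C : ℕ, ∀ p, d < p → ∀ m : ℕ,
            hh k (CohB1.tensorMod (CohB1.tensorPow L m) (cokernel (φ j))) p ≤ C * (m + 1) ^ e by
          obtain ⟨C, hC⟩ := hC
          refine ⟨B + C, fun p hp m => ?_⟩
          have hs1 := HodgeIdxLib.ses_left (k := k) (AmpleThLib.tensorPow_isInvertible hL m)
            (S := ShortComplex.mk (φ j) (cokernel.π (φ j)) (cokernel.condition _))
            { exact := ShortComplex.exact_cokernel _, mono_f := inferInstanceAs (Mono (φ j))
              epi_g := inferInstanceAs (Epi (cokernel.π _)) } (hGc j (by omega)) (hGc (j + 1) hj) hc p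
          exact (hs1.trans (Nat.add_le_add (hB p hp m) (hC p hp m))).trans (le_of_eq (by ring))
        set C := cokernel (φ j)
        by_cases hsmallC : topologicalKrullDim (CohB1.support C) ≤ (d : ℕ)
        · exact ⟨0, fun p hp m => by rw [hvan C hc hsmallC p hp m]; simp⟩
        obtain ⟨s, hs⟩ : ∃ s : Coh.structureModule X ⟶ L, η ∈ CohB1.genLocus L s := by
          by_contra hcon
          push Not at hcon
          exact hsmallC ((dim_mono (hsuppC.trans
            (closure_minimal (Set.singleton_subset_iff.mpr (show η ∈ W4c5asymptcohfn.baseLocus X L from hcon)) (isClosed_baseLocus L)))).trans hd)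
        let μ := (mulNat s).app C
        have hLC : Coh.IsCoh (CohB1.tensorMod L C) := HilbPolyLib.isCoh_tensor hL hc
        haveI := isIso_St_mulNat s hs C
        have hb : Function.Bijective ((St η).map μ).hom := ConcreteCategory.bijective_of_isIso _
        have hηd : topologicalKrullDim (closure ({η} : Set X)) < ((e + 2 : ℕ) : WithBot ℕ∞) :=
          dim_le_iff.mpr ((dim_mono hηQ).trans hQe)
        have hlow : ∀ N : X.Modules, Coh.IsCoh N → CohB1.support N ⊆ closure {η} → η ∉ CohB1.support N →
            topologicalKrullDim (CohB1.support N) ≤ (e : ℕ) := fun N hN hsub hη =>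
          dim_le_iff.mp (dim_lt_of_notMem (QCohLib.isClosed_support _ hN.2) hsub hη (Y := closure {η})
            subset_rfl hηd)
        have hK := QCohLib.isCoh_kernel μ hc hLC.1
        have hR := QCohLib.isCoh_cokernel μ hc.1 hLC
        have hKd := hlow _ hK ((support_mono (kernel.ι μ)).trans hsuppC) (DevissLib.notMem_support_kernel μ η hb.1)
        have hRd := hlow _ hR ((support_epi (cokernel.π μ)).trans (by
          rw [show CohB1.support ((CurvLib.tensorLeft' L).obj C) = CohB1.support C from
            HilbPolyLib.support_tensor hL _]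
          exact hsuppC)) (DevissLib.notMem_support_cokernel μ η hb.2)
        obtain ⟨CK, hCK⟩ := IH _ hK hKd
        obtain ⟨CR, hCR⟩ := IH _ hR hRd
        let J := kernel (cokernel.π μ)
        let f : C ⟶ J := kernel.lift (cokernel.π μ) μ (cokernel.condition μ)
        have hJ : Coh.IsCoh J := QCohLib.isCoh_kernel _ hLC hR.1
        haveI : Epi f := (inferInstance : Epi (Abelian.factorThruImage μ))
        have hf : f ≫ kernel.ι (cokernel.π μ) = μ := kernel.lift_ι _ _ _
        have w1 : kernel.ι μ ≫ f = 0 := by
          rw [← cancel_mono (kernel.ι (cokernel.π μ)), Category.assoc, hf, kernel.condition, zero_comp]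
        have hS1 : (ShortComplex.mk (kernel.ι μ) f w1).ShortExact := by
          refine { exact := ?_, mono_f := inferInstanceAs (Mono (kernel.ι μ)), epi_g := inferInstanceAs (Epi f) }
          let ψ : ShortComplex.mk (kernel.ι μ) f w1 ⟶ ShortComplex.mk (kernel.ι μ) μ (kernel.condition μ) :=
            { τ₁ := 𝟙 _, τ₂ := 𝟙 _, τ₃ := kernel.ι (cokernel.π μ), comm₂₃ := by simp [hf] }
          exact (ShortComplex.exact_iff_of_epi_of_isIso_of_mono ψ).2 (ShortComplex.exact_kernel μ)
        have hS2 : (ShortComplex.mk (kernel.ι (cokernel.π μ)) (cokernel.π μ) (kernel.condition _)).ShortExact :=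
          { exact := ShortComplex.exact_kernel _, mono_f := inferInstanceAs (Mono (kernel.ι _))
            epi_g := inferInstanceAs (Epi (cokernel.π μ)) }
        have hrec : ∀ p, d < p → ∀ m, hh k (CohB1.tensorMod (CohB1.tensorPow L (m + 1)) C) p ≤
            hh k (CohB1.tensorMod (CohB1.tensorPow L m) C) p + (CK + CR) * (m + 1) ^ (e - 1) := by
          intro p hp m
          have hm' := AmpleThLib.tensorPow_isInvertible hL m
          have h1 := (HodgeIdxLib.ses_mk (k := k) _ _ _ (HilbPolyLib.shortExact_tensor hm' hS1)
            (HilbPolyLib.isCoh_tensor hm' hK) (HilbPolyLib.isCoh_tensor hm' hc) (HilbPolyLib.isCoh_tensor hm' hJ) p).2.1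
          have h2 := HodgeIdxLib.ses_left (k := k) hm' hS2 hJ hLC hR p
          have h3 := HodgeIdxLib.hh_congr (k := k) (HilbPolyLib.assocIso (CohB1.tensorPow L m) L C) p
          have := hCK (p + 1) (by omega) m
          have := hCR p hp m
          rw [add_mul]
          change hh k (CohB1.tensorMod (CohB1.tensorPow L m) J) p ≤
            hh k (CohB1.tensorMod (CohB1.tensorPow L m) C) p +
              hh k (CohB1.tensorMod (CohB1.tensorPow L m) (kernel μ)) (p + 1) at h1
          change hh k (CohB1.tensorMod (CohB1.tensorPow L m) (CohB1.tensorMod L C)) p ≤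
            hh k (CohB1.tensorMod (CohB1.tensorPow L m) J) p +
              hh k (CohB1.tensorMod (CohB1.tensorPow L m) (cokernel μ)) p at h2
          change hh k (CohB1.tensorMod (CohB1.tensorMod (CohB1.tensorPow L m) L) C) p ≤ _
          omega
        rcases le_or_gt e d with he | he
        · -- the correction terms vanish
          obtain ⟨T, hT⟩ : ∃ T, ∀ p, hh k (CohB1.tensorMod (CohB1.tensorPow L 0) C) p ≤ T := by
            refine ⟨tot k (e + 1) (CohB1.tensorMod (CohB1.tensorPow L 0) C), fun p => hh_le_tot
              (HilbPolyLib.isCoh_tensor (AmpleThLib.tensorPow_isInvertible hL 0) hc) ?_ p⟩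
            rw [HilbPolyLib.support_tensor (AmpleThLib.tensorPow_isInvertible hL 0)]
            exact ((dim_mono (hsuppC.trans hηQ))).trans hQe
          refine ⟨T, fun p hp m => le_trans ?_ (Nat.le_mul_of_pos_right _ (by positivity))⟩
          induction m with
          | zero => exact hT p
          | succ m ihm =>
            refine le_trans ?_ ihm
            have h0K := hvan _ hK (hKd.trans (by exact_mod_cast he)) (p + 1) (by omega) m
            have h0R := hvan _ hR (hRd.trans (by exact_mod_cast he)) p hp m
            have hm' := AmpleThLib.tensorPow_isInvertible hL m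
            have h1 := (HodgeIdxLib.ses_mk (k := k) _ _ _ (HilbPolyLib.shortExact_tensor hm' hS1)
              (HilbPolyLib.isCoh_tensor hm' hK) (HilbPolyLib.isCoh_tensor hm' hc) (HilbPolyLib.isCoh_tensor hm' hJ) p).2.1
            have h2 := HodgeIdxLib.ses_left (k := k) hm' hS2 hJ hLC hR p
            have h3 := HodgeIdxLib.hh_congr (k := k) (HilbPolyLib.assocIso (CohB1.tensorPow L m) L C) p
            change hh k (CohB1.tensorMod (CohB1.tensorPow L m) J) p ≤
              hh k (CohB1.tensorMod (CohB1.tensorPow L m) C) p +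
                hh k (CohB1.tensorMod (CohB1.tensorPow L m) (kernel μ)) (p + 1) at h1
            change hh k (CohB1.tensorMod (CohB1.tensorPow L m) (CohB1.tensorMod L C)) p ≤
              hh k (CohB1.tensorMod (CohB1.tensorPow L m) J) p +
                hh k (CohB1.tensorMod (CohB1.tensorPow L m) (cokernel μ)) p at h2
            change hh k (CohB1.tensorMod (CohB1.tensorMod (CohB1.tensorPow L m) L) C) p ≤ _
            omega
        · obtain ⟨T, hT⟩ : ∃ T, ∀ p, hh k (CohB1.tensorMod (CohB1.tensorPow L 0) C) p ≤ T := by
            refine ⟨tot k (e + 1) (CohB1.tensorMod (CohB1.tensorPow L 0) C), fun p => hh_le_tot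
              (HilbPolyLib.isCoh_tensor (AmpleThLib.tensorPow_isInvertible hL 0) hc) ?_ p⟩
            rw [HilbPolyLib.support_tensor (AmpleThLib.tensorPow_isInvertible hL 0)]
            exact ((dim_mono (hsuppC.trans hηQ))).trans hQe
          refine ⟨T + (CK + CR), fun p hp m => ?_⟩
          induction m with
          | zero => exact ((hT p).trans (Nat.le_add_right _ _)).trans (Nat.le_mul_of_pos_right _ (by positivity))
          | succ m ihm =>
            refine (hrec p hp m).trans ((Nat.add_le_add_right ihm _).trans ?_)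
            obtain ⟨f', rfl⟩ : ∃ f', e = f' + 1 := ⟨e - 1, by omega⟩
            rw [Nat.add_sub_cancel]
            have hp1 : (m + 1) ^ f' * (m + 1) + (m + 1) ^ f' ≤ (m + 2) ^ f' * (m + 2) := by
              calc (m + 1) ^ f' * (m + 1) + (m + 1) ^ f' = (m + 1) ^ f' * (m + 2) := by ring
                _ ≤ _ := Nat.mul_le_mul_right _ (Nat.pow_le_pow_left (by omega) _)
            calc (T + (CK + CR)) * (m + 1) ^ (f' + 1) + (CK + CR) * (m + 1) ^ f'
                ≤ (T + (CK + CR)) * ((m + 1) ^ f' * (m + 1) + (m + 1) ^ f') := by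
                  rw [mul_add, pow_succ]
                  exact Nat.add_le_add_left (Nat.mul_le_mul_right _ (Nat.le_add_left _ _)) _
              _ ≤ (T + (CK + CR)) * (m + 1 + 1) ^ (f' + 1) := by
                  rw [pow_succ]
                  exact Nat.mul_le_mul_left _ hp1
    obtain ⟨C, hC⟩ := main t le_rfl
    exact ⟨C, fun p hp m => by
      rw [← HodgeIdxLib.hh_congr (HilbPolyLib.congrRight _ eG) p, Nat.add_sub_cancel]
      exact hC p hp m⟩

end GrowthLib

end
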