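import Groth.Agent.NumRLib.Big
import Groth.Agent.HodgeIdxLib.Light
import Groth.Agent.LMLib.Rank
import Groth.Agent.DevissExtLib.Main

/-!
# Growth of global sections of twists: upper bound
-/

set_option autoImplicit false
set_option linter.style.haveILetI false
set_option maxHeartbeats 1000000
universe u

open CategoryTheory CategoryTheory.Limits AlgebraicGeometry TopologicalSpace Opposite
open HilbPolyLib DevissLib IntMultLib IntFunLib
open HodgeIdxLib (hh)
open KFlatLib (pb)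

noncomputable section

namespace GrowthLib

variable {k : Type u} [Field k] {X : Scheme.{u}} [X.Over (Spec (CommRingCat.of k))]
  [IsProper (X ↘ Spec (CommRingCat.of k))]

/-- `h⁰` of a submodule. -/
theorem hh_le_of_mono {M N : X.Modules} (φ : M ⟶ N) [Mono φ] (hM : Coh.IsCoh M) (hN : Coh.IsCoh N) :
    hh k M 0 ≤ hh k N 0 :=
  (HodgeIdxLib.ses_mk (k := k) φ (cokernel.π φ) (cokernel.condition φ)
    { exact := ShortComplex.exact_cokernel φ, mono_f := inferInstanceAs (Mono φ)
      epi_g := inferInstanceAs (Epi (cokernel.π φ)) } hM hN (QCohLib.isCoh_cokernel φ hM.1 hN) 0).2.2.2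

omit [X.Over (Spec (CommRingCat.of k))] [IsProper (X ↘ Spec (CommRingCat.of k))] in
theorem mono_tensor' {A P Q : X.Modules} (hA : PicF.IsInvertible A) (φ : P ⟶ Q) [Mono φ] :
    ∃ ψ : CohB1.tensorMod P A ⟶ CohB1.tensorMod Q A, Mono ψ := by
  obtain ⟨ψ, hψ⟩ := NumRLib.mono_tensor hA φ
  exact ⟨(HilbPolyLib.swapIso P A).hom ≫ ψ ≫ (HilbPolyLib.swapIso A Q).hom, inferInstance⟩

omit [X.Over (Spec (CommRingCat.of k))] [IsProper (X ↘ Spec (CommRingCat.of k))] in
/-- Powers of a monomorphism of invertible modules. -/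
theorem exists_mono_pow {L M : X.Modules} (hL : PicF.IsInvertible L) (hM : PicF.IsInvertible M) (φ : L ⟶ M) [Mono φ] :
    ∀ n : ℕ, ∃ ψ : CohB1.tensorPow L n ⟶ CohB1.tensorPow M n, Mono ψ
  | 0 => ⟨𝟙 (Coh.structureModule X), inferInstanceAs (Mono (𝟙 _))⟩
  | n + 1 => by
    obtain ⟨ψ, hψ⟩ := exists_mono_pow hL hM φ n
    obtain ⟨a, ha⟩ := mono_tensor' hL ψ
    obtain ⟨b, hb⟩ := NumRLib.mono_tensor (AmpleThLib.tensorPow_isInvertible hM n) φ
    exact ⟨a ≫ b, @mono_comp _ _ _ _ _ a ha b hb⟩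

omit [X.Over (Spec (CommRingCat.of k))] [IsProper (X ↘ Spec (CommRingCat.of k))] in
theorem nonempty_pow_pow (L : X.Modules) (a : ℕ) : ∀ b : ℕ,
    Nonempty (CohB1.tensorPow (CohB1.tensorPow L a) b ≅ CohB1.tensorPow L (a * b))
  | 0 => ⟨Iso.refl _⟩
  | b + 1 => by
    obtain ⟨e⟩ := nonempty_pow_pow L a b
    obtain ⟨e'⟩ := IntMultLib.nonempty_tensorPow_add L (a * b) a
    exact ⟨HilbPolyLib.congrLeft e _ ≪≫ e'.symm ≪≫ eqToIso (by rw [Nat.mul_succ])⟩

/-- Eventual polynomial bound gives a global bound. -/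
theorem exists_bound {f : ℕ → ℕ} {d N : ℕ} {c : ℚ} (h : ∀ m, N ≤ m → (f m : ℚ) ≤ c * ((m : ℚ) + 1) ^ d) :
    ∃ C : ℕ, ∀ m, f m ≤ C * (m + 1) ^ d := by
  refine ⟨⌈c⌉₊ + ∑ i ∈ Finset.range N, f i, fun m => ?_⟩
  have hp : 1 ≤ (m + 1) ^ d := Nat.one_le_pow _ _ m.succ_pos
  rcases lt_or_ge m N with hm | hm
  · exact ((Finset.single_le_sum (fun i _ => Nat.zero_le (f i)) (Finset.mem_range.mpr hm)).trans
      (Nat.le_add_left _ _)).trans (Nat.le_mul_of_pos_right _ hp)
  · have h1 : (f m : ℚ) ≤ ((⌈c⌉₊ * (m + 1) ^ d : ℕ) : ℚ) := by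
      push_cast
      exact (h m hm).trans (mul_le_mul_of_nonneg_right (Nat.le_ceil c) (by positivity))
    exact (Nat.cast_le.mp h1).trans (Nat.mul_le_mul_right _ (Nat.le_add_right _ _))

/-- Sections of powers on an integral projective scheme. -/
theorem exists_bound_integral [IsIntegral X] {A L : X.Modules} (hA : CohB1.IsAmple A) (hL : PicF.IsInvertible L)
    {d : ℕ} (hd : topologicalKrullDim X ≤ (d : ℕ)) :
    ∃ C : ℕ, ∀ m, hh k (CohB1.tensorPow L m) 0 ≤ C * (m + 1) ^ d := by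
  haveI := CurvLib.isNoetherian k (X := X)
  haveI : X.IsSeparated := ⟨by
    rw [show Limits.terminal.from X = (X ↘ Spec (CommRingCat.of k)) ≫ Limits.terminal.from _ from Subsingleton.elim _ _]
    infer_instance⟩
  letI := LMLib.law X
  obtain ⟨L', hL', ⟨e⟩⟩ := NumRLib.exists_inverse (k := k) hL
  obtain ⟨n, -, hn⟩ := MiscFlat6.eventually_ample_globallyGenerated hA hL'
  obtain ⟨s, hs⟩ := NumRLib.exists_mono_of_globallyGenerated
    (HilbPolyLib.isInvertible_tensor (AmpleThLib.tensorPow_isInvertible hA.1 n) hL') (hn n le_rfl).2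
  obtain ⟨φ, hφ⟩ := NumRLib.exists_mono_twist (k := k) hL e s
  have hAn := AmpleThLib.tensorPow_isInvertible hA.1 n
  have hO := DevissLib.isCoh_structureModule X
  have hdim : topologicalKrullDim (CohB1.support (Coh.structureModule X)) ≤ (d : ℕ) :=
    (topologicalKrullDim_subspace_le _ _).trans hd
  obtain ⟨P, hP⟩ := HilbPolyLib.exists_isHilbPoly' (k := k) hA.1 hO
  have hdeg := HilbPolyLib.natDegree_le hA hO hP hdim
  obtain ⟨N, hN⟩ := HilbPolyLib.exists_eval_eq_finrank hA hO hP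
  -- the degree of the rescaled polynomial
  have hb : ∀ m : ℕ, N ≤ m → (hh k (CohB1.tensorPow A (n * m)) 0 : ℚ) ≤
      ((∑ i ∈ Finset.range (d + 1), |P.coeff i|) * ((n : ℚ) + 1) ^ d) * ((m : ℚ) + 1) ^ d ∨ n * m < N := by
    intro m _
    rcases lt_or_ge (n * m) N with h | h
    · exact .inr h
    refine .inl ?_
    have e1 : (hh k (CohB1.tensorPow A (n * m)) 0 : ℚ) = P.eval ((n * m : ℕ) : ℚ) := by
      rw [hN _ h, ← HodgeIdxLib.hh_congr (k := k) (HilbPolyLib.swapIso _ _ ≪≫ HilbPolyLib.unitLeft _) 0]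
      rfl
    rw [e1, mul_assoc, ← mul_pow, Polynomial.eval_eq_sum_range' (Nat.lt_succ_of_le hdeg), Finset.sum_mul]
    refine Finset.sum_le_sum fun i hi => ?_
    refine (le_abs_self _).trans ?_
    rw [abs_mul, abs_of_nonneg (show (0 : ℚ) ≤ ((n * m : ℕ) : ℚ) ^ i by positivity)]
    refine mul_le_mul_of_nonneg_left ?_ (abs_nonneg _)
    have h1 : ((n * m : ℕ) : ℚ) ≤ ((n : ℚ) + 1) * ((m : ℚ) + 1) := by push_cast; nlinarith
    refine (pow_le_pow_left₀ (by positivity) h1 i).trans (pow_le_pow_right₀ ?_ ?_)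
    · nlinarith [(Nat.cast_nonneg n : (0 : ℚ) ≤ n), (Nat.cast_nonneg m : (0 : ℚ) ≤ m)]
    · simp only [Finset.mem_range] at hi; omega
  have hle : ∀ m, hh k (CohB1.tensorPow L m) 0 ≤ hh k (CohB1.tensorPow A (n * m)) 0 := fun m => by
    obtain ⟨ψ, hψ⟩ := exists_mono_pow hL hAn φ m
    obtain ⟨f⟩ := nonempty_pow_pow A n m
    refine (hh_le_of_mono ψ (CurvLib.isCoh_of_isInvertible (AmpleThLib.tensorPow_isInvertible hL m))
      (CurvLib.isCoh_of_isInvertible (AmpleThLib.tensorPow_isInvertible hAn m))).trans (le_of_eq ?_)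
    exact HodgeIdxLib.hh_congr f 0
  obtain ⟨C, hC⟩ : ∃ C : ℕ, ∀ m, hh k (CohB1.tensorPow A (n * m)) 0 ≤ C * (m + 1) ^ d := by
    refine exists_bound (N := N) (c := ((∑ i ∈ Finset.range (d + 1), |P.coeff i|) * ((n : ℚ) + 1) ^ d) +
      ∑ j ∈ Finset.range N, (hh k (CohB1.tensorPow A j) 0 : ℚ)) fun m hm => ?_
    have hp : (1 : ℚ) ≤ ((m : ℚ) + 1) ^ d := one_le_pow₀ (by linarith [(Nat.cast_nonneg m : (0 : ℚ) ≤ m)])
    have h0 : (0 : ℚ) ≤ ∑ j ∈ Finset.range N, (hh k (CohB1.tensorPow A j) 0 : ℚ) := by positivity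
    rw [add_mul]
    rcases hb m hm with h | h
    · exact h.trans (le_add_of_nonneg_right (by positivity))
    · refine le_trans ?_ (le_add_of_nonneg_left (by positivity))
      exact (Finset.single_le_sum (f := fun j => (hh k (CohB1.tensorPow A j) 0 : ℚ))
        (fun i _ => by positivity) (Finset.mem_range.mpr h)).trans (le_mul_of_one_le_right h0 hp)
  exact ⟨C, fun m => (hle m).trans (hC m)⟩

/-- **Growth bound**: `h⁰(F ⊗ L^m) = O(m^d)`, `d` the dimension of the support of `F`. -/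
theorem exists_bound_coh {A : X.Modules} (hA : CohB1.IsAmple A) {L : X.Modules} (hL : PicF.IsInvertible L)
    {F : X.Modules} (hF : Coh.IsCoh F) {d : ℕ} (hd : topologicalKrullDim (CohB1.support F) ≤ (d : ℕ)) :
    ∃ C : ℕ, ∀ m, hh k (CohB1.tensorMod (CohB1.tensorPow L m) F) 0 ≤ C * (m + 1) ^ d := by
  haveI := CurvLib.isNoetherian k (X := X)
  obtain ⟨r, G, φ, hG0, ⟨eG⟩, hGc, hstep⟩ := DevissLib.exists_filtration hF
  have hmono : ∀ j ≤ r, ∃ ψ : G j ⟶ F, Mono ψ := by
    intro j hj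
    induction h : r - j generalizing j with
    | zero =>
      obtain rfl : j = r := by omega
      exact ⟨eG.hom, inferInstance⟩
    | succ t ih =>
      obtain ⟨ψ, hψ⟩ := ih (j + 1) (by omega) (by omega)
      haveI := (hstep j (by omega)).1
      exact ⟨φ j ≫ ψ, inferInstance⟩
  have main : ∀ j ≤ r, ∃ C : ℕ, ∀ m, hh k (CohB1.tensorMod (CohB1.tensorPow L m) (G j)) 0 ≤ C * (m + 1) ^ d := by
    intro j
    induction j with
    | zero =>
      intro _
      refine ⟨0, fun m => ?_⟩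
      rw [HodgeIdxLib.hh_eq_zero (isZero_of_support_empty ((HilbPolyLib.support_tensor
        (AmpleThLib.tensorPow_isInvertible hL m) _).trans (support_of_isZero hG0))) 0]
      simp
    | succ j ih =>
      intro hj
      obtain ⟨C, hC⟩ := ih (by omega)
      obtain ⟨hm, Z, i, hi, hZ, I, ι, hι, hI, hI0, ⟨eI⟩⟩ := hstep j (by omega)
      -- the piece
      letI : Z.Over (Spec (CommRingCat.of k)) := ⟨i ≫ (X ↘ Spec (CommRingCat.of k))⟩
      haveI : IsProper (Z ↘ Spec (CommRingCat.of k)) :=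
        inferInstanceAs (IsProper (i ≫ (X ↘ Spec (CommRingCat.of k))))
      haveI := CurvLib.isNoetherian k (X := Z)
      have hIc : Coh.IsCoh I := QCohLib.isCoh_of_mono ι (DevissLib.isCoh_structureModule Z) hI
      have hsub : closure ({i (genericPoint Z)} : Set X) ⊆ CohB1.support F := by
        obtain ⟨ψ, hψ⟩ := hmono (j + 1) hj
        refine closure_minimal (Set.singleton_subset_iff.mpr ?_) (QCohLib.isClosed_support F hF.2)
        refine support_mono ψ (support_epi (cokernel.π (φ j)) ?_)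
        rw [DevissLib.support_iso eI]
        exact DevissExt.mem_support_push i ι hI0
      have hdZ : topologicalKrullDim Z ≤ (d : ℕ) := by
        refine le_trans (le_of_eq ?_) ((dim_mono hsub).trans hd)
        exact (i.isEmbedding.toHomeomorph.trans
          (Homeomorph.setCongr (DevissExt.closure_generic i).symm)).isHomeomorph.topologicalKrullDim_eq
      obtain ⟨D, hD⟩ := exists_bound_integral (k := k) (AmpleDevLib.isAmple_pb i hA.1 hA)
        (AmpleDevLib.isInvertible_pb i hL) hdZ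
      refine ⟨C + D, fun m => ?_⟩
      let T := CohB1.tensorPow L m
      have hT := AmpleThLib.tensorPow_isInvertible hL m
      have hc : Coh.IsCoh (cokernel (φ j)) :=
        QCohLib.isCoh_cokernel (φ j) (hGc j (by omega)).1 (hGc (j + 1) hj)
      haveI := hm
      let S : ShortComplex X.Modules := ShortComplex.mk (φ j) (cokernel.π (φ j)) (cokernel.condition _)
      have hS : S.ShortExact :=
        { exact := ShortComplex.exact_cokernel _, mono_f := inferInstanceAs (Mono (φ j))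
          epi_g := inferInstanceAs (Epi (cokernel.π _)) }
      have h1 : hh k (CohB1.tensorMod T (G (j + 1))) 0 ≤
          hh k (CohB1.tensorMod T (G j)) 0 + hh k (CohB1.tensorMod T (cokernel (φ j))) 0 :=
        HodgeIdxLib.hh_mid_le (k := k) (HilbPolyLib.shortExact_tensor hT hS)
          (HilbPolyLib.isCoh_tensor hT (hGc j (by omega))) (HilbPolyLib.isCoh_tensor hT (hGc (j + 1) hj))
          (HilbPolyLib.isCoh_tensor hT hc) 0
      obtain ⟨φp, -⟩ := AmpleDevLib.exists_pullPowIso i hL m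
      let pr := @asIso _ _ _ _ (ProjFormLib.projApp i T I) (ProjFormLib.isIso_projApp i
        (CurveVBLib.isFinLocFree_of_rank (CurvLib.locFree_of_isInvertible hT)) I)
      let B := CohB1.tensorMod (pb i T) I
      haveI : Coh.IsQCoh B := (HilbPolyLib.isCoh_tensor (AmpleDevLib.isInvertible_pb i hT) hIc).1
      have h2 : hh k (CohB1.tensorMod T (cokernel (φ j))) 0 = hh k B 0 := by
        rw [HodgeIdxLib.hh_congr (HilbPolyLib.congrRight T eI ≪≫ pr) 0]
        exact ((PushLinLib.euler_push k i rfl B).1 0).symm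
      obtain ⟨ψ, hψ⟩ := NumRLib.mono_tensor (AmpleDevLib.isInvertible_pb i hT) ι
      have h3 : hh k B 0 ≤ hh k (CohB1.tensorPow (pb i L) m) 0 := by
        refine (hh_le_of_mono ψ (HilbPolyLib.isCoh_tensor (AmpleDevLib.isInvertible_pb i hT) hIc)
          (HilbPolyLib.isCoh_tensor (AmpleDevLib.isInvertible_pb i hT) (DevissLib.isCoh_structureModule Z))).trans
          (le_of_eq (HodgeIdxLib.hh_congr (HilbPolyLib.swapIso _ _ ≪≫ HilbPolyLib.unitLeft _ ≪≫ φp) 0))
      have h4 : hh k (CohB1.tensorMod T (G j)) 0 ≤ C * (m + 1) ^ d := hC m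
      have h5 : hh k (CohB1.tensorPow (pb i L) m) 0 ≤ D * (m + 1) ^ d := hD m
      rw [add_mul]
      show hh k (CohB1.tensorMod T (G (j + 1))) 0 ≤ _
      omega
  obtain ⟨C, hC⟩ := main r le_rfl
  exact ⟨C, fun m => by rw [← HodgeIdxLib.hh_congr (HilbPolyLib.congrRight _ eG) 0]; exact hC m⟩

end GrowthLib
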