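import Groth.Agent.GrowthLib.Basic
import Groth.Agent.MiscFlat6.AmpleGen

/-!
# Hilbert polynomials against lists, uniform bounds for sections of twists
-/

set_option autoImplicit false
set_option linter.style.haveILetI false
set_option maxHeartbeats 1000000
universe u

open CategoryTheory CategoryTheory.Limits AlgebraicGeometry TopologicalSpace Opposite
open HilbPolyLib DevissLib IntMultLib IntFunLib
open HodgeIdxLib (hh)
open KFlatLib (pb)

noncomputable section

namespace GrowthLib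

/-! ### Monomorphisms after tensoring with an ideal -/

theorem mono_app_unit {X : Scheme.{u}} {P P' : X.Modules} (φ : P ⟶ P') [Mono φ] :
    Mono (((DCoh.tensorBi (X := X)).map φ).app (Coh.structureModule X)) := by
  let O := Coh.structureModule X
  have e : ((DCoh.tensorBi (X := X)).map φ).app O ≫ (KFlatLib.tensSwap O P').hom =
      (KFlatLib.tensSwap O P).hom ≫ ((DCoh.tensorBi (X := X)).obj O).map φ :=
    (DCoh.shP.map_comp _ _).symm.trans ((congrArg DCoh.shP.map
      (BraidedCategory.braiding_naturality_left (DCoh.toP.map φ) (DCoh.toP.obj O))).trans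
        (DCoh.shP.map_comp _ _))
  let S : ShortComplex X.Modules := ShortComplex.mk φ (cokernel.π φ) (cokernel.condition φ)
  have hS : S.ShortExact :=
    { exact := ShortComplex.exact_cokernel φ, mono_f := inferInstanceAs (Mono φ)
      epi_g := inferInstanceAs (Epi (cokernel.π φ)) }
  haveI : Mono (((DCoh.tensorBi (X := X)).obj O).map φ) :=
    (HilbPolyLib.shortExact_tensor CurvLib.isInvertible_structureModule hS).mono_f
  haveI : Mono (((DCoh.tensorBi (X := X)).map φ).app O ≫ (KFlatLib.tensSwap O P').hom) := by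
    rw [e]; exact mono_comp' inferInstance inferInstance
  exact mono_of_mono _ (KFlatLib.tensSwap O P').hom

/-- Twisting an ideal by a monomorphism of invertible modules. -/
theorem exists_mono_ideal {X : Scheme.{u}} {P P' : X.Modules} (hP : PicF.IsInvertible P)
    (φ : P ⟶ P') [Mono φ] {I : X.Modules} (ι : I ⟶ Coh.structureModule X) [Mono ι] :
    ∃ ψ : CohB1.tensorMod P I ⟶ CohB1.tensorMod P' I, Mono ψ := by
  let O := Coh.structureModule X
  let ψ : CohB1.tensorMod P I ⟶ CohB1.tensorMod P' I := ((DCoh.tensorBi (X := X)).map φ).app I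
  let S : ShortComplex X.Modules := ShortComplex.mk ι (cokernel.π ι) (cokernel.condition ι)
  have hS : S.ShortExact :=
    { exact := ShortComplex.exact_cokernel ι, mono_f := inferInstanceAs (Mono ι)
      epi_g := inferInstanceAs (Epi (cokernel.π ι)) }
  have h1 : Mono (((DCoh.tensorBi (X := X)).obj P).map ι) := (HilbPolyLib.shortExact_tensor hP hS).mono_f
  have h2 : Mono (((DCoh.tensorBi (X := X)).map φ).app O) := mono_app_unit φ
  have e := ((DCoh.tensorBi (X := X)).map φ).naturality ι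
  have h3 : Mono (ψ ≫ ((DCoh.tensorBi (X := X)).obj P').map ι) := by
    rw [show ψ ≫ ((DCoh.tensorBi (X := X)).obj P').map ι =
      ((DCoh.tensorBi (X := X)).obj P).map ι ≫ ((DCoh.tensorBi (X := X)).map φ).app O from e.symm]
    exact mono_comp' h1 h2
  exact ⟨ψ, @mono_of_mono _ _ _ _ _ ψ (((DCoh.tensorBi (X := X)).obj P').map ι) h3⟩

/-! ### Globally generated modules on subschemes -/

theorem exists_mono_pb {X Z : Scheme.{u}} [IsIntegral Z] (i : Z ⟶ X) {G : X.Modules} (hG : PicF.IsInvertible G)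
    (hgen : ∀ x : X, ∃ σ : Γ(G, ⊤), x ∈ TwistLib.genSet hG σ) :
    ∃ s : Coh.structureModule Z ⟶ pb i G, Mono s := by
  refine NumRLib.exists_mono_of_globallyGenerated (AmpleDevLib.isInvertible_pb i hG)
    (MiscFlat6.isGloballyGenerated_of_genSections (AmpleDevLib.isInvertible_pb i hG) fun z => ?_)
  obtain ⟨σ, hσ⟩ := hgen (i z)
  exact ⟨(KFlatLib.puSec i σ : Γ(pb i G, ⊤)), (AmpleDevLib.genSet_puSec i hG σ).ge hσ⟩

variable {k : Type u} [Field k] {X : Scheme.{u}} [X.Over (Spec (CommRingCat.of k))]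
  [IsProper (X ↘ Spec (CommRingCat.of k))]

/-! ### Hilbert polynomials and intersection numbers -/

omit [IsProper (X ↘ Spec (CommRingCat.of k))] in
theorem isHilbPoly_shift {F M : X.Modules} {P : Polynomial ℚ} (hP : ShStab.IsHilbPoly k X F M P) :
    ShStab.IsHilbPoly k X F (CohB1.tensorMod F M) (P.comp (Polynomial.X + 1)) := fun m => by
  rw [Polynomial.eval_comp, Polynomial.eval_add, Polynomial.eval_X, Polynomial.eval_one,
    show ((m : ℚ) + 1) = ((m + 1 : ℕ) : ℚ) by push_cast; rfl, ← hP (m + 1), euler_twist, euler_twist]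
  exact congrArg _ (CurvLib.euler_congr (HilbPolyLib.assocIso _ _ _).symm)

omit [IsProper (X ↘ Spec (CommRingCat.of k))] in
theorem N_replicate_eq_fwdDiff {F : X.Modules} : ∀ (d : ℕ) (M : X.Modules) (P : Polynomial ℚ),
    ShStab.IsHilbPoly k X F M P → (N k (List.replicate d F) M : ℚ) = (fwdDiff (1 : ℚ))^[d] P.eval 0
  | 0, M, P, hP => by
    have := hP 0
    rw [euler_twist] at this
    rw [List.replicate_zero, N, Function.iterate_zero, id_eq, ← Nat.cast_zero, ← this]
    exact congrArg _ (CurvLib.euler_congr (HilbPolyLib.unitLeft M)).symm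
  | d + 1, M, P, hP => by
    rw [List.replicate_succ, N]
    push_cast
    rw [N_replicate_eq_fwdDiff d _ _ (isHilbPoly_shift hP), N_replicate_eq_fwdDiff d M P hP,
      Function.iterate_succ_apply', fwdDiff]
    congr 1
    rw [show (P.comp (Polynomial.X + 1)).eval = fun x => P.eval (x + 1) from funext fun x => by simp]
    exact fwdDiff_iter_comp_add (1 : ℚ) (fun x : ℚ => P.eval x) 1 d 0

omit [IsProper (X ↘ Spec (CommRingCat.of k))] in
theorem N_replicate_eq_coeff {F M : X.Modules} {P : Polynomial ℚ} (hP : ShStab.IsHilbPoly k X F M P) {d : ℕ}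
    (hd : P.natDegree ≤ d) : (N k (List.replicate d F) M : ℚ) = d.factorial * P.coeff d := by
  rw [N_replicate_eq_fwdDiff d M P hP, fwdDiff_top hd]

/-! ### Sections of smaller twists -/

omit [X.Over (Spec (CommRingCat.of k))] [IsProper (X ↘ Spec (CommRingCat.of k))] in
theorem exists_mono_twistUp {Z : Scheme.{u}} [IsIntegral Z] (i : Z ⟶ X) {G : X.Modules} (hG : PicF.IsInvertible G)
    (hgen : ∀ x : X, ∃ σ : Γ(G, ⊤), x ∈ TwistLib.genSet hG σ) {T U : X.Modules} (hT : PicF.IsInvertible T)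
    {j : ℕ} (eT : CohB1.tensorMod T (CohB1.tensorPow G j) ≅ U) : ∃ p : pb i T ⟶ pb i U, Mono p := by
  obtain ⟨s, hs⟩ := exists_mono_pb i hG hgen
  obtain ⟨s', hs'⟩ := exists_mono_pow CurvLib.isInvertible_structureModule
    (AmpleDevLib.isInvertible_pb i hG) s j
  obtain ⟨ψ, -⟩ := AmpleDevLib.exists_pullPowIso i hG j
  have hTi := AmpleDevLib.isInvertible_pb i hT
  obtain ⟨a, ha⟩ := NumRLib.mono_tensor hTi s'
  have hO : ∀ n : ℕ, Nonempty (CohB1.tensorPow (Coh.structureModule Z) n ≅ Coh.structureModule Z) := by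
    intro n
    induction n with
    | zero => exact ⟨Iso.refl _⟩
    | succ n ih =>
      obtain ⟨e⟩ := ih
      exact ⟨HilbPolyLib.congrLeft e _ ≪≫ HilbPolyLib.unitLeft _⟩
  obtain ⟨eO⟩ := hO j
  haveI := KFlatLib.isIso_pullθ i T (CohB1.tensorPow G j)
  let e₁ := (HilbPolyLib.congrRight (pb i T) eO ≪≫ HilbPolyLib.swapIso _ _ ≪≫ HilbPolyLib.unitLeft (pb i T)).symm
  let e₂ := HilbPolyLib.congrRight (pb i T) ψ.symm ≪≫
    (@asIso _ _ _ _ (KFlatLib.pullθ i T (CohB1.tensorPow G j)) this).symm ≪≫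
    (Scheme.Modules.pullback i).mapIso eT
  exact ⟨e₁.hom ≫ a ≫ e₂.hom, mono_comp' inferInstance (mono_comp' ha inferInstance)⟩

theorem exists_hh_push {Z : Scheme.{u}} (i : Z ⟶ X) [IsClosedImmersion i] {P : X.Modules}
    (hP : PicF.IsInvertible P) {I : Z.Modules} (hIc : Coh.IsCoh I) {C : X.Modules} (eI : C ≅ (Coh.push i).obj I) :
    letI : Z.Over (Spec (CommRingCat.of k)) := ⟨i ≫ (X ↘ Spec (CommRingCat.of k))⟩
    ∃ _ : True, hh k (CohB1.tensorMod P C) 0 = hh k (CohB1.tensorMod (pb i P) I) 0 := by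
  letI : Z.Over (Spec (CommRingCat.of k)) := ⟨i ≫ (X ↘ Spec (CommRingCat.of k))⟩
  haveI : IsProper (Z ↘ Spec (CommRingCat.of k)) :=
    inferInstanceAs (IsProper (i ≫ (X ↘ Spec (CommRingCat.of k))))
  haveI := CurvLib.isNoetherian k (X := Z)
  let pr := @asIso _ _ _ _ (ProjFormLib.projApp i P I) (ProjFormLib.isIso_projApp i
    (CurveVBLib.isFinLocFree_of_rank (CurvLib.locFree_of_isInvertible hP)) I)
  haveI : Coh.IsQCoh (CohB1.tensorMod (pb i P) I) :=
    (HilbPolyLib.isCoh_tensor (AmpleDevLib.isInvertible_pb i hP) hIc).1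
  refine ⟨trivial, ?_⟩
  rw [HodgeIdxLib.hh_congr (HilbPolyLib.congrRight P eI ≪≫ pr) 0]
  exact ((PushLinLib.euler_push k i rfl (CohB1.tensorMod (pb i P) I)).1 0).symm

/-- Sections on a piece of the filtration. -/
theorem hh_piece_le {G : X.Modules} (hG : PicF.IsInvertible G)
    (hgen : ∀ x : X, ∃ σ : Γ(G, ⊤), x ∈ TwistLib.genSet hG σ) {T U C : X.Modules} (hT : PicF.IsInvertible T)
    (hU : PicF.IsInvertible U) {j : ℕ} (eT : CohB1.tensorMod T (CohB1.tensorPow G j) ≅ U)
    {Z : Scheme.{u}} (i : Z ⟶ X) [IsClosedImmersion i] [IsIntegral Z] {I : Z.Modules}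
    (ι : I ⟶ Coh.structureModule Z) [Mono ι] (hI : Coh.IsQCoh I) (eI : C ≅ (Coh.push i).obj I) :
    hh k (CohB1.tensorMod T C) 0 ≤ hh k (CohB1.tensorMod U C) 0 := by
  letI : Z.Over (Spec (CommRingCat.of k)) := ⟨i ≫ (X ↘ Spec (CommRingCat.of k))⟩
  haveI : IsProper (Z ↘ Spec (CommRingCat.of k)) :=
    inferInstanceAs (IsProper (i ≫ (X ↘ Spec (CommRingCat.of k))))
  haveI := CurvLib.isNoetherian k (X := Z)
  have hIc : Coh.IsCoh I := QCohLib.isCoh_of_mono ι (DevissLib.isCoh_structureModule Z) hI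
  have hTi := AmpleDevLib.isInvertible_pb i hT
  have hUi := AmpleDevLib.isInvertible_pb i hU
  obtain ⟨pT, hpT⟩ := exists_hh_push (k := k) i hT hIc eI
  obtain ⟨pU, hpU⟩ := exists_hh_push (k := k) i hU hIc eI
  rw [hpT, hpU]
  obtain ⟨p, hp⟩ := exists_mono_twistUp i hG hgen hT eT
  obtain ⟨χ, hχ⟩ := exists_mono_ideal hTi p ι
  exact hh_le_of_mono χ (HilbPolyLib.isCoh_tensor hTi hIc) (HilbPolyLib.isCoh_tensor hUi hIc)

theorem euler_twist_add' {T : X.Modules} (hT : PicF.IsInvertible T) {S : ShortComplex X.Modules}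
    (hS : S.ShortExact) (c₁ : Coh.IsCoh S.X₁) (c₂ : Coh.IsCoh S.X₂) (c₃ : Coh.IsCoh S.X₃) :
    Curv2.euler k X (CohB1.tensorMod T S.X₂) = Curv2.euler k X (CohB1.tensorMod T S.X₁) +
      Curv2.euler k X (CohB1.tensorMod T S.X₃) := by
  haveI := CurvLib.isNoetherian k (X := X)
  have := CurvLib.euler_add_of_isCoh (k := k) (HilbPolyLib.shortExact_tensor hT hS)
    (HilbPolyLib.isCoh_tensor hT c₁) (HilbPolyLib.isCoh_tensor hT c₂) (HilbPolyLib.isCoh_tensor hT c₃)
  exact this

/-- Additivity after twisting. -/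
theorem euler_twist_add {T : X.Modules} (hT : PicF.IsInvertible T) {A B C : X.Modules} (f : A ⟶ B) (g : B ⟶ C)
    (w : f ≫ g = 0) (hS : (ShortComplex.mk f g w).ShortExact) (c₁ : Coh.IsCoh A) (c₂ : Coh.IsCoh B)
    (c₃ : Coh.IsCoh C) :
    Curv2.euler k X (CohB1.tensorMod T B) = Curv2.euler k X (CohB1.tensorMod T A) +
        Curv2.euler k X (CohB1.tensorMod T C) ∧
      hh k (CohB1.tensorMod T B) 0 ≤ hh k (CohB1.tensorMod T A) 0 + hh k (CohB1.tensorMod T C) 0 :=
  ⟨euler_twist_add' (k := k) (S := ShortComplex.mk f g w) hT hS c₁ c₂ c₃,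
    HodgeIdxLib.ses_left (k := k) (S := ShortComplex.mk f g w) hT hS c₁ c₂ c₃ 0⟩

/-- Sections of `T ⊗ Q` with `T ⊗ G^j ≅ F^m` are bounded by the Hilbert polynomial of `Q` at `m`. -/
theorem exists_twist_le {F : X.Modules} (hF : CohB1.IsAmple F) {G : X.Modules} (hG : PicF.IsInvertible G)
    (hgen : ∀ x : X, ∃ σ : Γ(G, ⊤), x ∈ TwistLib.genSet hG σ) {Q : X.Modules} (hQ : Coh.IsCoh Q) :
    ∃ N₀ : ℕ, ∀ m, N₀ ≤ m → ∀ (T : X.Modules) (j : ℕ), PicF.IsInvertible T →
      Nonempty (CohB1.tensorMod T (CohB1.tensorPow G j) ≅ CohB1.tensorPow F m) →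
      (hh k (CohB1.tensorMod T Q) 0 : ℤ) ≤ Curv2.euler k X (CohB1.tensorMod (CohB1.tensorPow F m) Q) := by
  haveI := CurvLib.isNoetherian k (X := X)
  obtain ⟨r, W, φ, hW0, ⟨eW⟩, hWc, hstep⟩ := DevissLib.exists_filtration hQ
  have main : ∀ l ≤ r, ∃ N₀ : ℕ, ∀ m, N₀ ≤ m → ∀ (T : X.Modules) (j : ℕ), PicF.IsInvertible T →
      Nonempty (CohB1.tensorMod T (CohB1.tensorPow G j) ≅ CohB1.tensorPow F m) →
      (hh k (CohB1.tensorMod T (W l)) 0 : ℤ) ≤ Curv2.euler k X (CohB1.tensorMod (CohB1.tensorPow F m) (W l)) := by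
    intro l
    induction l with
    | zero =>
      intro _
      refine ⟨0, fun m _ T j hT _ => ?_⟩
      have h0 : ∀ {P : X.Modules}, PicF.IsInvertible P → IsZero (CohB1.tensorMod P (W 0)) := fun hP =>
        isZero_of_support_empty ((HilbPolyLib.support_tensor hP _).trans (support_of_isZero hW0))
      rw [HodgeIdxLib.hh_eq_zero (h0 hT) 0, HilbPolyLib.euler_zero (k := k) (h0 (AmpleThLib.tensorPow_isInvertible hF.1 m))]
      simp
    | succ l ih =>
      intro hl
      obtain ⟨N₁, hN₁⟩ := ih (by omega)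
      obtain ⟨hm, Z, i, hi, hZ, I, ι, hι, hI, hI0, ⟨eI⟩⟩ := hstep l (by omega)
      have hc : Coh.IsCoh (cokernel (φ l)) :=
        QCohLib.isCoh_cokernel (φ l) (hWc l (by omega)).1 (hWc (l + 1) hl)
      obtain ⟨N₂, hN₂⟩ := SerreVanLib.exists_vanishing (X ↘ Spec (CommRingCat.of k)) hF.1 hF _ hc
      refine ⟨max N₁ N₂, fun m hm' T j hT ⟨eT⟩ => ?_⟩
      have h0 := hN₁ m (le_of_max_le_left hm') T j hT ⟨eT⟩
      have hFm := AmpleThLib.tensorPow_isInvertible hF.1 m
      haveI := hm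
      have hS : (ShortComplex.mk (φ l) (cokernel.π (φ l)) (cokernel.condition _)).ShortExact :=
        { exact := ShortComplex.exact_cokernel _, mono_f := inferInstanceAs (Mono (φ l))
          epi_g := inferInstanceAs (Epi (cokernel.π _)) }
      obtain ⟨-, h1⟩ := euler_twist_add (k := k) hT _ _ _ hS (hWc l (by omega)) (hWc (l + 1) hl) hc
      obtain ⟨h2, -⟩ := euler_twist_add (k := k) hFm _ _ _ hS (hWc l (by omega)) (hWc (l + 1) hl) hc
      have h3 : Curv2.euler k X (CohB1.tensorMod (CohB1.tensorPow F m) (cokernel (φ l))) =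
          (hh k (CohB1.tensorMod (CohB1.tensorPow F m) (cokernel (φ l))) 0 : ℤ) := by
        refine CurvLib.euler_eq_finrank fun p hp => ?_
        exact SerreVanLib.subsingleton_HH_of_iso (HilbPolyLib.swapIso (CohB1.tensorPow F m) _) p
          (hN₂ m (le_of_max_le_right hm') p hp)
      have h4 : hh k (CohB1.tensorMod T (cokernel (φ l))) 0 ≤
          hh k (CohB1.tensorMod (CohB1.tensorPow F m) (cokernel (φ l))) 0 :=
        hh_piece_le hG hgen hT hFm eT i ι hI eI
      rw [h2, h3]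
      have : ((hh k (CohB1.tensorMod T (cokernel (φ l))) 0 : ℕ) : ℤ) ≤
          (hh k (CohB1.tensorMod (CohB1.tensorPow F m) (cokernel (φ l))) 0 : ℕ) := by exact_mod_cast h4
      omega
  obtain ⟨N₀, hN₀⟩ := main r le_rfl
  refine ⟨N₀, fun m hm T j hT h => ?_⟩
  rw [← HodgeIdxLib.hh_congr (HilbPolyLib.congrRight _ eW) 0, ← CurvLib.euler_congr (HilbPolyLib.congrRight _ eW)]
  exact hN₀ m hm T j hT h

variable (k) in
include k in
/-- The cokernel of a section lives in smaller dimension. -/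
theorem dim_cok_le [IsIntegral X] {n : ℕ} (hn : topologicalKrullDim X = (n : WithBot ℕ∞)) {M : X.Modules}
    (hM : PicF.IsInvertible M) {φ : Coh.structureModule X ⟶ M} (hφ : φ ≠ 0) :
    Coh.IsCoh (cokernel φ) ∧ topologicalKrullDim (CohB1.support (cokernel φ)) < (n : ℕ) := by
  haveI := CurvLib.isNoetherian k (X := X)
  have hC : Coh.IsCoh (cokernel φ) :=
    QCohLib.isCoh_cokernel φ (DevissLib.isCoh_structureModule X).1 (CurvLib.isCoh_of_isInvertible hM)
  have hgen := CurvLib.generic_notMem_support_cokernel CurvLib.isInvertible_structureModule hM hφ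
  refine ⟨hC, dim_lt_of_notMem (QCohLib.isClosed_support _ hC.2) (fun z _ => ?_) hgen (Y := Set.univ)
    (Set.subset_univ _) ?_⟩
  · rw [(genericPoint_spec X).def]; exact trivial
  · exact ((topologicalKrullDim_subspace_le _ _).trans hn.le).trans_lt
      (by exact_mod_cast Nat.lt_succ_self n)

end GrowthLib
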