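import Groth.Agent.GrowthLib.GlobGen
import Groth.Agent.AVAmpleLib.CurveThrough
import Groth.Agent.IntFunLib.StrictNef
import Groth.Agent.IntFunLib.NefApps
import Groth.Agent.HilbPolyLib.Pos
import Groth.Agent.AmpleThLib.Locus
import Groth.Agent.PnDualLib.ConnSec
import Groth.Agent.AmpleDevLib.Components
import Mathlib.AlgebraicGeometry.ZariskisMainTheorem

/-!
# Finiteness of morphisms tested on curves
-/

set_option autoImplicit false
set_option linter.style.haveILetI false
set_option maxHeartbeats 1000000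
universe u

open CategoryTheory CategoryTheory.Limits AlgebraicGeometry TopologicalSpace Opposite
open HilbPolyLib IntMultLib IntFunLib
open TwistLib (genSet)

noncomputable section

namespace GrowthLib

variable {k : Type u} [Field k] {X : Scheme.{u}} [X.Over (Spec (CommRingCat.of k))]
  [IsProper (X ↘ Spec (CommRingCat.of k))]

variable (k) in
include k in
/-- Infinite closed sets contain curves. -/
theorem exists_curve_point_of_infinite {S : Set X} (hS : IsClosed S) (hinf : ¬ S.Finite) :
    ∃ η ∈ S, topologicalKrullDim (closure ({η} : Set X)) = 1 := by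
  haveI := CurvLib.isNoetherian k (X := X)
  obtain ⟨T, hTf, hTc, hTi, hTeq⟩ := NoetherianSpace.exists_finite_set_isClosed_irreducible hS
  obtain ⟨x, hxS, hx⟩ : ∃ x ∈ S, ¬ IsClosed ({x} : Set X) := by
    by_contra hcon
    push Not at hcon
    refine hinf ((hTf.dependent_image fun c hc => (hTi c hc).genericPoint).subset fun z hz => ?_)
    have hz' := hz
    rw [hTeq] at hz'
    obtain ⟨c, hc, hzc⟩ := hz'
    let g := (hTi c hc).genericPoint
    have hg : closure {g} = c := by
      rw [(hTi c hc).isGenericPoint_genericPoint_closure.def, (hTc c hc).closure_eq]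
    have hgS : g ∈ S := hTeq ▸ ⟨c, hc, hg ▸ subset_closure rfl⟩
    have hzg : z = g := by
      have : z ∈ closure ({g} : Set X) := hg.symm ▸ hzc
      rwa [(hcon g hgS).closure_eq] at this
    exact ⟨c, hc, hzg.symm⟩
  have hsub : closure ({x} : Set X) ⊆ S := closure_minimal (Set.singleton_subset_iff.mpr hxS) hS
  haveI := IntMultLib.isIntegral_ptIdeal x
  let Z := (ptIdeal x).subscheme
  let i := (ptIdeal x).subschemeι
  have hr : Set.range i = closure ({x} : Set X) := IntMultLib.range_ptIdeal x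
  haveI : JacobsonSpace X := LocallyOfFiniteType.jacobsonSpace (X ↘ Spec (CommRingCat.of k))
  haveI : JacobsonSpace Z := LocallyOfFiniteType.jacobsonSpace i
  obtain ⟨e, -, he⟩ := nonempty_inter_closedPoints (Set.univ_nonempty : (Set.univ : Set Z).Nonempty)
    isOpen_univ.isLocallyClosed
  have hne : ({e} : Set Z) ≠ Set.univ := fun h => hx (by
    have : Set.range i = {i e} := by rw [← Set.image_univ, ← h, Set.image_singleton]
    have hxr : x ∈ Set.range i := hr ▸ subset_closure rfl
    rw [this] at hxr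
    have hxe : x = i e := hxr
    rw [hxe, ← this]
    exact i.isClosedEmbedding.isClosed_range)
  obtain ⟨y, -, -, hy⟩ := AVAmpleLib.exists_curve_not_mem (i ≫ X ↘ Spec (CommRingCat.of k)) e he he rfl hne
  refine ⟨i y, hsub (hr ▸ ⟨y, rfl⟩), ?_⟩
  rw [IntFunLib.dim_closure_image i y]
  exact hy

variable {P : Scheme.{u}} [JacobsonSpace P] (φ : X ⟶ P) [IsProper φ]

variable (k) in
include k in
/-- Finite fibres over an open, from the absence of contracted curves. -/
theorem finite_fibre_of_no_curve (U : P.Opens)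
    (h : ∀ η : X, topologicalKrullDim (closure ({η} : Set X)) = 1 → ∀ y : P, y ∈ U → IsClosed ({y} : Set P) →
      ¬ closure ({η} : Set X) ⊆ φ ⁻¹' {y}) : ∀ y ∈ U, (φ ⁻¹' {y}).Finite := by
  have hopen : IsOpen {y : P | (φ ⁻¹' {y}).Finite} := isOpen_iff_forall_mem_open.mpr fun y hy => by
    obtain ⟨V, hyV, hV⟩ := exists_isFinite_morphismRestrict_of_finite_preimage_singleton φ y hy
    refine ⟨V, fun z hz => ?_, V.2, hyV⟩
    haveI := hV
    refine (((φ ∣_ V).finite_preimage_singleton ⟨z, hz⟩).image (φ ⁻¹ᵁ V).ι).subset fun x hx => ?_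
    have hxz : φ x = z := hx
    exact ⟨⟨x, show φ x ∈ V from hxz ▸ hz⟩, Subtype.ext ((morphismRestrict_base_coe φ V _).trans hxz), rfl⟩
  intro y hy
  by_contra hc
  obtain ⟨z, ⟨hz, hzU⟩, hzc⟩ := nonempty_inter_closedPoints
    (Z := {y : P | (φ ⁻¹' {y}).Finite}ᶜ ∩ (U : Set P)) ⟨y, hc, hy⟩
    (hopen.isClosed_compl.isLocallyClosed.inter U.2.isLocallyClosed)
  obtain ⟨η, hη, hη1⟩ := exists_curve_point_of_infinite k (hzc.preimage φ.continuous) hz
  exact h η hη1 z hzU hzc (closure_minimal (Set.singleton_subset_iff.mpr hη) (hzc.preimage φ.continuous))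

variable {L : X.Modules} (hL : PicF.IsInvertible L)

include k hL in
/-- An invertible module with a section generating along an integral curve is not ample there. -/
theorem not_isAmple_of_curve_subset_genSet (σ : Γ(L, ⊤)) {η : X}
    (hη : topologicalKrullDim (closure ({η} : Set X)) = 1) (hsub : closure ({η} : Set X) ⊆ genSet hL σ) :
    ¬ CohB1.IsAmple ((Scheme.Modules.pullback (ptIdeal η).subschemeι).obj L) := by
  intro hamp
  haveI := IntMultLib.isIntegral_ptIdeal η
  let Z := (ptIdeal η).subscheme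
  let i := (ptIdeal η).subschemeι
  letI : Z.Over (Spec (CommRingCat.of k)) := ⟨i ≫ (X ↘ Spec (CommRingCat.of k))⟩
  haveI : IsProper (Z ↘ Spec (CommRingCat.of k)) :=
    inferInstanceAs (IsProper (i ≫ (X ↘ Spec (CommRingCat.of k))))
  haveI := CurvLib.isNoetherian k (X := Z)
  let M : Z.Modules := KFlatLib.pb i L
  let τ : Γ(M, ⊤) := KFlatLib.puSec i σ
  have hgen : AmpleLib.GenOn M τ := TwistLib.genOn_of_genAt fun z _ => by
    have h1 : z ∈ i ⁻¹ᵁ genSet hL σ := hsub (IntMultLib.range_ptIdeal η ▸ ⟨z, rfl⟩)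
    rw [← AmpleDevLib.genSet_puSec i hL σ] at h1
    exact h1
  haveI := AmpleLib.isIso_unitHom τ hgen
  let e : M ≅ Coh.structureModule Z := (asIso (QCohLib.unitHom M τ)).symm
  have hO := DevissLib.isCoh_structureModule Z
  have hd : topologicalKrullDim (CohB1.support (Coh.structureModule Z)) = ((1 : ℕ) : WithBot ℕ∞) := by
    have hd' : topologicalKrullDim Z = 1 := by
      rw [← hη, ← IntMultLib.range_ptIdeal η]
      exact IsHomeomorph.topologicalKrullDim_eq _ i.isEmbedding.toHomeomorph.isHomeomorph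
    rw [IntMultLib.support_structureModule, IsHomeomorph.topologicalKrullDim_eq _ (Homeomorph.Set.univ _).isHomeomorph, hd', Nat.cast_one]
  obtain ⟨Q, hQ⟩ := exists_isHilbPoly' (k := k) hamp.1 hO
  have hconst : Q = Polynomial.C (Curv2.euler k Z (Coh.structureModule Z) : ℚ) := eq_of_eval_nat fun m => by
    obtain ⟨em⟩ := PnDualLib.nonempty_tensorPow_trivial e m
    rw [Polynomial.eval_C, ← hQ m, euler_twist]
    exact congrArg _ (CurvLib.euler_congr (HilbPolyLib.congrLeft em _ ≪≫ HilbPolyLib.unitLeft _))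
  have h := alpha_pos hamp hO hQ hd
  rw [hconst, StabCat.alpha, Polynomial.coeff_C_of_ne_zero one_ne_zero, mul_zero] at h
  exact lt_irrefl _ h

omit [IsProper φ] in
include k in
/-- The morphism to projective space with one prescribed coordinate section. -/
theorem exists_toProjSpace_section (hgen : Curv2.IsGloballyGenerated L) (σ₀ : Γ(L, ⊤)) :
    ∃ (m : ℕ) (v : Fin (m + 1) → Γ(L, ⊤)) (r : X ⟶ CohB1.ProjSpace m k),
      r ≫ CohB1.ProjSpace.toSpec m k = X ↘ Spec (CommRingCat.of k) ∧ v 0 = σ₀ ∧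
      (∀ j, r ⁻¹ᵁ QCohLib.stdOpen m k j = genSet hL (v j)) ∧
      Nonempty ((Scheme.Modules.pullback r).obj (Twist.twistProjSpace m k 1) ≅ L) := by
  classical
  haveI := CurvLib.isNoetherian k (X := X)
  choose σ hσ using fun x => Groth.Agent.S1611.exists_genAt_of_gg hL hgen x
  obtain ⟨t, ht⟩ := isCompact_univ.elim_finite_subcover (fun x : X => (genSet hL (σ x) : Set X))
    (fun x => (genSet hL (σ x)).2) (fun x _ => Set.mem_iUnion.mpr ⟨x, hσ x⟩)
  let v : Fin (t.card + 1) → Γ(L, ⊤) := Fin.cons σ₀ fun i => σ (t.equivFin.symm i).1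
  have hv : ∀ y : X, ∃ i, y ∈ genSet hL (v i) := fun y => by
    obtain ⟨x, hx, hy⟩ := Set.mem_iUnion₂.mp (ht (Set.mem_univ y))
    refine ⟨Fin.succ (t.equivFin ⟨x, hx⟩), ?_⟩
    simp only [v, Fin.cons_succ, Equiv.symm_apply_apply]
    exact hy
  obtain ⟨r, hr, hpre, -, hiso⟩ := GenusZeroLib.exists_toPA_iso (X ↘ Spec (CommRingCat.of k)) hL v hv
  refine ⟨t.card, v, r, hr, rfl, hpre, ?_⟩
  have h1 : Twist.twistProjSpace t.card k 1 = Twist.twist (CohB1.polyGrading t.card k) ((1 : ℕ) : ℤ) := by
    rw [Nat.cast_one]; rfl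
  rw [h1]
  exact hiso

include k hL in
/-- A globally generated module ample on curves is ample. -/
theorem isAmple_of_restrict_curves (hgen : Curv2.IsGloballyGenerated L)
    (hc : ∀ η : X, topologicalKrullDim (closure ({η} : Set X)) = 1 →
      CohB1.IsAmple ((Scheme.Modules.pullback (ptIdeal η).subschemeι).obj L)) : CohB1.IsAmple L := by
  obtain ⟨m, v, r, hr, -, hpre, ⟨e⟩⟩ := exists_toProjSpace_section (k := k) hL hgen (0 : Γ(L, ⊤))
  haveI : IsProper (CohB1.ProjSpace m k ↘ Spec (CommRingCat.of k)) := FormalCohLib.isProper_projToSpec m k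
  haveI : JacobsonSpace (CohB1.ProjSpace m k) :=
    LocallyOfFiniteType.jacobsonSpace (CohB1.ProjSpace m k ↘ Spec (CommRingCat.of k))
  haveI := isProper_of_over r hr
  have hfib := finite_fibre_of_no_curve k r ⊤ fun η hη y _ _ hsub => by
    obtain ⟨j, hj⟩ := Opens.mem_iSup.mp
      ((QCohLib.iSup_stdOpen m k).ge (show y ∈ (⊤ : (CohB1.ProjSpace m k).Opens) from trivial))
    refine not_isAmple_of_curve_subset_genSet (k := k) hL (v j) hη (fun z hz => ?_) (hc η hη)
    rw [← hpre j]
    show r z ∈ QCohLib.stdOpen m k j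
    rw [show r z = y from hsub hz]
    exact hj
  haveI : LocallyQuasiFinite r := LocallyQuasiFinite.of_finite_preimage_singleton r fun y => hfib y trivial
  haveI : IsFinite r := (IsFinite.iff_isProper_and_locallyQuasiFinite ..).mpr ⟨inferInstance, inferInstance⟩
  have hA := FormalCohLib.isAmple_twistProjSpace m k
  exact AmpleDevLib.isAmple_of_iso (AmpleDevLib.isInvertible_pb r hA.1) hL e (AmpleDevLib.isAmple_pb r hA.1 hA)

include k hL in
/-- The locus of a section without complete curves is affine. -/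
theorem isAffineOpen_genSet_of_no_curves (hgen : Curv2.IsGloballyGenerated L) (σ₀ : Γ(L, ⊤))
    (hc : ∀ η : X, topologicalKrullDim (closure ({η} : Set X)) = 1 → ¬ closure ({η} : Set X) ⊆ genSet hL σ₀) :
    IsAffineOpen (genSet hL σ₀) := by
  obtain ⟨m, v, r, hr, hv0, hpre, -⟩ := exists_toProjSpace_section (k := k) hL hgen σ₀
  haveI : IsProper (CohB1.ProjSpace m k ↘ Spec (CommRingCat.of k)) := FormalCohLib.isProper_projToSpec m k
  haveI : JacobsonSpace (CohB1.ProjSpace m k) :=
    LocallyOfFiniteType.jacobsonSpace (CohB1.ProjSpace m k ↘ Spec (CommRingCat.of k))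
  haveI := isProper_of_over r hr
  let U := QCohLib.stdOpen m k 0
  have hfib := finite_fibre_of_no_curve k r U fun η hη y hy _ hsub => by
    refine hc η hη fun z hz => ?_
    rw [← hv0, ← hpre 0]
    show r z ∈ QCohLib.stdOpen m k 0
    rw [show r z = y from hsub hz]
    exact hy
  haveI : LocallyQuasiFinite (r ∣_ U) := LocallyQuasiFinite.of_finite_preimage_singleton (r ∣_ U) fun y =>
    ((hfib y.1 y.2).preimage (r ⁻¹ᵁ U).ι.isOpenEmbedding.injective.injOn).subset fun x hx => by
      show r x.1 = y.1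
      exact (morphismRestrict_base_coe r U x).symm.trans (congrArg Subtype.val (show (r ∣_ U) x = y from hx))
  haveI : IsFinite (r ∣_ U) := (IsFinite.iff_isProper_and_locallyQuasiFinite ..).mpr ⟨inferInstance, inferInstance⟩
  haveI : IsAffine U.toScheme := Proj.isAffineOpen_basicOpen (CohB1.polyGrading m k) (MvPolynomial.X 0)
    (MvPolynomial.isHomogeneous_X k 0) one_pos
  have hV : IsAffineOpen (r ⁻¹ᵁ U) := isAffine_of_isAffineHom (r ∣_ U)
  rw [← hv0, ← hpre 0]
  exact hV

end GrowthLib

end
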