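import Groth.Agent.GrowthLib.Asymp
import Groth.Agent.PnDualLib.Shift
import Groth.Agent.PnDualLib.Ext
import Groth.Agent.CurvLib.Euler
import Groth.Agent.VBP1Lib.Tensor

/-!
# Cohomology along a twisted acyclic resolution, up to terms of lower growth
-/

set_option autoImplicit false
set_option linter.style.haveILetI false
set_option linter.unusedSectionVars false
set_option maxHeartbeats 1000000
universe u

open CategoryTheory CategoryTheory.Limits AlgebraicGeometry TopologicalSpace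
open HodgeIdxLib (hh)

noncomputable section

namespace GrowthLib

/-- Growth at most `(m+1)^e`. -/
def Sm (e : ℕ) (f : ℕ → ℕ) : Prop := ∃ C : ℕ, ∀ m, f m ≤ C * (m + 1) ^ e

/-- Equal up to growth `(m+1)^e`. -/
def Nr (e : ℕ) (f g : ℕ → ℕ) : Prop :=
  ∃ C : ℕ, ∀ m, f m ≤ g m + C * (m + 1) ^ e ∧ g m ≤ f m + C * (m + 1) ^ e

namespace Sm

variable {e : ℕ} {f g : ℕ → ℕ}

theorem zero : Sm e fun _ => 0 := ⟨0, fun _ => Nat.zero_le _⟩

theorem add (hf : Sm e f) (hg : Sm e g) : Sm e fun m => f m + g m := by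
  obtain ⟨C, hC⟩ := hf
  obtain ⟨D, hD⟩ := hg
  exact ⟨C + D, fun m => by rw [add_mul]; exact Nat.add_le_add (hC m) (hD m)⟩

theorem of_le (hg : Sm e g) (h : ∀ m, f m ≤ g m) : Sm e f := by
  obtain ⟨C, hC⟩ := hg
  exact ⟨C, fun m => (h m).trans (hC m)⟩

theorem of_nr (h : Nr e f g) (hg : Sm e g) : Sm e f := by
  obtain ⟨C, hC⟩ := h
  exact ((hg.add ⟨C, fun _ => le_rfl⟩ : Sm e fun m => g m + C * (m + 1) ^ e)).of_le fun m => (hC m).1

end Sm

namespace Nr

variable {e : ℕ} {f g h : ℕ → ℕ}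

theorem of_sm_err {E : ℕ → ℕ} (hE : Sm e E) (h : ∀ m, f m ≤ g m + E m ∧ g m ≤ f m + E m) : Nr e f g := by
  obtain ⟨C, hC⟩ := hE
  exact ⟨C, fun m => ⟨(h m).1.trans (Nat.add_le_add_left (hC m) _), (h m).2.trans (Nat.add_le_add_left (hC m) _)⟩⟩

theorem refl : Nr e f f := ⟨0, fun _ => ⟨Nat.le_add_right _ _, Nat.le_add_right _ _⟩⟩

theorem symm (h : Nr e f g) : Nr e g f := by
  obtain ⟨C, hC⟩ := h
  exact ⟨C, fun m => (hC m).symm⟩

theorem trans (h₁ : Nr e f g) (h₂ : Nr e g h) : Nr e f h := by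
  obtain ⟨C, hC⟩ := h₁
  obtain ⟨D, hD⟩ := h₂
  refine ⟨C + D, fun m => ?_⟩
  have := hC m
  have := hD m
  rw [add_mul]
  omega

theorem of_eq (h : ∀ m, f m = g m) : Nr e f g := ⟨0, fun m => by simp [h m]⟩

theorem of_sm (hf : Sm e f) (hg : Sm e g) : Nr e f g :=
  of_sm_err (hf.add hg) fun _ => ⟨by omega, by omega⟩

end Nr

section LinAlg

variable {k : Type*} [Field k] {Z A B C W : Type*} [AddCommGroup Z] [Module k Z] [AddCommGroup A] [Module k A]
  [AddCommGroup B] [Module k B] [AddCommGroup C] [Module k C] [AddCommGroup W] [Module k W]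

theorem finite_of_exact_mid (f : A →ₗ[k] B) (g : B →ₗ[k] C) (h : LinearMap.range f = LinearMap.ker g)
    [Module.Finite k A] [Module.Finite k C] : Module.Finite k B := by
  haveI : Module.Finite k (LinearMap.ker g) := h ▸ inferInstance
  haveI : Module.Finite k (B ⧸ LinearMap.ker g) := Module.Finite.equiv g.quotKerEquivRange.symm
  exact Module.Finite.of_submodule_quotient (LinearMap.ker g)

/-- Dimensions in a five term exact sequence. -/
theorem finrank_five (d : Z →ₗ[k] A) (f : A →ₗ[k] B) (g : B →ₗ[k] C) (d' : C →ₗ[k] W)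
    (h₁ : LinearMap.range d = LinearMap.ker f) (h₂ : LinearMap.range f = LinearMap.ker g)
    (h₃ : LinearMap.range g = LinearMap.ker d')
    [Module.Finite k Z] [Module.Finite k A] [Module.Finite k C] [Module.Finite k W] :
    Module.Finite k B ∧ Module.finrank k B ≤ Module.finrank k A + Module.finrank k C ∧
      Module.finrank k A ≤ Module.finrank k B + Module.finrank k Z ∧
      Module.finrank k C ≤ Module.finrank k B + Module.finrank k W := by
  haveI := finite_of_exact_mid f g h₂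
  have a := f.finrank_range_add_finrank_ker
  have b := g.finrank_range_add_finrank_ker
  have c := d'.finrank_range_add_finrank_ker
  have z : Module.finrank k (LinearMap.ker f) ≤ Module.finrank k Z := by
    rw [← h₁]; exact LinearMap.finrank_range_le d
  have w : Module.finrank k (LinearMap.range d') ≤ Module.finrank k W := Submodule.finrank_le _
  have e : Module.finrank k (LinearMap.ker g) = Module.finrank k (LinearMap.range f) := by rw [h₂]
  have e' : Module.finrank k (LinearMap.ker d') = Module.finrank k (LinearMap.range g) := by rw [h₃]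
  exact ⟨inferInstance, by omega, by omega, by omega⟩

/-- The cokernel of a composite through an injection. -/
theorem finrank_coker {K₀ B₀ U₀ U₁ T₀ B₁ : Type*} [AddCommGroup K₀] [Module k K₀] [AddCommGroup B₀] [Module k B₀]
    [AddCommGroup U₀] [Module k U₀] [AddCommGroup U₁] [Module k U₁] [AddCommGroup T₀] [Module k T₀]
    [AddCommGroup B₁] [Module k B₁] (β : K₀ →ₗ[k] B₀) (δ : B₀ →ₗ[k] U₁) (hβ : LinearMap.range β = LinearMap.ker δ)
    (hδ : Function.Surjective δ) (ι : B₀ →ₗ[k] U₀) (hι : Function.Injective ι) (q : U₀ →ₗ[k] T₀)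
    (hq : LinearMap.range ι = LinearMap.ker q) (d : T₀ →ₗ[k] B₁) (hd : LinearMap.range q = LinearMap.ker d)
    [Module.Finite k U₁] [Module.Finite k T₀] [Module.Finite k B₁] :
    Module.finrank k (U₀ ⧸ LinearMap.range (ι.comp β)) ≤ Module.finrank k U₁ + Module.finrank k T₀ ∧
      Module.finrank k U₁ ≤ Module.finrank k (U₀ ⧸ LinearMap.range (ι.comp β)) ∧
      Module.finrank k T₀ ≤ Module.finrank k (U₀ ⧸ LinearMap.range (ι.comp β)) + Module.finrank k B₁ := by
  set R := LinearMap.range (ι.comp β) with hRdef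
  have hR : R = (LinearMap.range β).map ι := LinearMap.range_comp β ι
  let f : (B₀ ⧸ LinearMap.range β) →ₗ[k] (U₀ ⧸ R) :=
    Submodule.mapQ _ _ ι (fun y hy => by rw [Submodule.mem_comap, hR]; exact Submodule.mem_map_of_mem hy)
  have hf : Function.Injective f := by
    rw [← LinearMap.ker_eq_bot]
    refine LinearMap.ker_eq_bot'.mpr fun y hy => ?_
    induction y using Submodule.Quotient.induction_on with
    | _ y =>
      rw [Submodule.mapQ_apply, Submodule.Quotient.mk_eq_zero, hR] at hy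
      obtain ⟨z, hz, hzy⟩ := hy
      rw [Submodule.Quotient.mk_eq_zero]
      exact hι hzy ▸ hz
  let e : (B₀ ⧸ LinearMap.range β) ≃ₗ[k] U₁ :=
    Submodule.quotEquivOfEq _ _ hβ ≪≫ₗ LinearMap.quotKerEquivOfSurjective δ hδ
  haveI : Module.Finite k (B₀ ⧸ LinearMap.range β) := Module.Finite.equiv e.symm
  let g : (U₀ ⧸ R) →ₗ[k] T₀ := Submodule.liftQ R q (by
    rw [hR]
    rintro _ ⟨z, -, rfl⟩
    exact hq.le ⟨z, rfl⟩)
  have hfg : LinearMap.range f = LinearMap.ker g := by
    rw [Submodule.range_mapQ, hq, Submodule.ker_liftQ]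
  have hg : LinearMap.range g = LinearMap.ker d := (Submodule.range_liftQ _ _ _).trans hd
  obtain ⟨h0, h2, -, h4⟩ := finrank_five (k := k) (0 : PUnit.{1} →ₗ[k] _) f g d
    (by rw [LinearMap.range_zero, LinearMap.ker_eq_bot.mpr hf]) hfg hg
  have h5 := LinearMap.finrank_le_finrank_of_injective hf
  rw [e.finrank_eq] at h2 h5
  exact ⟨h2, h5, h4⟩

end LinAlg

section Twist

variable {k : Type u} [Field k] {X : Scheme.{u}} [X.Over (Spec (CommRingCat.of k))]
  [IsProper (X ↘ Spec (CommRingCat.of k))]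

/-- Twisting by an invertible module. -/
abbrev tw (N : X.Modules) : X.Modules ⥤ X.Modules := CurvLib.tensorLeft' N

variable {U K B U' T : X.Modules}

/-- One step of the resolution. -/
theorem step_cohom (a : U ⟶ K) (b : K ⟶ B) (w : a ≫ b = 0) (h : (ShortComplex.mk a b w).ShortExact)
    (i : B ⟶ U') (q : U' ⟶ T) (w' : i ≫ q = 0) (h' : (ShortComplex.mk i q w').ShortExact)
    (hK : ∀ p, Subsingleton (Coh.HH X K (p + 1))) (hT : Coh.IsCoh T)
    (hfin : ∀ p, Module.Finite k (Coh.HH X U (p + 1))) :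
    (∀ p, Module.Finite k (Coh.HH X U' (p + 1)) ∧
      hh k U' (p + 1) ≤ hh k U (p + 2) + hh k T (p + 1) ∧
      hh k U (p + 2) ≤ hh k U' (p + 1) + hh k T p ∧
      hh k T (p + 1) ≤ hh k U' (p + 1) + hh k U (p + 3)) := by
  let E : ∀ p, Coh.HH X B (p + 1) ≃ₗ[k] Coh.HH X U (p + 2) := fun p =>
    PnDualLib.delEquiv (k := k) h (hK p) (hK (p + 1))
  haveI hB : ∀ p, Module.Finite k (Coh.HH X B (p + 1)) := fun p =>
    haveI := hfin (p + 1)
    Module.Finite.equiv (E p).symm
  have eB : ∀ p, hh k B (p + 1) = hh k U (p + 2) := fun p => (E p).finrank_eq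
  haveI hTf : ∀ p, Module.Finite k (Coh.HH X T p) := fun p => CurvLib.finite_HH (k := k) hT p
  intro p
  haveI := hB p
  haveI := hB (p + 1)
  haveI := hTf p
  haveI := hTf (p + 1)
  obtain ⟨h1, h2, h3, h4⟩ := finrank_five (k := k) (CurvLib.hDel (k := k) h' p)
    (CurvLib.hMap (k := k) i (p + 1)) (CurvLib.hMap (k := k) q (p + 1))
    (CurvLib.hDel (k := k) h' (p + 1)) (CurvLib.exact₁ (k := k) h' p) (CurvLib.exact₂ (k := k) h' (p + 1))
    (CurvLib.exact₃ (k := k) h' (p + 1))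
  refine ⟨h1, ?_, ?_, ?_⟩ <;> rw [← eB]
  · exact h2
  · exact h3
  · exact h4

/-- The cokernel on global sections in one step. -/
theorem step_coker (a : U ⟶ K) (b : K ⟶ B) (w : a ≫ b = 0) (h : (ShortComplex.mk a b w).ShortExact)
    (i : B ⟶ U') (q : U' ⟶ T) (w' : i ≫ q = 0) (h' : (ShortComplex.mk i q w').ShortExact)
    (hK : ∀ p, Subsingleton (Coh.HH X K (p + 1))) (hT : Coh.IsCoh T)
    (hfin : ∀ p, Module.Finite k (Coh.HH X U (p + 1))) :
    Module.finrank k (Coh.HH X U' 0 ⧸ LinearMap.range (CurvLib.hMap (k := k) (b ≫ i) 0)) ≤ hh k U 1 + hh k T 0 ∧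
      hh k U 1 ≤ Module.finrank k (Coh.HH X U' 0 ⧸ LinearMap.range (CurvLib.hMap (k := k) (b ≫ i) 0)) ∧
      hh k T 0 ≤ Module.finrank k (Coh.HH X U' 0 ⧸ LinearMap.range (CurvLib.hMap (k := k) (b ≫ i) 0)) + hh k U 2 := by
  let E : ∀ p, Coh.HH X B (p + 1) ≃ₗ[k] Coh.HH X U (p + 2) := fun p =>
    PnDualLib.delEquiv (k := k) h (hK p) (hK (p + 1))
  haveI hB : ∀ p, Module.Finite k (Coh.HH X B (p + 1)) := fun p =>
    haveI := hfin (p + 1)
    Module.Finite.equiv (E p).symm
  have eB : ∀ p, hh k B (p + 1) = hh k U (p + 2) := fun p => (E p).finrank_eq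
  haveI hTf : ∀ p, Module.Finite k (Coh.HH X T p) := fun p => CurvLib.finite_HH (k := k) hT p
  haveI := hfin 0
  haveI := hTf 0
  haveI := hB 0
  have x1 : LinearMap.range (CurvLib.hMap (k := k) b 0) =
      LinearMap.ker (CurvLib.hDel (k := k) h 0 : Coh.HH X B 0 →ₗ[k] Coh.HH X U 1) := CurvLib.exact₃ (k := k) h 0
  have x2 : Function.Surjective (CurvLib.hDel (k := k) h 0 : Coh.HH X B 0 →ₗ[k] Coh.HH X U 1) :=
    PnDualLib.surjective_del (k := k) h (hK 0)
  have x3 : Function.Injective (CurvLib.hMap (k := k) i 0) := by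
    intro y z hyz
    exact CurvLib.injective₀ (k := k) (S := ShortComplex.mk i q w') h' hyz
  have x4 : LinearMap.range (CurvLib.hMap (k := k) i 0) = LinearMap.ker (CurvLib.hMap (k := k) q 0) :=
    CurvLib.exact₂ (k := k) h' 0
  have x5 : LinearMap.range (CurvLib.hMap (k := k) q 0) =
      LinearMap.ker (CurvLib.hDel (k := k) h' 0 : Coh.HH X T 0 →ₗ[k] Coh.HH X B 1) := CurvLib.exact₃ (k := k) h' 0
  obtain ⟨h1, h2, h3⟩ := finrank_coker (k := k) _ _ x1 x2 _ x3 _ x4 _ x5
  have he : CurvLib.hMap (k := k) (b ≫ i) 0 = (CurvLib.hMap (k := k) i 0).comp (CurvLib.hMap (k := k) b 0) :=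
    LinearMap.ext fun y => CurvLib.hMap_comp b i 0 y
  rw [he]
  refine ⟨h1, h2, ?_⟩
  rw [← eB 0]
  exact h3

end Twist

end GrowthLib
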