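import Groth.Agent.AmpleThLib.ProjA

/-!
# Closed immersions in large projective spaces
-/

set_option autoImplicit false
universe u

open CategoryTheory CategoryTheory.Limits AlgebraicGeometry TopologicalSpace Opposite
open HomogeneousLocalization AmpleLib
open TwistLib (genSet)

noncomputable section

namespace AmpleThLib

variable {X : Scheme.{u}} {R : Type u} [CommRing R]

/-- A closed immersion in a projective space of dimension at least any given number. -/
theorem exists_closedImmersion_ge (q : X ⟶ Spec (CommRingCat.of R)) [IsProper q]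
    {L : X.Modules} (hL : PicF.IsInvertible L) (hA : CohB1.IsAmple L) (b : ℕ) :
    ∃ (m : ℕ) (r : X ⟶ Proj (CohB1.polyGrading m R)), b ≤ m ∧ IsClosedImmersion r ∧
      r ≫ baseA (CohB1.polyGrading m R) = q := by
  obtain ⟨n₀, h⟩ := exists_data q hL hA
  obtain ⟨m₀, v₀, K₀, hcov₀, haff₀, hsurj₀⟩ := h n₀ le_rfl
  obtain ⟨m, hm, hbm⟩ : ∃ m, m₀ ≤ m ∧ b ≤ m := ⟨m₀ + b, Nat.le_add_right _ _, Nat.le_add_left _ _⟩
  let e : Fin (m₀ + 1) → Fin (m + 1) := Fin.castLE (by omega)
  let v : Fin (m + 1) → Γ(CohB1.tensorPow L n₀, ⊤) := fun j => v₀ ⟨min j.val m₀, by omega⟩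
  have hv : ∀ k, v (e k) = v₀ k := fun k => congrArg v₀ (Fin.ext (min_eq_left (by
    show (k : ℕ) ≤ m₀
    omega)))
  let K : Set (Fin (m + 1)) := e '' K₀
  have hcov : ∀ x : X, ∃ k ∈ K, x ∈ genSet (tensorPow_isInvertible hL n₀) (v k) := fun x => by
    obtain ⟨k, hk, hx⟩ := hcov₀ x
    exact ⟨e k, ⟨k, hk, rfl⟩, by rw [hv]; exact hx⟩
  have haff : ∀ k ∈ K, IsAffineOpen (genSet (tensorPow_isInvertible hL n₀) (v k)) := by
    rintro _ ⟨k, hk, rfl⟩
    rw [hv]
    exact haff₀ k hk
  have hsurj : ∀ k ∈ K, Subring.closure (Set.range (q.appLE ⊤ (genSet (tensorPow_isInvertible hL n₀) (v k)) le_top) ∪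
      {c | ∃ l, c • res _ (le_top : genSet (tensorPow_isInvertible hL n₀) (v k) ≤ ⊤) (v k) =
        res _ le_top (v l)}) = ⊤ := by
    rintro _ ⟨k, hk, rfl⟩
    rw [hv]
    refine eq_top_iff.2 ((hsurj₀ k hk).ge.trans (Subring.closure_mono (Set.union_subset_union_right _ ?_)))
    rintro c ⟨l, hl⟩
    exact ⟨e l, by rw [hv]; exact hl⟩
  obtain ⟨r, hrb, hpre, hcoef⟩ := exists_toPA q _ v fun x => (hcov x).imp fun k hk => hk.2
  let p := baseA (CohB1.polyGrading m R)
  have : IsProper (r ≫ p) := by rw [hrb]; infer_instance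
  have : IsSeparated p := by simp only [p, baseA]; infer_instance
  have : IsProper r := IsProper.of_comp r p
  refine ⟨m, r, hbm, ?_, hrb⟩
  have : IsImmersion r := by
    refine isImmersion_of_local r
      (fun k : K => Proj.basicOpen (CohB1.polyGrading m R) (MvPolynomial.X (k : Fin (m + 1)))) (fun x => ?_)
      (fun ⟨k, hk⟩ => ?_)
    · obtain ⟨k, hk, hx⟩ := hcov x
      exact ⟨⟨k, hk⟩, (hpre k).ge hx⟩
    · let D := Proj.basicOpen (CohB1.polyGrading m R) (MvPolynomial.X k)
      have : IsAffine (r ⁻¹ᵁ D).toScheme := (hpre k).symm ▸ haff k hk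
      have : IsAffine D.toScheme :=
        Proj.isAffineOpen_basicOpen _ _ (MvPolynomial.isHomogeneous_X R k) one_pos
      refine IsClosedImmersion.of_surjective_of_isAffine _ ?_
      rw [Scheme.Hom.appTop, morphismRestrict_app']
      refine surjective_appLE_congr r D.ι_image_top.symm
        ((hpre k).symm.trans (Scheme.Opens.ι_image_top _).symm) (hpre k).ge _ ?_
      intro a
      suffices h : a ∈ (r.appLE D _ (hpre k).ge).hom.range from h
      refine (show Subring.closure _ ≤ _ from Subring.closure_le.mpr ?_) ((hsurj k hk).ge (Subring.mem_top a))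
      rintro _ (⟨y, rfl⟩ | ⟨l, hl⟩)
      · refine ⟨p.appLE ⊤ D le_top y, ?_⟩
        rw [← CommRingCat.comp_apply, Scheme.Hom.appLE_comp_appLE]
        simp only [p, hrb]
      · refine ⟨Proj.awayToSection (CohB1.polyGrading m R) (MvPolynomial.X k)
          (TwistLib.frac (CohB1.polyGrading m R) (MvPolynomial.isHomogeneous_X R k)
            (MvPolynomial.isHomogeneous_X R l)), ?_⟩
        refine (TwistLib.genSet_genOn (tensorPow_isInvertible hL n₀) (v k) _ le_rfl).1 ?_
        dsimp only
        rw [res_res, hl]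
        have h1 := congrArg (res _ (hpre k).ge) (hcoef k l)
        rw [res_smul, res_res, res_res] at h1
        refine Eq.trans ?_ h1
        congr 1
  exact IsClosedImmersion.of_isPreimmersion r r.isClosedMap.isClosed_range

end AmpleThLib

end
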