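import Groth.Agent.GrowthLib.DualIter
import Groth.Agent.ExtShLib.Dualizing
import Groth.Agent.ExtShLib.Universal
import Groth.Agent.PnDualLib.HomExt

/-!
# Ext groups on projective space along the exceptional inverse image of an injective resolution
-/

set_option autoImplicit false
set_option linter.style.haveILetI false
set_option linter.unusedSectionVars false
set_option backward.isDefEq.respectTransparency false
set_option backward.isDefEq.respectTransparency.types false
set_option maxHeartbeats 2000000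
universe u

open CategoryTheory CategoryTheory.Limits AlgebraicGeometry TopologicalSpace Abelian
open HodgeIdxLib (hh)

noncomputable section

namespace GrowthLib

section Duality

variable (k : Type u) [Field k] (n : ℕ) [HasExt.{u} (CohB1.ProjSpace n k).Modules]

theorem finrank_ext_dual {G : (CohB1.ProjSpace n k).Modules} (hG : Coh.IsCoh G) {p q : ℕ} (h : p + q = n) :
    Module.finrank k (Ext G (Twist.twistProjSpace n k (-((n : ℤ) + 1))) q) = hh k G p := by
  obtain ⟨hlin, hbij⟩ := ExtShLib.dualAt k n q G hG p h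
  let Φ : Ext G (Twist.twistProjSpace n k (-((n : ℤ) + 1))) q →ₗ[k] Module.Dual k (Coh.HH (CohB1.ProjSpace n k) G p) :=
    { toFun := fun e =>
        { toFun := fun x => ExtShLib.pairE k n G h e x
          map_add' := fun x y => by simp only [ExtShLib.pairE, ExtShLib.cupE_add_left, map_add]
          map_smul' := fun c x => hlin e c x }
      map_add' := fun e e' => LinearMap.ext fun x => ExtShLib.pairE_add k n G h e e' x
      map_smul' := fun c e => LinearMap.ext fun x => by
        have hce : c • e = (Ext.mk₀ (StabLib.smulHom G (PnDualLib.cst c))).comp e (zero_add q) := by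
          rw [show StabLib.smulHom G (PnDualLib.cst c) = c • 𝟙 G from (Category.comp_id _).symm, Ext.mk₀_smul,
            Ext.smul_comp, Ext.mk₀_id_comp]
        show ExtShLib.pairE k n G h (c • e) x = c * ExtShLib.pairE k n G h e x
        rw [hce, ExtShLib.pairE_natural, PnDualLib.hMap_smulHom, hlin]
        rfl }
  have hΦ : Function.Bijective Φ := by
    refine ⟨fun e e' he => ?_, fun ψ => ?_⟩
    · obtain ⟨e₀, -, hu⟩ := hbij (Φ e)
      exact (hu e fun x => rfl).trans (hu e' fun x => (LinearMap.congr_fun he x).symm).symm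
    · obtain ⟨e, he, -⟩ := hbij ψ
      exact ⟨e, LinearMap.ext he⟩
  rw [(LinearEquiv.ofBijective Φ hΦ).finrank_eq, Subspace.dual_finrank_eq]
  rfl

end Duality

section Cosyzygy

variable {k : Type u} [Field k] {P : Scheme.{u}} [P.Over (Spec (CommRingCat.of k))] [HasExt.{u} P.Modules]
  {W : P.Modules} (I : InjectiveResolution W) (G : P.Modules)

theorem finrank_ext_cyc (j : ℕ) : ∀ (a b : ℕ), 0 < a → a + j = b →
    Module.finrank k (Ext G (ExtShLib.cyc I j) a) = Module.finrank k (Ext G W b) := by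
  induction j with
  | zero =>
    intro a b ha hab
    obtain rfl : a = b := by omega
    have hb := ExtShLib.chain_bijective I G 0 a a ha (add_zero a)
    let f : Ext G (ExtShLib.cyc I 0) a →ₗ[k] Ext G W a :=
      Ext.postcompOfLinear (ExtShLib.chain I 0) k G (add_zero a)
    have hf : ∀ x, f x = x.comp (ExtShLib.chain I 0) (add_zero a) := fun x => by simp [f]
    have hfb : Function.Bijective f := by
      rw [show (f : Ext G (ExtShLib.cyc I 0) a → Ext G W a) = _ from funext hf]
      exact hb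
    exact (LinearEquiv.ofBijective f hfb).finrank_eq
  | succ j ih =>
    intro a b ha hab
    rw [← ih (a + 1) b (Nat.succ_pos a) (by omega)]
    haveI : Injective (ExtShLib.cycSeq I j).X₂ := inferInstanceAs (Injective (I.cocomplex.X j))
    obtain ⟨a', rfl⟩ : ∃ a', a = a' + 1 := ⟨a - 1, by omega⟩
    exact (LinearEquiv.ofBijective (PnDualLib.coDel (R := k) (ExtShLib.cycSeq_shortExact I j) (rfl : a' + 1 + 1 = a' + 2))
      ⟨PnDualLib.coDel_injective (R := k) (ExtShLib.cycSeq_shortExact I j) rfl,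
        PnDualLib.coDel_surjective (R := k) (ExtShLib.cycSeq_shortExact I j) rfl⟩).finrank_eq

/-- `Ext^{j+1}` as a cokernel of global homomorphisms. -/
theorem finrank_ext_succ (j : ℕ) :
    Module.finrank k (Ext G W (j + 1)) =
      Module.finrank k (Coh.HH P (CohCmpLib.homMod G (ExtShLib.cyc I (j + 1))) 0 ⧸
        LinearMap.range (CurvLib.hMap (k := k) (HomCohLib.mapR G (ExtShLib.cycP I j)) 0)) := by
  rw [← finrank_ext_cyc (k := k) I G j 1 (j + 1) one_pos (add_comm 1 j)]
  haveI : Injective (ExtShLib.cycSeq I j).X₂ := inferInstanceAs (Injective (I.cocomplex.X j))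
  have hS := ExtShLib.cycSeq_shortExact I j
  have hsur := PnDualLib.coDel₀_surjective (R := k) hS (A := G)
  let E := PnDualLib.homH0 k G (ExtShLib.cyc I (j + 1))
  refine ((LinearMap.quotKerEquivOfSurjective _ hsur).symm ≪≫ₗ
    Submodule.Quotient.equiv _ _ E ?_).finrank_eq
  ext y
  rw [Submodule.mem_map]
  constructor
  · rintro ⟨φ, hφ, rfl⟩
    obtain ⟨ψ, rfl⟩ := (PnDualLib.coDel₀_eq_zero_iff (R := k) hS φ).mp hφ
    exact ⟨PnDualLib.homH0 k G _ ψ, PnDualLib.homH0_natural k (ExtShLib.cycP I j) ψ⟩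
  · rintro ⟨x, rfl⟩
    obtain ⟨ψ, rfl⟩ := (PnDualLib.homH0 k G (I.cocomplex.X j)).surjective x
    exact ⟨ψ ≫ ExtShLib.cycP I j, (PnDualLib.coDel₀_eq_zero_iff (R := k) hS _).mpr ⟨ψ, rfl⟩,
      (PnDualLib.homH0_natural k (ExtShLib.cycP I j) ψ).symm⟩

end Cosyzygy

section Twisted

variable {X P : Scheme.{u}} (i : X ⟶ P) [IsClosedImmersion i]

/-- Tensoring with a direct image. -/
def tensPush (L : X.Modules) : (DCoh.tensorBi (X := P)).obj ((Scheme.Modules.pushforward i).obj L) ≅
    Scheme.Modules.pullback i ⋙ CurvLib.tensorLeft' L ⋙ Scheme.Modules.pushforward i :=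
  NatIso.ofComponents
    (fun b => @asIso _ _ _ _ (ProjClosedImmLib.projR i L b) (ProjClosedImmLib.isIso_projR i L b))
    fun {b b'} ψ => ProjClosedImmLib.projR_natural_right i L ψ

/-- `Hom(ι_*L, W) = ι_*(L' ⊗ ι^! W)`. -/
def homPushIso {L L' : X.Modules} (e : CohB1.tensorMod L L' ≅ Coh.structureModule X) :
    PnDualLib.homFun ((Scheme.Modules.pushforward i).obj L) ≅
      ExtShLib.shriek i ⋙ CurvLib.tensorLeft' L' ⋙ Scheme.Modules.pushforward i :=
  ((HomCohLib.homAdj ((Scheme.Modules.pushforward i).obj L)).ofNatIsoLeft (tensPush i L)).rightAdjointUniq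
    (((Scheme.Modules.pullbackPushforwardAdjunction i).comp ((VBP1Lib.inverseEquiv e).toAdjunction.comp
      (ExtShLib.shriekAdj i))).ofNatIsoLeft (Iso.refl _))

theorem nonempty_quot_iso_aux {k : Type u} [Field k] {N : ℕ} {X : Scheme.{u}} [X.Over (Spec (CommRingCat.of k))]
    (i : X ⟶ CohB1.ProjSpace N k) [IsClosedImmersion i]
    (hi : i ≫ CohB1.ProjSpace.toSpec N k = X ↘ Spec (CommRingCat.of k)) (G : (CohB1.ProjSpace N k).Modules)
    (S : (CohB1.ProjSpace N k).Modules ⥤ X.Modules) (α : PnDualLib.homFun G ≅ S ⋙ Scheme.Modules.pushforward i)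
    {C D : (CohB1.ProjSpace N k).Modules} (f : C ⟶ D) :
    Nonempty ((Coh.HH (CohB1.ProjSpace N k) ((PnDualLib.homFun G).obj D) 0 ⧸
        LinearMap.range (CurvLib.hMap (k := k) ((PnDualLib.homFun G).map f) 0)) ≃ₗ[k]
      (Coh.HH X (S.obj D) 0 ⧸ LinearMap.range (CurvLib.hMap (k := k) (S.map f) 0))) := by
  let eC := PnDualLib.hMapIso k (α.app C) 0
  let eD := PnDualLib.hMapIso k (α.app D) 0
  let pC := ExtShLib.pushEquiv k N i hi (S.obj C) 0
  let pD := ExtShLib.pushEquiv k N i hi (S.obj D) 0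
  have hnat : ∀ x, eD (CurvLib.hMap (k := k) ((PnDualLib.homFun G).map f) 0 x) =
      pD (CurvLib.hMap (k := k) (S.map f) 0 (pC.symm (eC x))) := fun x => by
    have h1 : pD (CurvLib.hMap (k := k) (S.map f) 0 (pC.symm (eC x))) =
        CurvLib.hMap (k := k) ((Scheme.Modules.pushforward i).map (S.map f)) 0 (eC x) := by
      have h2 : pD (CurvLib.hMap (k := k) (S.map f) 0 (pC.symm (eC x))) =
          CurvLib.hMap (k := k) ((Scheme.Modules.pushforward i).map (S.map f)) 0 (pC (pC.symm (eC x))) :=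
        ExtShLib.pushMap_natural k N i _ 0 _
      rw [h2, LinearEquiv.apply_symm_apply]
    rw [h1]
    show CurvLib.hMap (k := k) (α.hom.app D) 0 _ = CurvLib.hMap (k := k) _ 0 (CurvLib.hMap (k := k) (α.hom.app C) 0 x)
    rw [← CurvLib.hMap_comp, ← CurvLib.hMap_comp, α.hom.naturality f]
    rfl
  refine ⟨Submodule.Quotient.equiv _ _ (eD ≪≫ₗ pD.symm) ?_⟩
  ext y
  rw [Submodule.mem_map]
  constructor
  · rintro ⟨_, ⟨x, rfl⟩, rfl⟩
    exact ⟨pC.symm (eC x), by
      show _ = pD.symm (eD _)
      rw [hnat, LinearEquiv.symm_apply_apply]⟩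
  · rintro ⟨z, rfl⟩
    refine ⟨CurvLib.hMap (k := k) ((PnDualLib.homFun G).map f) 0 (eC.symm (pC z)), ⟨_, rfl⟩, ?_⟩
    show pD.symm (eD _) = _
    rw [hnat, LinearEquiv.apply_symm_apply, LinearEquiv.symm_apply_apply, LinearEquiv.symm_apply_apply]

theorem nonempty_quot_iso {k : Type u} [Field k] {N : ℕ} {X : Scheme.{u}} [X.Over (Spec (CommRingCat.of k))]
    (i : X ⟶ CohB1.ProjSpace N k) [IsClosedImmersion i]
    (hi : i ≫ CohB1.ProjSpace.toSpec N k = X ↘ Spec (CommRingCat.of k)) {L L' : X.Modules}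
    (e : CohB1.tensorMod L L' ≅ Coh.structureModule X) {C D : (CohB1.ProjSpace N k).Modules} (f : C ⟶ D) :
    Nonempty ((Coh.HH (CohB1.ProjSpace N k) ((PnDualLib.homFun ((Scheme.Modules.pushforward i).obj L)).obj D) 0 ⧸
        LinearMap.range (CurvLib.hMap (k := k) ((PnDualLib.homFun ((Scheme.Modules.pushforward i).obj L)).map f) 0)) ≃ₗ[k]
      (Coh.HH X ((ExtShLib.shriek i ⋙ CurvLib.tensorLeft' L').obj D) 0 ⧸
        LinearMap.range (CurvLib.hMap (k := k) ((ExtShLib.shriek i ⋙ CurvLib.tensorLeft' L').map f) 0))) :=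
  nonempty_quot_iso_aux i hi _ _ (homPushIso i e ≪≫ (Functor.associator _ _ _).symm) f

end Twisted

end GrowthLib
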