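import Groth.Agent.GrowthLib.DualExt
import Groth.Agent.OmegaTFLib.Trans
import Groth.Agent.OmegaTFLib.Rank
import Groth.Agent.OmegaTFLib.LocalVanish

/-!
# The exceptional inverse image of a resolution on an integral closed subscheme of projective space
-/

set_option autoImplicit false
set_option linter.style.haveILetI false
set_option linter.unusedSectionVars false
set_option backward.isDefEq.respectTransparency false
set_option backward.isDefEq.respectTransparency.types false
set_option maxHeartbeats 2000000
universe u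

open CategoryTheory CategoryTheory.Limits AlgebraicGeometry TopologicalSpace
open CohCmpLib (stk ger_zero)
open ExtShLib (pO hcx kcx shriek cyc cycP)

noncomputable section

namespace GrowthLib

theorem isCM_of_isField {B : Type u} [CommRing B] [IsLocalRing B] (hB : IsField B) :
    LocCoh.IsCohenMacaulayLocalRing B := by
  haveI : IsNoetherianRing B := by
    letI := hB.toField
    infer_instance
  haveI : Nontrivial B := hB.nontrivial
  refine { supportDim_eq_depth := ?_ }
  rw [Module.supportDim_self_eq_ringKrullDim, ringKrullDim_eq_zero_of_isField hB]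
  have hm : IsLocalRing.maximalIdeal B = ⊥ := IsLocalRing.isField_iff_maximalIdeal_eq.1 hB
  have hd : LocCoh.depth B B = 0 := by
    rw [LocCoh.depth, LocCoh.idealDepth, hm, Submodule.bot_smul, if_neg bot_ne_top]
    refine le_antisymm (iSup₂_le fun rs hrs => ?_) bot_le
    match rs, hrs with
    | [], _ => simp
    | r :: rs, ⟨hw, hmem⟩ =>
      exfalso
      have h0 := hmem r (List.mem_cons_self ..)
      rw [Submodule.mem_bot] at h0
      have h1 := ((RingTheory.Sequence.isWeaklyRegular_cons_iff _ _ _).1 hw).1
      exact one_ne_zero (h1 (a₁ := (1 : B)) (a₂ := 0) (by simp [h0]))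
  rw [hd]
  rfl

section Chain

variable {X P : Scheme.{u}} (i : X ⟶ P) [IsClosedImmersion i] {W : P.Modules} (I : InjectiveResolution W)

instance preservesKernel_shriek {A B : P.Modules} (f : A ⟶ B) :
    PreservesLimit (parallelPair f 0) (shriek i) :=
  (ExtShLib.shriekAdj i).rightAdjoint_preservesLimits.preservesLimitsOfShape.preservesLimit

def shriekKer {A B : P.Modules} (f : A ⟶ B) :
    IsLimit (KernelFork.ofι ((shriek i).map (kernel.ι f)) (show (shriek i).map (kernel.ι f) ≫ (shriek i).map f = 0 by
      rw [← Functor.map_comp, kernel.condition, Functor.map_zero])) :=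
  isLimitForkMapOfIsLimit' (shriek i) (kernel.condition f) (kernelIsKernel f)

/-- The chain of cosyzygies. -/
def chainOf : InjChain X where
  U j := (shriek i).obj (cyc I j)
  K j := (shriek i).obj (I.cocomplex.X j)
  a j := (shriek i).map (kernel.ι (I.cocomplex.d j (j + 1)))
  b j := (shriek i).map (cycP I j)
  w j := by
    rw [← Functor.map_comp]
    exact ((shriek i).congr_map (ExtShLib.cycSeq I j).zero).trans (Functor.map_zero _ _ _)
  mono j := Fork.IsLimit.mono (shriekKer i (I.cocomplex.d j (j + 1)))
  exact j := by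
    refine ShortComplex.exact_of_f_is_kernel _ ?_
    exact isLimitForkMapOfIsLimit' (shriek i) (ExtShLib.cycSeq I j).zero (ExtShLib.cycSeq_shortExact I j).fIsKernel
  inj j := ExtShLib.injective_shriek i (I.cocomplex.X j)

theorem nonempty_T_iso : ∀ j, Nonempty ((chainOf i I).T j ≅ (kcx i I).homology j)
  | 0 => ⟨(IsLimit.conePointUniqueUpToIso (shriekKer i (I.cocomplex.d 0 1))
      ((kcx i I).cyclesIsKernel 0 1 (by simp))) ≪≫ CochainComplex.isoHomologyπ₀ (kcx i I)⟩
  | j + 1 => by
    let S := (kcx i I).sc' j (j + 1) (j + 1 + 1)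
    have hl : (shriekKer i (I.cocomplex.d (j + 1) (j + 1 + 1))).lift (KernelFork.ofι S.f S.zero) = (chainOf i I).b j := by
      refine Fork.IsLimit.hom_ext (shriekKer i (I.cocomplex.d (j + 1) (j + 1 + 1))) ?_
      erw [Fork.IsLimit.lift_ι]
      show (shriek i).map (I.cocomplex.d j (j + 1)) = (shriek i).map (cycP I j) ≫ (shriek i).map (kernel.ι _)
      rw [← Functor.map_comp, ExtShLib.cycP_ι]
    let h : S.LeftHomologyData :=
      { K := (chainOf i I).U (j + 1)
        H := cokernel ((chainOf i I).b j)
        i := (chainOf i I).a (j + 1)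
        π := cokernel.π ((chainOf i I).b j)
        wi := (show (shriek i).map (kernel.ι (I.cocomplex.d (j + 1) (j + 1 + 1))) ≫
            (shriek i).map (I.cocomplex.d (j + 1) (j + 1 + 1)) = 0 by
          rw [← Functor.map_comp, kernel.condition, Functor.map_zero])
        hi := shriekKer i (I.cocomplex.d (j + 1) (j + 1 + 1))
        wπ := by erw [hl]; exact cokernel.condition _
        hπ := CokernelCofork.IsColimit.ofπ' _ _ fun {A} t ht =>
          ⟨cokernel.desc ((chainOf i I).b j) t (by erw [hl] at ht; exact ht), cokernel.π_desc _ _ _⟩ }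
    exact ⟨h.homologyIso.symm ≪≫ ShortComplex.homologyMapIso ((kcx i I).isoSc' j (j + 1) (j + 1 + 1) (by simp) (by simp)).symm⟩

theorem nonempty_push_T (j : ℕ) :
    Nonempty ((Scheme.Modules.pushforward i).obj ((chainOf i I).T j) ≅ (hcx (pO i) I).homology j) := by
  obtain ⟨e⟩ := nonempty_T_iso i I j
  obtain ⟨f⟩ := ExtShLib.nonempty_push_homology i I j
  exact ⟨(Scheme.Modules.pushforward i).mapIso e ≪≫ f⟩

end Chain

section Proj

variable (k : Type u) [Field k] (N : ℕ) {X : Scheme.{u}} (i : X ⟶ CohB1.ProjSpace N k) [IsClosedImmersion i]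
  (I : InjectiveResolution (Twist.twistProjSpace N k (-((N : ℤ) + 1))))

theorem isCoh_T (j : ℕ) : Coh.IsCoh ((chainOf i I).T j) := by
  haveI : HasInjectiveResolutions (ModSite.Mod (CohB1.ProjSpace N k).sheaf) :=
    inferInstanceAs (HasInjectiveResolutions (CohB1.ProjSpace N k).Modules)
  haveI : ModSite.HasSheafHom (O := (CohB1.ProjSpace N k).sheaf) (pO i) := FLI.hasSheafHom _
  obtain ⟨e⟩ := ExtShLib.nonempty_extSh_iso I (pO i) j
  obtain ⟨g⟩ := nonempty_push_T i I j
  exact ExtShLib.isCoh_of_push_iso_extSh k N i _ j (g ≪≫ e.symm)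

variable [IsIntegral X] {n : ℕ} (hn : topologicalKrullDim X = n)

include hn

theorem dim_component (Z : Set ↥X) (hZ : Z ∈ irreducibleComponents ↥X) :
    topologicalKrullDim ↥Z = (n : WithBot ℕ∞) := by
  rw [irreducibleComponents_eq_singleton, Set.mem_singleton_iff] at hZ
  subst hZ
  rw [IsHomeomorph.topologicalKrullDim_eq _ (Homeomorph.Set.univ ↥X).isHomeomorph, hn]

include i in
theorem le_dim_projSpace : n ≤ N := by
  have h := Topology.IsInducing.topologicalKrullDim_le i.isClosedEmbedding.isEmbedding.isInducing
  rw [hn, GenusZeroLib.dim_projSpace] at h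
  exact_mod_cast h

theorem ringKrullDim_generic :
    ringKrullDim ((CohB1.ProjSpace N k).presheaf.stalk (i (genericPoint X))) = ((0 + (N - n) : ℕ) : WithBot ℕ∞) := by
  haveI := GenusZeroLib.isIntegral_projSpace k N
  haveI := PnCohLib.isLocallyNoetherian_projSpace (n := N) k
  haveI : SmoothOfRelativeDimension N (CohB1.ProjSpace.toSpec N k) := PnDualLib.smoothRel_projSpace k N
  haveI : Smooth (CohB1.ProjSpace.toSpec N k) := SmoothOfRelativeDimension.smooth N _
  have h2 := FibDimLib.localDim_eq_closure_add_stalk (CohB1.ProjSpace.toSpec N k) (i (genericPoint X))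
  rw [FibDimLib.localDim_of_irreducible (CohB1.ProjSpace.toSpec N k) (i (genericPoint X)),
    GenusZeroLib.dim_projSpace] at h2
  have hcl : topologicalKrullDim (closure ({i (genericPoint X)} : Set (CohB1.ProjSpace N k))) = (n : WithBot ℕ∞) := by
    have e : (i.base) '' closure ({genericPoint X} : Set X) = closure ({i (genericPoint X)} : Set (CohB1.ProjSpace N k)) := by
      rw [← i.isClosedEmbedding.closure_image_eq, Set.image_singleton]
    refine Eq.trans ?_ (dim_component (X := X) hn (closure ({genericPoint X} : Set X))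
      (by rw [genericPoint_closure, irreducibleComponents_eq_singleton]; rfl))
    exact IsHomeomorph.topologicalKrullDim_eq _ ((i.isClosedEmbedding.isEmbedding.homeomorphImage
      (closure ({genericPoint X} : Set X))).trans (Homeomorph.setCongr e)).isHomeomorph |>.symm
  rw [hcl] at h2
  generalize ringKrullDim ((CohB1.ProjSpace N k).presheaf.stalk (i (genericPoint X))) = d at h2 ⊢
  cases d with
  | bot => simp at h2
  | coe a =>
    cases a with
    | top =>
      replace h2 : (((N : ℕ∞)) : WithBot ℕ∞) = (((n : ℕ∞) + ⊤ : ℕ∞) : WithBot ℕ∞) := h2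
      rw [WithBot.coe_inj, add_top] at h2
      exact absurd h2 (ENat.coe_ne_top _)
    | coe a =>
      have h3 : N = n + a := by exact_mod_cast h2
      have h4 : a = 0 + (N - n) := by omega
      subst h4
      rfl

theorem genericPoint_notMem_support (j : ℕ) (hj : j ≠ N - n) :
    genericPoint X ∉ CohB1.support ((chainOf i I).T j) := by
  let η := genericPoint X
  let P := CohB1.ProjSpace N k
  haveI := PnCohLib.isLocallyNoetherian_projSpace (n := N) k
  haveI : SmoothOfRelativeDimension N (CohB1.ProjSpace.toSpec N k) := PnDualLib.smoothRel_projSpace k N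
  haveI : Smooth (CohB1.ProjSpace.toSpec N k) := SmoothOfRelativeDimension.smooth N _
  haveI := RTrivLib.regular_stalk (CohB1.ProjSpace.toSpec N k) (i η)
  have hη : closure ({η} : Set X) ∈ irreducibleComponents X := by
    rw [genericPoint_closure, irreducibleComponents_eq_singleton]; rfl
  have hB : IsField (X.presheaf.stalk η) := OmegaTF.isField_stalk_of_component hη
  have hs : Subsingleton (stk ((hcx (pO i) I).homology j) (i η)) := by
    refine OmegaTF.subsingleton_homology_stalk_of_ext i I η j ?_
    letI := (i.stalkMap η).hom.toAlgebra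
    haveI := isCM_of_isField hB
    intro y
    obtain ⟨O, hzO, ⟨eO⟩⟩ := PicPnLib.twist_inv (R := k) (n := N) (-((N : ℤ) + 1)) (i η)
    obtain ⟨σ, hσ⟩ := ParaFLib.exists_genOn_of_iso eO
    let W := Twist.twistProjSpace N k (-((N : ℤ) + 1))
    let ε : stk W (i η) ≃ₗ[P.presheaf.stalk (i η)] P.presheaf.stalk (i η) :=
      (LinearEquiv.ofBijective (LinearMap.toSpanSingleton (P.presheaf.stalk (i η)) (stk W (i η))
        (ProjFormLib.ger W (i η) hzO σ)) (hσ.genAt hzO)).symm
    exact OmegaTF.ext_quot_eq_zero (i.stalkMap_surjective η) (b := 0) (c := N - n)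
      (by rw [ringKrullDim_eq_zero_of_isField hB]; rfl) (ringKrullDim_generic k N i hn) (stk W (i η)) ε j hj y
  obtain ⟨g⟩ := nonempty_push_T i I j
  have hp : Subsingleton (stk ((Scheme.Modules.pushforward i).obj ((chainOf i I).T j)) (i η)) :=
    (FLI.sMap_injective g.hom (i η)).subsingleton
  have ht : Subsingleton (stk ((chainOf i I).T j) η) :=
    (ProjClosedImmLib.pS_bijective i η _).2.subsingleton
  intro h
  exact h ht

theorem dim_support_T (j : ℕ) (hj : j ≠ N - n) :
    topologicalKrullDim (CohB1.support ((chainOf i I).T j)) ≤ ((n - 1 : ℕ) : WithBot ℕ∞) := by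
  have hlt := OmegaTF.dim_lt_of_no_generic (dim_component (X := X) hn)
    (QCohLib.isClosed_support _ (isCoh_T k N i I j).2) (fun η hη h => genericPoint_notMem_support k N i I hn j hj (by
      have : η = genericPoint X := by
        refine ((isGenericPoint_def.2 ?_).eq (genericPoint_spec X))
        rw [irreducibleComponents_eq_singleton, Set.mem_singleton_iff] at hη
        exact hη
      exact this ▸ h))
  generalize topologicalKrullDim (CohB1.support ((chainOf i I).T j)) = d at hlt ⊢
  cases d with
  | bot => exact bot_le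
  | coe a =>
    cases a with
    | top => exact absurd hlt (not_lt.2 (WithBot.coe_le_coe.2 le_top))
    | coe a =>
      have h : a < n := by exact_mod_cast hlt
      exact WithBot.coe_le_coe.2 (ENat.coe_le_coe.2 (show a ≤ n - 1 by omega))

theorem genRank_T : CurvLib.genRank ((chainOf i I).T (N - n)) = 1 := by
  haveI : HasInjectiveResolutions (ModSite.Mod (CohB1.ProjSpace N k).sheaf) :=
    inferInstanceAs (HasInjectiveResolutions (CohB1.ProjSpace N k).Modules)
  haveI : ModSite.HasSheafHom (O := (CohB1.ProjSpace N k).sheaf) (pO i) := FLI.hasSheafHom _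
  obtain ⟨e⟩ := ExtShLib.nonempty_extSh_iso I (pO i) (N - n)
  obtain ⟨g⟩ := nonempty_push_T i I (N - n)
  refine OmegaTF.finrank_stalk_eq_one k N n i (le_dim_projSpace k N i hn) (dim_component (X := X) hn) _
    (g ≪≫ e.symm) ?_
  rw [genericPoint_closure, irreducibleComponents_eq_singleton]
  rfl

end Proj

end GrowthLib
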