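import Groth.Agent.GrowthLib.DualChain
import Groth.Agent.HilbPolyLib.Twist
import Groth.Agent.AmpleThLib.Pow
import Groth.Agent.IntMultLib.Positive

/-!
# Iterating along a twisted resolution
-/

set_option autoImplicit false
set_option linter.style.haveILetI false
set_option linter.unusedSectionVars false
set_option maxHeartbeats 2000000
universe u

open CategoryTheory CategoryTheory.Limits AlgebraicGeometry TopologicalSpace
open HodgeIdxLib (hh)

noncomputable section

namespace GrowthLib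

variable {k : Type u} [Field k] {X : Scheme.{u}} [X.Over (Spec (CommRingCat.of k))]
  [IsProper (X ↘ Spec (CommRingCat.of k))]

theorem shortExact_map_mk {C D : Type*} [Category C] [Category D] [Preadditive C] [Preadditive D] (F : C ⥤ D)
    [F.PreservesZeroMorphisms] {A B E : C} {a : A ⟶ B} {b : B ⟶ E} {w : a ≫ b = 0}
    (h : ((ShortComplex.mk a b w).map F).ShortExact) (w' : F.map a ≫ F.map b = 0) :
    (ShortComplex.mk (F.map a) (F.map b) w').ShortExact := h

/-- The powers acting on modules. -/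
abbrev twP (M : X.Modules) (m : ℕ) : X.Modules ⥤ X.Modules := CurvLib.tensorLeft' (CohB1.tensorPow M m)

/-- An injective chain `0 → U j → K j → U (j + 1)`, exact. -/
structure InjChain (X : Scheme.{u}) where
  U : ℕ → X.Modules
  K : ℕ → X.Modules
  a : ∀ j, U j ⟶ K j
  b : ∀ j, K j ⟶ U (j + 1)
  w : ∀ j, a j ≫ b j = 0
  mono : ∀ j, Mono (a j)
  exact : ∀ j, (ShortComplex.mk (a j) (b j) (w j)).Exact
  inj : ∀ j, Injective (K j)

namespace InjChain

variable (S : InjChain X)

/-- The defects of exactness on the right. -/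
def T : ℕ → X.Modules
  | 0 => S.U 0
  | j + 1 => cokernel (S.b j)

/-- The middle image. -/
abbrev B (j : ℕ) : X.Modules := cokernel (S.a j)

/-- Into the next term. -/
abbrev i (j : ℕ) : S.B j ⟶ S.U (j + 1) := cokernel.desc _ (S.b j) (S.w j)

theorem shortExact₁ (j : ℕ) : (ShortComplex.mk (S.a j) (cokernel.π (S.a j)) (cokernel.condition _)).ShortExact :=
  haveI := S.mono j
  ShortComplex.ShortExact.mk (ShortComplex.exact_cokernel _)

theorem i_comp (j : ℕ) : S.i j ≫ cokernel.π (S.b j) = 0 := by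
  rw [← cancel_epi (cokernel.π (S.a j)), cokernel.π_desc_assoc, cokernel.condition, comp_zero]

theorem shortExact₂ (j : ℕ) : (ShortComplex.mk (S.i j) (cokernel.π (S.b j)) (S.i_comp j)).ShortExact := by
  haveI : Mono (S.i j) := ((ShortComplex.mk (S.a j) (S.b j) (S.w j)).exact_iff_mono_cokernel_desc).1 (S.exact j)
  refine ShortComplex.ShortExact.mk (ShortComplex.exact_of_g_is_cokernel _ ?_)
  refine CokernelCofork.IsColimit.ofπ' _ _ (fun {A} t ht => ⟨cokernel.desc (S.b j) t ?_, cokernel.π_desc _ _ _⟩)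
  rw [← cokernel.π_desc (S.a j) (S.b j) (S.w j), Category.assoc, ht, comp_zero]

variable (k) in
/-- The cokernels on global sections. -/
def D (M : X.Modules) (j m : ℕ) : ℕ :=
  Module.finrank k (Coh.HH X ((twP M m).obj (S.U (j + 1))) 0 ⧸
    LinearMap.range (CurvLib.hMap (k := k) ((twP M m).map (S.b j)) 0))

variable {M A : X.Modules} (hM : PicF.IsInvertible M) (hA : CohB1.IsAmple A) (hTc : ∀ j, Coh.IsCoh (S.T j))
  (N : X.Modules) (eMN : CohB1.tensorMod M N ≅ Coh.structureModule X) (hN : PicF.IsInvertible N)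

theorem subsingleton_inj {M : X.Modules} (hM : PicF.IsInvertible M) {N : X.Modules}
    (eMN : CohB1.tensorMod M N ≅ Coh.structureModule X) (m : ℕ) (K : X.Modules) [Injective K] (p : ℕ) :
    Subsingleton (Coh.HH X ((twP M m).obj K) (p + 1)) := by
  obtain ⟨e⟩ := IntMultLib.nonempty_pow_inverse eMN m
  haveI : Injective ((twP M m).obj K) :=
    (VBP1Lib.inverseEquiv (e := HilbPolyLib.swapIso _ _ ≪≫ e)).symm.map_injective_iff K |>.2 inferInstance
  exact PnDualLib.subsingleton_HH_of_injective _ p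

include hM hA hTc eMN

theorem sm_T {e : ℕ} (j : ℕ) (hd : topologicalKrullDim (CohB1.support (S.T j)) ≤ (e : ℕ)) (p : ℕ) :
    Sm e fun m => hh k ((twP M m).obj (S.T j)) p := by
  obtain ⟨C, hC⟩ := exists_bound_pow (k := k) hA hM (hTc j) hd
  exact ⟨C, fun m => (le_of_eq (HodgeIdxLib.hh_congr (HilbPolyLib.swapIso _ _) p)).trans (hC p m)⟩

theorem step (j : ℕ) (m : ℕ) (hfin : ∀ p, Module.Finite k (Coh.HH X ((twP M m).obj (S.U j)) (p + 1))) :
    (∀ p, Module.Finite k (Coh.HH X ((twP M m).obj (S.U (j + 1))) (p + 1)) ∧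
      hh k ((twP M m).obj (S.U (j + 1))) (p + 1) ≤
        hh k ((twP M m).obj (S.U j)) (p + 2) + hh k ((twP M m).obj (S.T (j + 1))) (p + 1) ∧
      hh k ((twP M m).obj (S.U j)) (p + 2) ≤
        hh k ((twP M m).obj (S.U (j + 1))) (p + 1) + hh k ((twP M m).obj (S.T (j + 1))) p ∧
      hh k ((twP M m).obj (S.T (j + 1))) (p + 1) ≤
        hh k ((twP M m).obj (S.U (j + 1))) (p + 1) + hh k ((twP M m).obj (S.U j)) (p + 3)) ∧
    S.D k M j m ≤ hh k ((twP M m).obj (S.U j)) 1 + hh k ((twP M m).obj (S.T (j + 1))) 0 ∧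
      hh k ((twP M m).obj (S.U j)) 1 ≤ S.D k M j m ∧
      hh k ((twP M m).obj (S.T (j + 1))) 0 ≤ S.D k M j m + hh k ((twP M m).obj (S.U j)) 2 := by
  have hP := AmpleThLib.tensorPow_isInvertible hM m
  let F := twP M m
  have w1 : F.map (S.a j) ≫ F.map (cokernel.π (S.a j)) = 0 := by rw [← F.map_comp, cokernel.condition, F.map_zero]
  have w2 : F.map (S.i j) ≫ F.map (cokernel.π (S.b j)) = 0 := by rw [← F.map_comp, S.i_comp, F.map_zero]
  have h1 := shortExact_map_mk F (HilbPolyLib.shortExact_tensor hP (S.shortExact₁ j)) w1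
  have h2 := shortExact_map_mk F (HilbPolyLib.shortExact_tensor hP (S.shortExact₂ j)) w2
  haveI := S.inj j
  have hK := fun p => subsingleton_inj hM eMN m (S.K j) p
  have hT : Coh.IsCoh (F.obj (S.T (j + 1))) := HilbPolyLib.isCoh_tensor hP (hTc (j + 1))
  have h3 := step_coker (k := k) (F.map (S.a j)) (F.map (cokernel.π (S.a j))) w1 h1 (F.map (S.i j))
    (F.map (cokernel.π (S.b j))) w2 h2 hK hT hfin
  have hb : F.map (cokernel.π (S.a j)) ≫ F.map (S.i j) = F.map (S.b j) := by
    rw [← F.map_comp, cokernel.π_desc]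
  rw [hb] at h3
  exact ⟨step_cohom (k := k) (F.map (S.a j)) (F.map (cokernel.π (S.a j))) w1 h1 (F.map (S.i j))
    (F.map (cokernel.π (S.b j))) w2 h2 hK hT hfin, h3⟩

theorem finite_U : ∀ j m p, Module.Finite k (Coh.HH X ((twP M m).obj (S.U j)) (p + 1))
  | 0, m, p => CurvLib.finite_HH (k := k) (HilbPolyLib.isCoh_tensor (AmpleThLib.tensorPow_isInvertible hM m) (hTc 0)) _
  | j + 1, m, p => ((S.step (k := k) hM hA hTc N eMN j m (finite_U j m)).1 p).1

variable {c e : ℕ} (hsmall : ∀ j, j ≠ c → topologicalKrullDim (CohB1.support (S.T j)) ≤ (e : ℕ))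

include hsmall

theorem small_below : ∀ j, j < c → ∀ p, Sm e fun m => hh k ((twP M m).obj (S.U j)) (p + 1)
  | 0, h, p => S.sm_T hM hA hTc N eMN 0 (hsmall 0 h.ne) (p + 1)
  | j + 1, h, p =>
    ((small_below j (Nat.lt_of_succ_lt h) (p + 1)).add (S.sm_T (k := k) hM hA hTc N eMN (j + 1) (hsmall (j + 1) h.ne) (p + 1))).of_le
      fun m => ((S.step (k := k) hM hA hTc N eMN j m (S.finite_U (k := k) hM hA hTc N eMN j m)).1 p).2.1

theorem near_above : ∀ s p, Nr e (fun m => hh k ((twP M m).obj (S.U (c + s))) (p + 1))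
      (fun m => hh k ((twP M m).obj (S.T c)) (p + 1 + s))
  | 0, p => by
    match c, hsmall with
    | 0, _ => exact Nr.refl
    | c' + 1, hsmall =>
      refine Nr.of_sm_err (((S.small_below (k := k) hM hA hTc N eMN hsmall c' c'.lt_succ_self (p + 1)).add
        (S.small_below (k := k) hM hA hTc N eMN hsmall c' c'.lt_succ_self (p + 2)))) fun m => ?_
      have h := (S.step (k := k) hM hA hTc N eMN c' m (S.finite_U (k := k) hM hA hTc N eMN c' m)).1 p
      simp only [Nat.add_zero]
      constructor <;> linarith [h.2.1, h.2.2.2]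
  | s + 1, p => by
    have hs : c + s + 1 ≠ c := by omega
    refine (Nr.of_sm_err ((S.sm_T (k := k) hM hA hTc N eMN (c + s + 1) (hsmall _ hs) p).add
      (S.sm_T (k := k) hM hA hTc N eMN (c + s + 1) (hsmall _ hs) (p + 1))) fun m => ?_).trans
      ((near_above s (p + 1)).trans (Nr.of_eq fun m => by rw [show p + 1 + 1 + s = p + 1 + (s + 1) by omega]))
    have h := (S.step (k := k) hM hA hTc N eMN (c + s) m (S.finite_U (k := k) hM hA hTc N eMN (c + s) m)).1 p
    rw [show c + (s + 1) = c + s + 1 from rfl]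
    constructor <;> linarith [h.2.1, h.2.2.1]

theorem near_D (s : ℕ) : Nr e (fun m => S.D k M (c + s) m) (fun m => hh k ((twP M m).obj (S.T c)) (s + 1)) := by
  have hs : c + s + 1 ≠ c := by omega
  refine (Nr.of_sm_err (S.sm_T (k := k) hM hA hTc N eMN (c + s + 1) (hsmall _ hs) 0) fun m => ?_).trans
    ((S.near_above (k := k) hM hA hTc N eMN hsmall s 0).trans (Nr.of_eq fun m => by rw [show 0 + 1 + s = s + 1 by omega]))
  have h := (S.step (k := k) hM hA hTc N eMN (c + s) m (S.finite_U (k := k) hM hA hTc N eMN (c + s) m)).2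
  constructor <;> linarith [h.1, h.2.1]

theorem near_D_zero (c' : ℕ) (hc : c = c' + 1) :
    Nr e (fun m => S.D k M c' m) (fun m => hh k ((twP M m).obj (S.T c)) 0) := by
  subst hc
  refine Nr.of_sm_err ((S.small_below (k := k) hM hA hTc N eMN hsmall c' c'.lt_succ_self 0).add
    (S.small_below (k := k) hM hA hTc N eMN hsmall c' c'.lt_succ_self 1)) fun m => ?_
  have h := (S.step (k := k) hM hA hTc N eMN c' m (S.finite_U (k := k) hM hA hTc N eMN c' m)).2
  constructor <;> linarith [h.1, h.2.2]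

end InjChain

end GrowthLib
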