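import Groth.Agent.GrowthLib.Pullback
import Groth.Agent.GrowthLib.Asymp2

/-!
# Sections of pullbacks by generically finite morphisms
-/

set_option autoImplicit false
set_option linter.style.haveILetI false
set_option maxHeartbeats 1000000
universe u

open CategoryTheory CategoryTheory.Limits AlgebraicGeometry TopologicalSpace Opposite
open HilbPolyLib DevissLib IntFunLib
open HodgeIdxLib (hh)

noncomputable section

namespace GrowthLib

variable {X : Scheme.{u}} {k : Type u} [Field k] [X.Over (Spec (CommRingCat.of k))]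
  [IsProper (X ↘ Spec (CommRingCat.of k))]

theorem le_pow_pred {a e D n m : ℕ} (h : a ≤ e) (he : (m + 1) * e ≤ D * (m + 1) ^ n) :
    a ≤ D * (m + 1) ^ (n - 1) := by
  rcases Nat.eq_zero_or_pos n with hn | hn
  · subst hn
    rw [pow_zero] at he ⊢
    exact h.trans ((Nat.le_mul_of_pos_left e (Nat.succ_pos m)).trans he)
  · refine h.trans (Nat.le_of_mul_le_mul_left ?_ (Nat.succ_pos m))
    refine he.trans (le_of_eq ?_)
    rw [mul_left_comm, ← pow_succ', Nat.sub_add_cancel hn]

/-- Twists of generically isomorphic modules differ by `O(m^{n-1})`. -/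
theorem exists_diff_generic [IsIntegral X] {A : X.Modules} (hA : CohB1.IsAmple A) {L : X.Modules}
    (hL : PicF.IsInvertible L) {n : ℕ} (hn : topologicalKrullDim X ≤ (n : ℕ)) {H F : X.Modules} (hH : Coh.IsCoh H)
    (hF : Coh.IsCoh F) (φ : H ⟶ F) (hφ : Function.Bijective ((St (genericPoint X)).map φ).hom) (p : ℕ) :
    ∃ D : ℕ, ∀ m, |(hh k (CohB1.tensorMod H (CohB1.tensorPow L m)) p : ℤ) -
      hh k (CohB1.tensorMod F (CohB1.tensorPow L m)) p| ≤ ((D * (m + 1) ^ (n - 1) : ℕ) : ℤ) := by
  haveI := CurvLib.isNoetherian k (X := X)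
  have hsmall : ∀ N : X.Modules, Coh.IsCoh N → genericPoint X ∉ CohB1.support N →
      topologicalKrullDim (CohB1.support N) < (n : ℕ) := fun N hN h => by
    refine dim_lt_of_notMem (QCohLib.isClosed_support _ hN.2) (fun z _ => ?_) h (Y := Set.univ) (Set.subset_univ _)
      (dim_le_iff.mpr ((topologicalKrullDim_subspace_le _ _).trans hn))
    rw [(genericPoint_spec X).def]; exact trivial
  have hK := QCohLib.isCoh_kernel φ hH hF.1
  have hC := QCohLib.isCoh_cokernel φ hH.1 hF
  let I := kernel (cokernel.π φ)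
  let e : H ⟶ I := kernel.lift (cokernel.π φ) φ (cokernel.condition φ)
  have hI : Coh.IsCoh I := QCohLib.isCoh_kernel _ hF hC.1
  haveI : Epi e := (inferInstance : Epi (Abelian.factorThruImage φ))
  have he : e ≫ kernel.ι (cokernel.π φ) = φ := kernel.lift_ι _ _ _
  have w1 : kernel.ι φ ≫ e = 0 := by
    rw [← cancel_mono (kernel.ι (cokernel.π φ)), Category.assoc, he, kernel.condition, zero_comp]
  have hS1 : (ShortComplex.mk (kernel.ι φ) e w1).ShortExact := by
    refine { exact := ?_, mono_f := inferInstanceAs (Mono (kernel.ι φ)), epi_g := inferInstanceAs (Epi e) }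
    let ψ : ShortComplex.mk (kernel.ι φ) e w1 ⟶ ShortComplex.mk (kernel.ι φ) φ (kernel.condition φ) :=
      { τ₁ := 𝟙 _, τ₂ := 𝟙 _, τ₃ := kernel.ι (cokernel.π φ), comm₂₃ := by simp [he] }
    exact (ShortComplex.exact_iff_of_epi_of_isIso_of_mono ψ).2 (ShortComplex.exact_kernel φ)
  have hS2 : (ShortComplex.mk (kernel.ι (cokernel.π φ)) (cokernel.π φ) (kernel.condition _)).ShortExact :=
    { exact := ShortComplex.exact_kernel _, mono_f := inferInstanceAs (Mono (kernel.ι _))
      epi_g := inferInstanceAs (Epi (cokernel.π φ)) }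
  obtain ⟨e₁, D₁, he₁, h₁⟩ := exists_diff_right (k := k) hA hL hS1 hK hH hI
    (hsmall _ hK (DevissLib.notMem_support_kernel φ _ hφ.1)) p
  obtain ⟨e₂, D₂, he₂, h₂⟩ := exists_diff_left (k := k) hA hL hS2 hI hF hC
    (hsmall _ hC (DevissLib.notMem_support_cokernel φ _ hφ.2)) p
  refine ⟨D₁ + D₂, fun m => (abs_sub_le _ (hh k (CohB1.tensorMod I (CohB1.tensorPow L m)) p : ℤ) _).trans ?_⟩
  refine (add_le_add (h₁ m) (h₂ m)).trans ?_
  rw [add_mul, Nat.cast_add]
  exact add_le_add (by exact_mod_cast le_pow_pred le_rfl (he₁ m)) (by exact_mod_cast le_pow_pred le_rfl (he₂ m))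

/-- A module of generic rank `r` twisted, against `r` copies of the twist. -/
theorem exists_diff_rank [IsIntegral X] {A : X.Modules} (hA : CohB1.IsAmple A) {L : X.Modules}
    (hL : PicF.IsInvertible L) {n : ℕ} (hn : topologicalKrullDim X ≤ (n : ℕ)) {F : X.Modules} (hF : Coh.IsCoh F)
    {r : ℕ} (hr : CurvLib.genRank F = r) (p : ℕ) :
    ∃ D : ℕ, ∀ m, |(hh k (CohB1.tensorMod F (CohB1.tensorPow L m)) p : ℤ) -
      (r : ℤ) * hh k (CohB1.tensorPow L m) p| ≤ ((D * (m + 1) ^ (n - 1) : ℕ) : ℤ) := by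
  haveI := CurvLib.isNoetherian k (X := X)
  let η := genericPoint X
  letI : Field (X.presheaf.stalk η) := (inferInstance : Field X.functionField)
  have hP := isCoh_pw (k := k) (X := X) r
  haveI : Module.Finite (X.presheaf.stalk η) ((St η).obj F) :=
    haveI := DevissLib.isNoetherian_stalk hF η
    inferInstance
  haveI : Module.Finite (X.presheaf.stalk η) ((St η).obj (pw X r)) :=
    haveI := DevissLib.isNoetherian_stalk hP η
    inferInstance
  obtain ⟨e⟩ := FiniteDimensional.nonempty_linearEquiv_of_finrank_eq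
    (show Module.finrank (X.presheaf.stalk η) ((St η).obj F) =
      Module.finrank (X.presheaf.stalk η) ((St η).obj (pw X r)) from hr.trans (genRank_pw (k := k) r).symm)
  obtain ⟨H, p₁, p₂, hH, -, -, hb₁, hb₂⟩ := DevissExt.exists_bridge_iso hF hP η e
  obtain ⟨D₁, h₁⟩ := exists_diff_generic (k := k) hA hL hn hH hF p₁ hb₁ p
  obtain ⟨D₂, h₂⟩ := exists_diff_generic (k := k) hA hL hn hH hP p₂ hb₂ p
  refine ⟨D₁ + D₂, fun m => ?_⟩
  have a := h₁ m
  have b := h₂ m
  rw [hh_pw (AmpleThLib.tensorPow_isInvertible hL m) p r] at b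
  push_cast at b
  rw [abs_sub_comm] at a
  refine (abs_sub_le _ (hh k (CohB1.tensorMod H (CohB1.tensorPow L m)) p : ℤ) _).trans ((add_le_add a b).trans ?_)
  rw [add_mul, Nat.cast_add]
  push_cast
  exact le_rfl

variable {Y : Scheme.{u}} [Y.Over (Spec (CommRingCat.of k))] [IsProper (Y ↘ Spec (CommRingCat.of k))]
  (f : Y ⟶ X) (hf : f ≫ (X ↘ Spec (CommRingCat.of k)) = Y ↘ Spec (CommRingCat.of k))

include hf in
/-- `h^0(Y, f^*L^m) - d h^0(X, L^m) = O(m^{n-1})`. -/
theorem exists_h0_pullback_diff [IsIntegral X] [IsIntegral Y] {A : X.Modules} (hA : CohB1.IsAmple A) {L : X.Modules}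
    (hL : PicF.IsInvertible L) {n : ℕ} (hn : topologicalKrullDim X = (n : ℕ))
    (hdom : f.base (genericPoint Y) = genericPoint X) (hd0 : f.residueDegree (genericPoint Y) ≠ 0) :
    ∃ D : ℕ, ∀ m, |(hh k (CohB1.tensorPow ((Scheme.Modules.pullback f).obj L) m) 0 : ℤ) -
      (f.residueDegree (genericPoint Y) : ℤ) * hh k (CohB1.tensorPow L m) 0| ≤ ((D * (m + 1) ^ (n - 1) : ℕ) : ℤ) := by
  haveI := CurvLib.isNoetherian k (X := X)
  haveI := CurvLib.isNoetherian k (X := Y)
  haveI := isProper_of_over f hf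
  let η := genericPoint X
  let ξ := genericPoint Y
  have key : ∀ z : Y, topologicalKrullDim (closure ({z} : Set Y)) =
      topologicalKrullDim (closure ({f z} : Set X)) + UOpenLib.fibreClosureDim f z :=
    FibDimLib.topologicalKrullDim_closure_eq_add (X ↘ Spec (CommRingCat.of k)) f
  have hηd : topologicalKrullDim (closure ({η} : Set X)) = (n : ℕ) := by
    rw [← hn, (genericPoint_spec X).def]
    exact IsHomeomorph.topologicalKrullDim_eq _ (Homeomorph.Set.univ _).isHomeomorph
  have hξ0 : UOpenLib.fibreClosureDim f ξ = 0 := by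
    refine le_antisymm (AlgSpLib.fibreClosureDim_le_zero_of_resTrdeg f ξ ?_) ?_
    · letI := (f.residueFieldMap ξ).hom.toAlgebra
      haveI : Module.Finite (X.residueField (f ξ)) (Y.residueField ξ) :=
        Module.finite_of_finrank_pos (Nat.pos_of_ne_zero hd0)
      exact trdeg_eq_zero
    · exact nonneg_dim ⟨_, subset_closure rfl⟩
  have hY : topologicalKrullDim (Set.univ : Set Y) ≤ (n : ℕ) := by
    rw [← (genericPoint_spec Y).def, key ξ, hξ0, add_zero, show f ξ = η from hdom]
    exact hηd.le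
  have hfib : ∀ z, f z = f ξ → z = ξ := fun z hz => by
    have h1 : topologicalKrullDim (closure ({z} : Set Y)) = (n : ℕ) :=
      le_antisymm ((dim_mono (Set.subset_univ _)).trans hY) (by
        rw [key z, hz, show f ξ = η from hdom, hηd]
        exact le_add_of_nonneg_right (nonneg_dim ⟨_, subset_closure rfl⟩))
    exact (IntMultLib.eq_of_specializes_of_dim isClosed_univ hY h1 trivial
      ((genericPoint_spec Y).specializes trivial)).symm
  have hrk : CurvLib.genRank (rO f 0) = f.residueDegree ξ := by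
    rw [← DegPullLib.finrank_stalk_push f f.isClosedMap (CurvLib.isInvertible_structureModule (X := Y)) hfib η hdom rfl]
    exact LinearEquiv.finrank_eq ((DevissLib.St η).mapIso
      ((Scheme.Modules.pushforward f).rightDerivedZeroIsoSelf.app _)).toLinearEquiv
  obtain ⟨D, hD⟩ := exists_diff_rank (k := k) hA hL hn.le (isCoh_rO f hf 0) hrk 0
  refine ⟨D, fun m => ?_⟩
  have h := pullback_bound f hf hL m 0
  rw [Finset.range_zero, Finset.sum_empty, mul_zero] at h
  rw [sub_eq_zero.mp (abs_nonpos_iff.mp h)]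
  exact hD m

end GrowthLib

end
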