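import Groth.Agent.GrowthLib.DualGeneric
import Groth.Agent.GrowthLib.DualEmbed
import Groth.Agent.GrowthLib.VolPullback
import Groth.Agent.CohCmpLib.TrivFibre

/-!
# Asymptotic duality
-/

set_option autoImplicit false
set_option linter.style.haveILetI false
set_option linter.unusedSectionVars false
set_option backward.isDefEq.respectTransparency false
set_option backward.isDefEq.respectTransparency.types false
set_option maxHeartbeats 2000000
universe u

open CategoryTheory CategoryTheory.Limits AlgebraicGeometry TopologicalSpace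
open HodgeIdxLib (hh)

noncomputable section

namespace GrowthLib

variable {k : Type u} [Field k] {X : Scheme.{u}} [X.Over (Spec (CommRingCat.of k))]
  [IsProper (X ↘ Spec (CommRingCat.of k))]

theorem ext_eq_D {N : ℕ} (i : X ⟶ CohB1.ProjSpace N k) [IsClosedImmersion i]
    (hi : i ≫ CohB1.ProjSpace.toSpec N k = X ↘ Spec (CommRingCat.of k))
    [HasExt.{u} (CohB1.ProjSpace N k).Modules]
    (I : InjectiveResolution (Twist.twistProjSpace N k (-((N : ℤ) + 1)))) {L M : X.Modules}
    (hL : PicF.IsInvertible L) (e : CohB1.tensorMod L M ≅ Coh.structureModule X) (m p j : ℕ) (hpj : p + (j + 1) = N) :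
    hh k (CohB1.tensorPow L m) p = (chainOf i I).D k M j m := by
  obtain ⟨em⟩ := IntMultLib.nonempty_pow_inverse e m
  let G := (Scheme.Modules.pushforward i).obj (CohB1.tensorPow L m)
  have hcoh : Coh.IsCoh G := by
    haveI := PnCohLib.isLocallyNoetherian_projSpace (n := N) k
    haveI : IsLocallyNoetherian X := LocallyOfFiniteType.isLocallyNoetherian i
    exact PnDualLib.isCoh_push' i (CurvLib.isCoh_of_isInvertible (AmpleThLib.tensorPow_isInvertible hL m))
  have h1 : hh k (CohB1.tensorPow L m) p = hh k G p := (ExtShLib.pushEquiv k N i hi _ p).finrank_eq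
  obtain ⟨Q⟩ := nonempty_quot_iso i hi em (ExtShLib.cycP I j)
  rw [h1, ← finrank_ext_dual k N hcoh hpj, finrank_ext_succ (k := k) I G j]
  refine Eq.trans ?_ Q.finrank_eq
  rw [PnDualLib.homFun_map]
  rfl

theorem near_dual [IsIntegral X] {A : X.Modules} (hA : CohB1.IsAmple A) {n : ℕ}
    (hn : topologicalKrullDim X = n) (hn0 : 0 < n) {L M : X.Modules} (hL : PicF.IsInvertible L)
    (e : CohB1.tensorMod L M ≅ Coh.structureModule X) (i : ℕ) (hi : i ≤ n) :
    Nr (n - 1) (fun m => hh k (CohB1.tensorPow L m) i) (fun m => hh k (CohB1.tensorPow M m) (n - i)) := by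
  obtain ⟨N, r, hN, hr, hrq⟩ := AmpleThLib.exists_closedImmersion_ge (X ↘ Spec (CommRingCat.of k)) hA.1 hA (n + 1)
  let ι : X ⟶ CohB1.ProjSpace N k := r
  haveI : IsClosedImmersion ι := hr
  have hι : ι ≫ CohB1.ProjSpace.toSpec N k = X ↘ Spec (CommRingCat.of k) := hrq
  haveI : HasExt.{u} (CohB1.ProjSpace N k).Modules := hasExt_of_enoughInjectives _
  let I : InjectiveResolution (Twist.twistProjSpace N k (-((N : ℤ) + 1))) := injectiveResolution _
  have hM := IntMultLib.isInvertible_of_inverse hL e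
  let eML : CohB1.tensorMod M L ≅ Coh.structureModule X := HilbPolyLib.swapIso _ _ ≪≫ e
  have hTc : ∀ j, Coh.IsCoh ((chainOf ι I).T j) := isCoh_T k N ι I
  have hsmall : ∀ j, j ≠ N - n → topologicalKrullDim (CohB1.support ((chainOf ι I).T j)) ≤ ((n - 1 : ℕ) : ℕ) :=
    fun j hj => dim_support_T k N ι I hn j hj
  obtain ⟨D, hD⟩ := exists_diff_rank (k := k) hA hM hn.le (hTc (N - n)) (genRank_T k N ι I hn) (n - i)
  have hT : Nr (n - 1) (fun m => hh k ((twP M m).obj ((chainOf ι I).T (N - n))) (n - i))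
      (fun m => hh k (CohB1.tensorPow M m) (n - i)) := by
    refine ⟨D, fun m => ?_⟩
    have h : hh k ((twP M m).obj ((chainOf ι I).T (N - n))) (n - i) =
        hh k (CohB1.tensorMod ((chainOf ι I).T (N - n)) (CohB1.tensorPow M m)) (n - i) :=
      HodgeIdxLib.hh_congr (HilbPolyLib.swapIso _ _) _
    have h2 := abs_le.mp (hD m)
    beta_reduce
    rw [h]
    push_cast at h2
    constructor <;> zify <;> linarith [h2.1, h2.2]
  rcases Nat.lt_or_ge i n with hin | hin
  · obtain ⟨s, hs⟩ : ∃ s, s + 1 = n - i := ⟨n - i - 1, by omega⟩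
    have h1 := InjChain.near_D (k := k) (chainOf ι I) hM hA hTc L eML hsmall s
    rw [hs] at h1
    exact (Nr.of_eq fun m => ext_eq_D ι hι I hL e m i (N - n + s) (by omega)).trans (h1.trans hT)
  · obtain ⟨c', hc⟩ : ∃ c', N - n = c' + 1 := ⟨N - n - 1, by omega⟩
    have h1 := InjChain.near_D_zero (k := k) (chainOf ι I) hM hA hTc L eML hsmall c' hc
    have h0 : n - i = 0 := by omega
    rw [h0] at hT ⊢
    exact (Nr.of_eq fun m => ext_eq_D ι hι I hL e m i c' (by omega)).trans (h1.trans hT)

include k in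
theorem subsingleton_of_dim_zero [IsIntegral X] (hn : topologicalKrullDim X = ((0 : ℕ) : WithBot ℕ∞)) :
    Subsingleton X := by
  haveI := CurvLib.isNoetherian k (X := X)
  refine ⟨fun a b => ?_⟩
  suffices h : ∀ y : X, y = genericPoint X by rw [h a, h b]
  intro y
  by_contra hy
  have hc : IsClosed (closure ({y} : Set X)) := isClosed_closure
  have hlt := OmegaTF.dim_lt_of_no_generic (r := 0) (dim_component (X := X) hn) hc fun η hη h => hy (by
    rw [irreducibleComponents_eq_singleton, Set.mem_singleton_iff] at hη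
    have h1 : closure ({y} : Set X) = Set.univ :=
      Set.eq_univ_of_univ_subset (hη ▸ closure_minimal (Set.singleton_subset_iff.2 h) hc)
    exact ((isGenericPoint_def.2 h1).eq (genericPoint_spec X)))
  exact absurd hlt (not_lt.2 (HLVTLib.Conn.dim_nonneg ⟨y, subset_closure rfl⟩))

theorem hhat_duality [IsIntegral X] {A : X.Modules} (hA : CohB1.IsAmple A) (n : ℕ)
    (hn : topologicalKrullDim X = n) {L M : X.Modules} (hL : PicF.IsInvertible L)
    (hM : ClSub.IsInverseOf L M) (i : ℕ) (hi : i ≤ n) :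
    W4c5asymptcohfn.hhat k X n i L = W4c5asymptcohfn.hhat k X n (n - i) M := by
  haveI := CurvLib.isNoetherian k (X := X)
  obtain ⟨e⟩ := hM
  rw [hhat_eq_nrm, hhat_eq_nrm]
  rcases Nat.eq_zero_or_pos n with rfl | hn0
  · obtain rfl : i = 0 := Nat.le_zero.1 hi
    haveI := subsingleton_of_dim_zero (k := k) (X := X) hn
    have hM := IntMultLib.isInvertible_of_inverse hL e
    congr 1
    congr 1
    funext m
    obtain ⟨a⟩ := CohCmpLib.nonempty_iso_structureModule_of_point ((CohCmpLib.invertible_iff_rank_one _).1 (AmpleThLib.tensorPow_isInvertible hL m))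
    obtain ⟨b⟩ := CohCmpLib.nonempty_iso_structureModule_of_point ((CohCmpLib.invertible_iff_rank_one _).1 (AmpleThLib.tensorPow_isInvertible hM m))
    exact HodgeIdxLib.hh_congr (a ≪≫ b.symm) 0
  · obtain ⟨C, hC⟩ := near_dual (k := k) hA hn hn0 hL e i hi
    have hO : Coh.IsCoh (Coh.structureModule X) := DevissLib.isCoh_structureModule X
    obtain ⟨B, hB⟩ := exists_bound_pow (k := k) hA hL hO (e := n)
      ((Topology.IsInducing.topologicalKrullDim_le Topology.IsInducing.subtypeVal).trans hn.le)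
    have hf : ∀ m, hh k (CohB1.tensorPow L m) i ≤ B * (m + 1) ^ n := fun m =>
      (le_of_eq (HodgeIdxLib.hh_congr (HilbPolyLib.unitLeft _).symm i)).trans (hB i m)
    refine limsup_nrm_eq (e := fun m => C * (m + 1) ^ (n - 1)) (D := C) hf (fun m => le_of_eq ?_) fun m => ?_
    · rw [mul_left_comm, ← pow_succ', Nat.sub_add_cancel hn0]
    · have h : hh k (CohB1.tensorPow L m) i ≤ hh k (CohB1.tensorPow M m) (n - i) + C * (m + 1) ^ (n - 1) ∧
          hh k (CohB1.tensorPow M m) (n - i) ≤ hh k (CohB1.tensorPow L m) i + C * (m + 1) ^ (n - 1) := hC m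
      rw [abs_le]
      omega

end GrowthLib
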