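import Groth.Agent.GrowthLib.FieldBound
import Groth.Agent.QuotSchLib.BddFam
import Groth.Agent.QuotSchLib.Family
import Groth.Agent.PicPnLib.BaseChange
import Groth.Agent.HilbSCLib.FibreBC
import Groth.Agent.FibDimLib.ConsDim
import Groth.Agent.VBResLib.RegPush
import Groth.Agent.ConsLib.ModLoci
import Groth.Agent.MumfordLib.Induct
import Groth.Agent.S0017

/-!
# Cohomology of the fibres of a projective morphism in powers of a line bundle
-/

set_option autoImplicit false
set_option linter.style.haveILetI false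
set_option linter.unusedSectionVars false
set_option maxHeartbeats 1000000
universe u

open CategoryTheory CategoryTheory.Limits AlgebraicGeometry TopologicalSpace Opposite
open HodgeIdxLib (hh)
open KFlatLib (pb)
open CubeConsLib (cl cl_eq_iff cl_tensor pull pull_cl)

noncomputable section

namespace GrowthLib

theorem exists_fibre_bound (T XX : Scheme.{u}) [AlgebraicGeometry.IsNoetherian T]
    (f : XX ⟶ T) (r : ℕ) (ι : XX ⟶ CohB1.ProjSpaceOver r T) [IsClosedImmersion ι]
    (hι : ι ≫ CohB1.ProjSpaceOver.toBase r T = f)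
    (F : XX.Modules) (hF : Coh.IsCoh F) (L : XX.Modules) (hL : PicF.IsInvertible L) :
    ∃ C : ℕ, ∀ (t : T) (e : ℕ), topologicalKrullDim ↥(f.fiber t) = e → ∀ a : ℕ, 1 ≤ a → ∀ p : ℕ,
      CohIII.fiberRank f (CohB1.tensorMod F (CohB1.tensorPow L a)) p t ≤ C * a ^ e := by
  subst hι
  set f := ι ≫ CohB1.ProjSpaceOver.toBase r T with hf
  haveI : IsProper (CohB1.ProjSpaceOver.toBase r T) := inferInstance
  haveI : IsProper f := inferInstanceAs (IsProper (ι ≫ _))
  haveI : IsLocallyNoetherian (CohB1.ProjSpaceOver r T) :=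
    LocallyOfFiniteType.isLocallyNoetherian (CohB1.ProjSpaceOver.toBase r T)
  haveI : IsLocallyNoetherian XX := LocallyOfFiniteType.isLocallyNoetherian f
  haveI : LocallyOfFinitePresentation f := inferInstance
  obtain ⟨d, hd⟩ := CubeConsLib.exists_inverse hL
  obtain ⟨L', rfl⟩ := Quotient.exists_rep d
  change cl L * cl L' = 1 at hd
  obtain ⟨eL⟩ : Nonempty (CohB1.tensorMod L L' ≅ Coh.structureModule XX) := cl_eq_iff.1 ((cl_tensor L L').trans hd)
  have hL' := IntMultLib.isInvertible_of_inverse hL eL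
  have hM : ∀ s : ℕ, Coh.IsCoh (CohB1.tensorMod (CohB1.tensorPow L' s) F) := fun s =>
    HilbPolyLib.isCoh_tensor (AmpleThLib.tensorPow_isInvertible hL' s) hF
  choose m Ψ hmΨ using fun s : ℕ => QuotSchLib.exists_bound ((Coh.push ι).obj (CohB1.tensorMod (CohB1.tensorPow L' s) F))
    (VBResLib.isCoh_push_of_isClosedImmersion ι (hM s))
  obtain ⟨mG, ΨG, hG⟩ := QuotSchLib.exists_bound ((Coh.push ι).obj L)
    (VBResLib.isCoh_push_of_isClosedImmersion ι (CurvLib.isCoh_of_isInvertible hL))
  choose C hC using fun e : ℕ => exists_field_bound.{u} r e mG.toNat m Ψ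
  refine ⟨(∑ e ∈ Finset.range (r + 1), C e) * 2 ^ r, fun t e he a ha p => ?_⟩
  let K : Type u := AlgebraicClosure (T.residueField t)
  let v : Spec (CommRingCat.of K) ⟶ T :=
    Spec.map (CommRingCat.ofHom (algebraMap (T.residueField t) K)) ≫ T.fromSpecResidueField t
  have hv : v (IsLocalRing.closedPoint K) = t := by
    rw [Scheme.Hom.comp_apply]
    exact Scheme.fromSpecResidueField_apply _ _
  obtain ⟨j, hj, hjd⟩ := PicPnLib.exists_square r K v
  let Z : Scheme.{u} := pullback ι j
  let g : Z ⟶ XX := pullback.fst ι j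
  let i : Z ⟶ CohB1.ProjSpace r K := pullback.snd ι j
  have H1 : IsPullback g i ι j := IsPullback.of_hasPullback ι j
  have H : IsPullback g (i ≫ CohB1.ProjSpace.toSpec r K) f v := H1.paste_vert hj
  haveI : IsClosedImmersion i := MorphismProperty.pullback_snd (P := @IsClosedImmersion) _ _ inferInstance
  letI : Z.Over (Spec (CommRingCat.of K)) := ⟨i ≫ CohB1.ProjSpace.toSpec r K⟩
  haveI : IsProper (Z ↘ Spec (CommRingCat.of K)) := MorphismProperty.of_isPullback H inferInstance
  have hdimZ : topologicalKrullDim ↥Z = (e : ℕ) := by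
    haveI : Subsingleton ↥(Spec (CommRingCat.of K)) := inferInstanceAs (Subsingleton (PrimeSpectrum K))
    have h := FibDimLib.topologicalKrullDim_fiber_baseChange H (IsLocalRing.closedPoint K)
    rw [hv, he] at h
    rw [← h]
    let q := i ≫ CohB1.ProjSpace.toSpec r K
    exact ((IsHomeomorph.topologicalKrullDim_eq _ (q.fiberHomeo _).isHomeomorph).trans
      (IsHomeomorph.topologicalKrullDim_eq _ ((Homeomorph.setCongr (Set.eq_univ_of_forall fun z =>
        Subsingleton.elim _ _)).trans (Homeomorph.Set.univ Z)).isHomeomorph)).symm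
  have her : e ≤ r := by
    have h := (Topology.IsInducing.topologicalKrullDim_le i.isClosedEmbedding.isInducing).trans
      (MumfordLib.dim_le (k := K) (n := r))
    rw [hdimZ] at h
    exact_mod_cast h
  have hbc : ∀ M : XX.Modules, Coh.IsCoh M → Nonempty (pb j ((Coh.push ι).obj M) ≅ (Coh.push i).obj (pb g M)) :=
    fun M hM => by
      haveI : Coh.IsQCoh M := hM.1
      exact Groth.Agent.S0017.result ι j g i H1 M
  have hgL : PicF.IsInvertible (pb g L) := AmpleDevLib.isInvertible_pb g hL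
  obtain ⟨eLK⟩ : Nonempty (CohB1.tensorMod (pb g L) (pb g L') ≅ Coh.structureModule Z) := by
    refine cl_eq_iff.1 ?_
    rw [cl_tensor]
    show pull g (cl L) * pull g (cl L') = 1
    rw [← map_mul, hd, map_one]
  have hFT : Coh.IsCoh (CohB1.tensorMod F (CohB1.tensorPow L a)) :=
    SerreVanLib.isCoh_tensor hF (AmpleThLib.tensorPow_isInvertible hL a)
  have hfr : CohIII.fiberRank f (CohB1.tensorMod F (CohB1.tensorPow L a)) p t =
      hh K (pb g (CohB1.tensorMod F (CohB1.tensorPow L a))) p :=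
    (HilbSCLib.finrank_fibre_bc f (QCohLib.isFP_of_isCoh _ hFT) H hv p).symm
  rw [hfr]
  obtain ⟨eFa⟩ : Nonempty (pb g (CohB1.tensorMod F (CohB1.tensorPow L a)) ≅
      CohB1.tensorMod (pb g F) (CohB1.tensorPow (pb g L) a)) := by
    refine cl_eq_iff.1 ?_
    rw [cl_tensor, NumTrivLib.cl_tensorPow]
    show pull g (cl (CohB1.tensorMod F (CohB1.tensorPow L a))) = pull g (cl F) * pull g (cl L) ^ a
    rw [cl_tensor, NumTrivLib.cl_tensorPow, map_mul, map_pow]
  rw [HodgeIdxLib.hh_congr eFa p]
  refine (hC e K Z i rfl (pb g F) (pb g L) (pb g L') (ConsLib.isCoh_pullback g hF) ?_ hgL eLK ?_ ?_ p a).trans ?_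
  · exact ((topologicalKrullDim_subspace_le _ _).trans hdimZ.le)
  · obtain ⟨e1⟩ := hbc L (CurvLib.isCoh_of_isInvertible hL)
    have h := NumTrivLib.isMRegular_congr e1 (hG K v j hj hjd).1
    intro q hq _
    exact MumfordLib.regular_of_le (k := K) _ (NumTrivLib.isCoh_push K i (CurvLib.isCoh_of_isInvertible hgL)) h
      (Int.self_le_toNat mG) q hq
  · intro s _
    obtain ⟨hreg, P, hP, hchi⟩ := hmΨ s K v j hj hjd
    obtain ⟨e1⟩ := hbc _ (hM s)
    obtain ⟨e2⟩ : Nonempty (pb g (CohB1.tensorMod (CohB1.tensorPow L' s) F) ≅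
        CohB1.tensorMod (CohB1.tensorPow (pb g L') s) (pb g F)) := by
      refine cl_eq_iff.1 ?_
      rw [cl_tensor, NumTrivLib.cl_tensorPow]
      show pull g (cl (CohB1.tensorMod (CohB1.tensorPow L' s) F)) = pull g (cl L') ^ s * pull g (cl F)
      rw [cl_tensor, NumTrivLib.cl_tensorPow, map_mul, map_pow]
    let e3 := e1 ≪≫ (Coh.push i).mapIso e2
    exact ⟨P, hP, NumTrivLib.isCoh_push K i (HilbPolyLib.isCoh_tensor
        (AmpleThLib.tensorPow_isInvertible (AmpleDevLib.isInvertible_pb g hL') s) (ConsLib.isCoh_pullback g hF)),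
      NumTrivLib.isMRegular_congr e3 hreg, fun u => by rw [← MumfordLib.chi_congr (k := K) e3]; exact hchi u⟩
  · rw [mul_assoc]
    refine Nat.mul_le_mul (Finset.single_le_sum (f := C) (fun _ _ => Nat.zero_le _)
      (Finset.mem_range.2 (by omega))) ?_
    refine (Nat.pow_le_pow_left (by omega : a + 1 ≤ 2 * a) e).trans ?_
    rw [mul_pow]
    exact Nat.mul_le_mul_right _ (Nat.pow_le_pow_right (by omega) her)

end GrowthLib
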