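import Groth.Agent.EulerRpushLib.Main
import Groth.Agent.GrowthLib.Asymp2

/-!
# The cohomology of a direct image against the cohomology upstairs
-/

set_option autoImplicit false
set_option linter.style.haveILetI false
set_option maxHeartbeats 1000000
universe u

open CategoryTheory CategoryTheory.Limits AlgebraicGeometry TopologicalSpace Opposite
open CurvLib (hMap hDel exact₁ exact₂ exact₃ injective₀)
open HodgeIdxLib (hh)
open EulerRpushLib (cycSeq cycSeq_shortExact nonempty_cokernel_iso_rpush IsAcyclic pushH0 pushH0_natural)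

noncomputable section

namespace GrowthLib

variable {X Y : Scheme.{u}} {k : Type u} [Field k]
  [X.Over (Spec (CommRingCat.of k))] [Y.Over (Spec (CommRingCat.of k))]
  (f : Y ⟶ X) (hf : f ≫ (X ↘ Spec (CommRingCat.of k)) = Y ↘ Spec (CommRingCat.of k))

include hf in
/-- One step: `S` on `Y` with acyclic middle, pushed to `X`. -/
theorem leray_step {S : ShortComplex Y.Modules} (hS : S.ShortExact) (h2 : IsAcyclic S.X₂)
    (h2' : IsAcyclic ((Coh.push f).obj S.X₂)) (hY1 : Module.Finite k (Coh.HH Y S.X₁ 1))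
    (hR : ∀ p, Module.Finite k (Coh.HH X (cokernel ((Coh.push f).map S.g)) p))
    (h1 : ∀ p, Module.Finite k (Coh.HH X ((Coh.push f).obj S.X₁) (p + 1))) :
    (∀ p, Module.Finite k (Coh.HH X ((Coh.push f).obj S.X₃) (p + 1))) ∧
      |(Module.finrank k (Coh.HH Y S.X₁ 1) : ℤ) - hh k ((Coh.push f).obj S.X₁) 1| ≤
        hh k (cokernel ((Coh.push f).map S.g)) 0 ∧
      ∀ p, |(hh k ((Coh.push f).obj S.X₁) (p + 2) : ℤ) - hh k ((Coh.push f).obj S.X₃) (p + 1)| ≤
        hh k (cokernel ((Coh.push f).map S.g)) p + hh k (cokernel ((Coh.push f).map S.g)) (p + 1) := by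
  haveI : PreservesFiniteLimits (Coh.push f) :=
    have : PreservesLimitsOfSize.{u, u} (Coh.push f) :=
      (Scheme.Modules.pullbackPushforwardAdjunction f).rightAdjoint_preservesLimits
    inferInstance
  let φ : (Coh.push f).obj S.X₂ ⟶ (Coh.push f).obj S.X₃ := (Coh.push f).map S.g
  obtain ⟨hex, hmono⟩ :=
    (Functor.preservesFiniteLimits_iff_forall_exact_map_and_mono (Coh.push f)).mp inferInstance S hS
  haveI : Mono (S.map (Coh.push f)).f := hmono
  let e₁ : (Coh.push f).obj S.X₁ ≅ kernel φ :=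
    hex.fIsKernel.conePointUniqueUpToIso (limit.isLimit (parallelPair φ 0))
  let a := DevissLib.kerImSeq φ
  have ha : a.ShortExact := DevissLib.kerImSeq_shortExact φ
  let b := DevissLib.imCokSeq φ
  have hb : b.ShortExact := DevissLib.imCokSeq_shortExact φ
  let ψ : Coh.HH X b.X₂ 0 →ₗ[k] Coh.HH Y S.X₁ 1 :=
    (hDel (k := k) hS 0).comp (pushH0 f hf S.X₃).toLinearMap
  have hψ : Function.Surjective ψ := by
    suffices h : Function.Surjective (hDel (k := k) hS 0) from h.comp (pushH0 f hf S.X₃).surjective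
    rw [← LinearMap.range_eq_top, exact₁ hS 0, LinearMap.ker_eq_top]
    haveI := h2 0
    exact LinearMap.ext fun x => Subsingleton.elim _ _
  have hφ : ∀ x : Coh.HH X a.X₂ 0, hMap (k := k) b.f 0 (hMap (k := k) a.g 0 x) =
      hMap (k := k) φ 0 x := fun x => by
    rw [← CurvLib.hMap_comp]
    exact congrArg (fun g => hMap (k := k) g 0 x) (Abelian.image.fac φ)
  have hψker : ∀ z, ψ z = 0 ↔ ∃ x, hMap (k := k) φ 0 x = z := fun z => by
    have h := exact₃ (k := k) hS 0
    constructor
    · intro hz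
      obtain ⟨y, hy⟩ := h.ge (LinearMap.mem_ker.mpr hz)
      obtain ⟨x, rfl⟩ := (pushH0 f hf S.X₂).surjective y
      exact ⟨x, (pushH0 f hf S.X₃).injective ((pushH0_natural f hf S.g x).symm.trans hy)⟩
    · rintro ⟨x, rfl⟩
      exact LinearMap.mem_ker.mp (h.le ⟨_, pushH0_natural f hf S.g x⟩)
  let θ : Coh.HH X b.X₁ 0 →ₗ[k] Coh.HH Y S.X₁ 1 := ψ.comp (hMap (k := k) b.f 0)
  have hθ : LinearMap.ker θ = LinearMap.ker (hDel (k := k) ha 0) := by
    rw [← exact₃ ha 0]
    ext w
    refine (hψker _).trans ⟨fun ⟨x, hx⟩ => ⟨x, ?_⟩, fun ⟨x, hx⟩ => ⟨x, ?_⟩⟩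
    · exact injective₀ hb ((hφ x).trans hx)
    · exact (hφ x).symm.trans (congrArg _ hx)
  have hδa : Function.Surjective (hDel (k := k) ha 0) := by
    rw [← LinearMap.range_eq_top, exact₁ ha 0, LinearMap.ker_eq_top]
    haveI := h2' 0
    exact LinearMap.ext fun x => Subsingleton.elim _ _
  let E1 : LinearMap.range θ ≃ₗ[k] Coh.HH X (kernel φ) 1 :=
    θ.quotKerEquivRange.symm ≪≫ₗ Submodule.quotEquivOfEq _ _ hθ ≪≫ₗ
      (hDel (k := k) ha 0).quotKerEquivOfSurjective hδa
  let π := (LinearMap.range θ).mkQ.comp ψ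
  have hπ : LinearMap.ker π = LinearMap.ker (hMap (k := k) b.g 0) := by
    rw [← exact₂ hb 0]
    ext z
    rw [LinearMap.mem_ker, LinearMap.comp_apply, Submodule.mkQ_apply, Submodule.Quotient.mk_eq_zero]
    refine ⟨fun ⟨w, hw⟩ => ?_, fun ⟨w, hw⟩ => ⟨w, congrArg ψ hw⟩⟩
    obtain ⟨x, hx⟩ := (hψker (z - hMap (k := k) b.f 0 w)).mp (by
      rw [map_sub]; exact sub_eq_zero.mpr hw.symm)
    exact ⟨hMap (k := k) a.g 0 x + w, by rw [map_add, hφ, hx, sub_add_cancel]⟩
  let E2 : (Coh.HH Y S.X₁ 1 ⧸ LinearMap.range θ) ≃ₗ[k] LinearMap.range (hMap (k := k) b.g 0) :=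
    (π.quotKerEquivOfSurjective ((Submodule.mkQ_surjective _).comp hψ)).symm ≪≫ₗ
      Submodule.quotEquivOfEq _ _ hπ ≪≫ₗ (hMap (k := k) b.g 0).quotKerEquivRange
  have hδbij : ∀ p, Function.Bijective (hDel (k := k) ha (p + 1)) := fun p => by
    refine ⟨?_, ?_⟩
    · rw [← LinearMap.ker_eq_bot, ← exact₃ ha (p + 1), LinearMap.range_eq_bot]
      haveI := h2' p
      exact LinearMap.ext fun x => by rw [Subsingleton.elim x 0, map_zero]; rfl
    · rw [← LinearMap.range_eq_top, exact₁ ha (p + 1), LinearMap.ker_eq_top]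
      haveI := h2' (p + 1)
      exact LinearMap.ext fun x => Subsingleton.elim _ _
  let E3 : ∀ p, Coh.HH X b.X₁ (p + 1) ≃ₗ[k] Coh.HH X (kernel φ) (p + 2) := fun p =>
    LinearEquiv.ofBijective (hDel (k := k) ha (p + 1)) (hδbij p)
  haveI := hY1
  haveI hR' : ∀ p, Module.Finite k (Coh.HH X b.X₃ p) := hR
  haveI hK : ∀ p, Module.Finite k (Coh.HH X (kernel φ) (p + 1)) := fun p =>
    haveI := h1 p
    Module.Finite.equiv (CurvLib.hIso (k := k) e₁ (p + 1))
  haveI hB : ∀ p, Module.Finite k (Coh.HH X b.X₁ (p + 1)) := fun p => Module.Finite.equiv (E3 p).symm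
  haveI h3 : ∀ p, Module.Finite k (Coh.HH X b.X₂ (p + 1)) := fun p =>
    have : IsNoetherian k (Coh.HH X b.X₁ (p + 1)) := isNoetherian_of_isNoetherianRing_of_finite k _
    have : IsNoetherian k (Coh.HH X b.X₃ (p + 1)) := isNoetherian_of_isNoetherianRing_of_finite k _
    have := isNoetherian_of_range_eq_ker (hMap (k := k) b.f (p + 1)) (hMap (k := k) b.g (p + 1)) (exact₂ hb (p + 1))
    Module.IsNoetherian.finite k _
  refine ⟨h3, ?_, fun p => ?_⟩
  · have h := Submodule.finrank_quotient_add_finrank (LinearMap.range θ)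
    rw [E1.finrank_eq, E2.finrank_eq] at h
    have h' := Submodule.finrank_le (LinearMap.range (hMap (k := k) b.g 0))
    have he := (CurvLib.hIso (k := k) e₁ 1).finrank_eq
    show |(Module.finrank k (Coh.HH Y S.X₁ 1) : ℤ) - Module.finrank k (Coh.HH X ((Coh.push f).obj S.X₁) 1)| ≤
      (Module.finrank k (Coh.HH X b.X₃ 0) : ℤ)
    rw [he, abs_le]
    constructor <;> omega
  · have e1 := (hDel (k := k) hb p).finrank_range_add_finrank_ker
    have e2 := (hMap (k := k) b.f (p + 1)).finrank_range_add_finrank_ker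
    have e3 := (hMap (k := k) b.g (p + 1)).finrank_range_add_finrank_ker
    rw [← exact₁ hb p] at e2
    rw [← exact₂ hb (p + 1)] at e3
    have e5 := Submodule.finrank_le (LinearMap.range (hMap (k := k) b.g (p + 1)))
    have e6 := (E3 p).finrank_eq
    have e7 : Module.finrank k (LinearMap.range (hDel (k := k) hb p)) ≤ Module.finrank k (Coh.HH X b.X₃ p) := by omega
    have he := (CurvLib.hIso (k := k) e₁ (p + 2)).finrank_eq
    show |(Module.finrank k (Coh.HH X ((Coh.push f).obj S.X₁) (p + 2)) : ℤ) -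
        Module.finrank k (Coh.HH X b.X₂ (p + 1))| ≤
      (Module.finrank k (Coh.HH X b.X₃ p) : ℤ) + Module.finrank k (Coh.HH X b.X₃ (p + 1))
    rw [he, ← e6, abs_le]
    constructor <;> omega

include hf in
/-- `h^q(Y, G)` against `h^q(X, f_* G)`, up to the cohomology of the higher direct images. -/
theorem leray_bound [IsProper (X ↘ Spec (CommRingCat.of k))] [IsProper (Y ↘ Spec (CommRingCat.of k))]
    (G : Y.Modules) (hG : Coh.IsCoh G) (q : ℕ) [HasInjectiveResolutions Y.Modules] :
    |(hh k G q : ℤ) - hh k ((Coh.push f).obj G) q| ≤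
      2 * ∑ j ∈ Finset.range q, ∑ p ∈ Finset.range (q + 1), (hh k ((Coh.Rpush f (j + 1)).obj G) p : ℤ) := by
  haveI := CurvLib.isNoetherian k (X := X)
  haveI := CurvLib.isNoetherian k (X := Y)
  haveI : IsProper f := by
    haveI : IsProper (f ≫ (X ↘ Spec (CommRingCat.of k))) := hf ▸ inferInstance
    exact IsProper.of_comp f (X ↘ Spec (CommRingCat.of k))
  rcases q with _ | q
  · rw [Finset.range_zero, Finset.sum_empty, mul_zero,
      show hh k G 0 = hh k ((Coh.push f).obj G) 0 from DegPullLib.finrank_H0_push k f hf G, sub_self, abs_zero]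
  have hRc : ∀ i, Coh.IsCoh ((Coh.Rpush f i).obj G) := fun i => Groth.Agent.S0036.result f G hG i
  let I := injectiveResolution G
  let Z : ℕ → Y.Modules := fun n => kernel (I.cocomplex.d n (n + 1))
  have eR : ∀ n, Nonempty (cokernel ((Coh.push f).map (cycSeq I n).g) ≅ (Coh.Rpush f (n + 1)).obj G) :=
    nonempty_cokernel_iso_rpush f I
  let e0 : Z 0 ≅ G :=
    (kernelIsKernel _).conePointUniqueUpToIso I.isLimitKernelFork
  have hacY : ∀ n, IsAcyclic (cycSeq I n).X₂ := fun n =>
    haveI := RpushLib.isFlasque_toAb_injective (I.cocomplex.X n)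
    EulerRpushLib.isAcyclic_of_isFlasque _
  have hacX : ∀ n, IsAcyclic ((Coh.push f).obj (cycSeq I n).X₂) := fun n =>
    haveI := EulerRpushLib.isFlasque_push f (I.cocomplex.X n)
    EulerRpushLib.isAcyclic_of_isFlasque _
  have hYshift : ∀ n p, Nonempty (Coh.HH Y (Z (n + 1)) (p + 1) ≃ₗ[k] Coh.HH Y (Z n) (p + 2)) := fun n p => by
    refine ⟨LinearEquiv.ofBijective (hDel (k := k) (cycSeq_shortExact I n) (p + 1)) ⟨?_, ?_⟩⟩
    · rw [← LinearMap.ker_eq_bot, ← exact₃ (cycSeq_shortExact I n) (p + 1), LinearMap.range_eq_bot]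
      haveI := hacY n p
      exact LinearMap.ext fun x => by rw [Subsingleton.elim x 0, map_zero]; rfl
    · rw [← LinearMap.range_eq_top, exact₁ (cycSeq_shortExact I n) (p + 1), LinearMap.ker_eq_top]
      haveI := hacY n (p + 1)
      exact LinearMap.ext fun x => Subsingleton.elim _ _
  have hYH : ∀ n p, Nonempty (Coh.HH Y (Z n) (p + 1) ≃ₗ[k] Coh.HH Y G (n + p + 1)) := by
    intro n
    induction n with
    | zero => exact fun p => ⟨(CurvLib.hIso (k := k) e0 (p + 1)).trans (LinearEquiv.cast (R := k)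
        (M := fun i => Coh.HH Y G i) (by omega : p + 1 = 0 + p + 1))⟩
    | succ n ih => exact fun p => ⟨(hYshift n p).some.trans ((ih (p + 1)).some.trans
        (LinearEquiv.cast (R := k) (M := fun i => Coh.HH Y G i) (by omega)))⟩
  have hY1 : ∀ n, Module.Finite k (Coh.HH Y (Z n) 1) := fun n =>
    haveI := CurvLib.finite_HH (k := k) hG (n + 0 + 1)
    Module.Finite.equiv (hYH n 0).some.symm
  have hRfin : ∀ n p, Module.Finite k (Coh.HH X (cokernel ((Coh.push f).map (cycSeq I n).g)) p) :=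
    fun n p => CurvLib.finite_HH (QCohLib.isCoh_of_iso (eR n).some.symm (hRc _)) p
  have eR' : ∀ n p, hh k (cokernel ((Coh.push f).map (cycSeq I n).g)) p = hh k ((Coh.Rpush f (n + 1)).obj G) p :=
    fun n p => HodgeIdxLib.hh_congr (eR n).some p
  have hpc : Coh.IsCoh ((Coh.push f).obj G) :=
    QCohLib.isCoh_of_iso ((Scheme.Modules.pushforward f).rightDerivedZeroIsoSelf.app G) (hRc 0)
  have hfin : ∀ n p, Module.Finite k (Coh.HH X ((Coh.push f).obj (Z n)) (p + 1)) := by
    intro n
    induction n with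
    | zero => exact fun p => haveI := CurvLib.finite_HH (k := k) hpc (p + 1)
                             Module.Finite.equiv (CurvLib.hIso (k := k) ((Coh.push f).mapIso e0) (p + 1)).symm
    | succ n ih => exact (leray_step f hf (cycSeq_shortExact I n) (hacY n) (hacX n) (hY1 n) (hRfin n) ih).1
  have hstep := fun n => (leray_step f hf (cycSeq_shortExact I n) (hacY n) (hacX n) (hY1 n) (hRfin n) (hfin n)).2
  let R : ℕ → ℤ := fun j => ∑ p ∈ Finset.range (q + 2), (hh k ((Coh.Rpush f (j + 1)).obj G) p : ℤ)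
  have hR0 : ∀ j p, p ≤ q + 1 → (hh k ((Coh.Rpush f (j + 1)).obj G) p : ℤ) ≤ R j := fun j p hp =>
    Finset.single_le_sum (f := fun p => (hh k ((Coh.Rpush f (j + 1)).obj G) p : ℤ))
      (fun _ _ => by positivity) (Finset.mem_range.mpr (by omega))
  -- move along the diagonal
  have hdiag : ∀ n, n ≤ q → |(hh k ((Coh.push f).obj (Z n)) (q - n + 1) : ℤ) -
      hh k ((Coh.push f).obj G) (q + 1)| ≤ 2 * ∑ j ∈ Finset.range n, R j := by
    intro n
    induction n with
    | zero =>
      intro _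
      rw [Nat.sub_zero, HodgeIdxLib.hh_congr ((Coh.push f).mapIso e0) (q + 1)]
      simp
    | succ n ih =>
      intro hn
      have h := (hstep n).2 (q - (n + 1))
      rw [eR', eR'] at h
      have h' : |(hh k ((Coh.push f).obj (Z (n + 1))) (q - (n + 1) + 1) : ℤ) -
          hh k ((Coh.push f).obj (Z n)) (q - n + 1)| ≤ 2 * R n := by
        rw [abs_sub_comm, show q - n + 1 = q - (n + 1) + 2 by omega]
        refine h.trans ?_
        have := hR0 n (q - (n + 1)) (by omega)
        have := hR0 n (q - (n + 1) + 1) (by omega)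
        linarith
      rw [Finset.sum_range_succ, mul_add]
      have := ih (by omega)
      refine (abs_sub_le _ (hh k ((Coh.push f).obj (Z n)) (q - n + 1) : ℤ) _).trans ?_
      linarith
  have hd := hdiag q le_rfl
  rw [Nat.sub_self, zero_add] at hd
  have h1 := (hstep q).1
  rw [(hYH q 0).some.finrank_eq, eR'] at h1
  have h2 := hR0 q 0 (Nat.zero_le _)
  have h1' : |(hh k G (q + 1) : ℤ) - hh k ((Coh.push f).obj (Z q)) 1| ≤ 2 * R q := by
    refine le_trans h1 ?_
    linarith [show (0 : ℤ) ≤ R q from Finset.sum_nonneg fun _ _ => by positivity]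
  rw [Finset.sum_range_succ, mul_add]
  refine (abs_sub_le _ (hh k ((Coh.push f).obj (Z q)) 1 : ℤ) _).trans ?_
  linarith

end GrowthLib
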