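import Groth.Agent.GrowthLib.Top
import Mathlib.Analysis.Normed.Group.Constructions

/-!
# Lipschitz estimates in integral exponents
-/

set_option autoImplicit false
set_option linter.style.haveILetI false
universe u

open CategoryTheory CategoryTheory.Limits AlgebraicGeometry TopologicalSpace Opposite
open HilbPolyLib DevissLib IntMultLib IntFunLib
open HodgeIdxLib (hh)
open KFlatLib (pb)

noncomputable section

namespace GrowthLib

variable {k : Type u} [Field k] {X : Scheme.{u}} [X.Over (Spec (CommRingCat.of k))]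
  [IsProper (X ↘ Spec (CommRingCat.of k))]

/-- In dimension zero all invertible modules look alike. -/
theorem hh_dim_zero [IsIntegral X] {A : X.Modules} (hA : CohB1.IsAmple A) (hd : topologicalKrullDim X ≤ ((0 : ℕ) : WithBot ℕ∞))
    {M : X.Modules} (hM : PicF.IsInvertible M) (p : ℕ) : hh k M p = hh k (Coh.structureModule X) p := by
  obtain ⟨D, hD0, hD⟩ := exists_step (k := k) (r := 0) (F := fun _ => Coh.structureModule X) hA hd
    (fun _ => CurvLib.isInvertible_structureModule) (fun e' he => absurd he (Nat.not_lt_zero e')) hM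
  have h := hD p 0
  rw [hD0 rfl, HodgeIdxLib.hh_congr (HilbPolyLib.unitLeft M) p] at h
  have h' : |(hh k M p : ℤ) - hh k (Coh.structureModule X) p| ≤ 0 := by
    refine le_of_mul_le_mul_left (h.trans (le_of_eq (by simp))) (show (0 : ℤ) < (size (0 : Fin 0 → ℤ) : ℤ) + 1 by omega)
  have := abs_nonpos_iff.mp h'
  omega

/-- The Lipschitz estimate in the maximum norm. -/
theorem exists_hhat_lip [IsIntegral X] {A : X.Modules} (hA : CohB1.IsAmple A) {n : ℕ}
    (hn : topologicalKrullDim X ≤ (n : ℕ)) {r : ℕ} {L M : Fin r → X.Modules} (hL : ∀ j, PicF.IsInvertible (L j))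
    (hi : ∀ j, ClSub.IsInverseOf (L j) (M j)) (p : ℕ) :
    ∃ C : ℝ, 0 ≤ C ∧ ∀ a b : Fin r → ℤ,
      |W4c5asymptcohfn.hhat k X n p (W4c5asymptcohfn.ztwist X L M a) -
          W4c5asymptcohfn.hhat k X n p (W4c5asymptcohfn.ztwist X L M b)| ≤
        C * ((max ‖(fun j => ((a j : ℤ) : ℝ))‖ ‖(fun j => ((b j : ℤ) : ℝ))‖) ^ (n - 1) *
          ‖(fun j => ((a j - b j : ℤ) : ℝ))‖) ∧ (n = 0 →
      W4c5asymptcohfn.hhat k X n p (W4c5asymptcohfn.ztwist X L M a) =
          W4c5asymptcohfn.hhat k X n p (W4c5asymptcohfn.ztwist X L M b)) := by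
  haveI := CurvLib.isNoetherian k (X := X)
  letI := LMLib.law X
  have hF := isTwistFam_ztwist hL hi
  rcases Nat.eq_zero_or_pos n with rfl | hpos
  · have key : ∀ a b : Fin r → ℤ, W4c5asymptcohfn.hhat k X 0 p (W4c5asymptcohfn.ztwist X L M a) =
        W4c5asymptcohfn.hhat k X 0 p (W4c5asymptcohfn.ztwist X L M b) := fun a b => by
      rw [hhat_eq_nrm, hhat_eq_nrm]
      refine congrArg (fun f => Filter.limsup (nrm 0 f) Filter.atTop) (funext fun m => ?_)
      rw [hh_dim_zero (k := k) hA hn (AmpleThLib.tensorPow_isInvertible (hF.inv a) m) p,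
        hh_dim_zero (k := k) hA hn (AmpleThLib.tensorPow_isInvertible (hF.inv b) m) p]
    exact ⟨0, le_rfl, fun a b => ⟨by rw [key a b, sub_self, abs_zero, zero_mul], fun _ => key a b⟩⟩
  obtain ⟨n', rfl⟩ : ∃ n', n = n' + 1 := ⟨n - 1, by omega⟩
  obtain ⟨D, hD⟩ := abs_hhat_sub_le (k := k) hA hn hF (nonempty_ztwist_pow hL hi)
  refine ⟨(D : ℝ) * r * (r : ℝ) ^ n', by positivity, fun a b => ⟨?_, fun h => absurd h (Nat.succ_ne_zero n')⟩⟩
  refine (hD p a b).trans ?_
  set x := ‖(fun j => ((a j : ℤ) : ℝ))‖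
  set y := ‖(fun j => ((b j : ℤ) : ℝ))‖
  set z := ‖(fun j => ((a j - b j : ℤ) : ℝ))‖
  have h1 : (size (a - b) : ℝ) ≤ (r : ℝ) * z := size_le_norm (a - b)
  have h2 : ((max (size a) (size b) : ℕ) : ℝ) ≤ (r : ℝ) * max x y := by
    rw [Nat.cast_max]
    exact max_le ((size_le_norm a).trans (mul_le_mul_of_nonneg_left (le_max_left x y) (Nat.cast_nonneg r)))
      ((size_le_norm b).trans (mul_le_mul_of_nonneg_left (le_max_right x y) (Nat.cast_nonneg r)))
  have h3 := pow_le_pow_left₀ (Nat.cast_nonneg _) h2 n'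
  rw [mul_pow] at h3
  refine (mul_le_mul (mul_le_mul_of_nonneg_left h1 (Nat.cast_nonneg D)) h3 (by positivity)
    (mul_nonneg (Nat.cast_nonneg D) (mul_nonneg (Nat.cast_nonneg r) (norm_nonneg _)))).trans (le_of_eq ?_)
  rw [Nat.add_sub_cancel]
  ring

end GrowthLib
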