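import Groth.Agent.GrowthLib.Proper
import Groth.Agent.CurvLib.SupportVanish
import Groth.Agent.ChernOpLib.Tensor
import Groth.Agent.AmpleDevLib.Pull
import Mathlib.Algebra.Order.Field.Basic

/-!
# Cohomology of multi-twists: polynomial bound of degree the dimension
-/

set_option autoImplicit false
set_option linter.style.haveILetI false
universe u

open CategoryTheory CategoryTheory.Limits AlgebraicGeometry TopologicalSpace Opposite
open HilbPolyLib DevissLib IntMultLib IntFunLib
open HodgeIdxLib (hh)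
open KFlatLib (pb)

noncomputable section

namespace GrowthLib

variable {k : Type u} [Field k] {X : Scheme.{u}} [X.Over (Spec (CommRingCat.of k))]

/-- The size of an exponent vector. -/
def size {r : ℕ} (a : Fin r → ℤ) : ℕ := ∑ j, (a j).natAbs

theorem size_add_le {r : ℕ} (a b : Fin r → ℤ) : size (a + b) ≤ size a + size b := by
  rw [size, size, size, ← Finset.sum_add_distrib]
  exact Finset.sum_le_sum fun j _ => Int.natAbs_add_le _ _

theorem size_single {r : ℕ} (j : Fin r) (t : ℤ) : size (Pi.single j t) = t.natAbs := by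
  rw [size, Finset.sum_eq_single j (fun l _ hl => by rw [Pi.single_eq_of_ne hl]; rfl)
    (fun h => absurd (Finset.mem_univ j) h), Pi.single_eq_same]

/-- A family of twists by the powers of finitely many invertible modules. -/
structure IsTwistFam {r : ℕ} (L : Fin r → X.Modules) (F : (Fin r → ℤ) → X.Modules) : Prop where
  inv_base : ∀ j, PicF.IsInvertible (L j)
  inv : ∀ a, PicF.IsInvertible (F a)
  step : ∀ a j, Nonempty (F (a + Pi.single j 1) ≅ CohB1.tensorMod (F a) (L j))

omit [X.Over (Spec (CommRingCat.of k))] in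
theorem IsTwistFam.pullback {r : ℕ} {L : Fin r → X.Modules} {F : (Fin r → ℤ) → X.Modules} (h : IsTwistFam L F)
    {Z : Scheme.{u}} (g : Z ⟶ X) : IsTwistFam (fun j => pb g (L j)) (fun a => pb g (F a)) where
  inv_base j := AmpleDevLib.isInvertible_pb g (h.inv_base j)
  inv a := AmpleDevLib.isInvertible_pb g (h.inv a)
  step a j := by
    obtain ⟨e⟩ := h.step a j
    obtain ⟨e'⟩ := ChernOpLib.nonempty_pb_tensor g (F a) (L j)
    exact ⟨(Scheme.Modules.pullback g).mapIso e ≪≫ e'.symm⟩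

variable [IsProper (X ↘ Spec (CommRingCat.of k))]

/-- Degrees above the dimension of the support. -/
theorem hh_eq_zero_of_dim {M : X.Modules} (hM : Coh.IsCoh M) {d : ℕ}
    (hd : topologicalKrullDim (CohB1.support M) ≤ (d : ℕ)) {p : ℕ} (hp : d < p) : hh k M p = 0 := by
  haveI := CurvLib.isNoetherian k (X := X)
  haveI := CurvLib.subsingleton_HH_of_support_dim M hM.2 hd p hp
  exact Module.finrank_zero_of_subsingleton

/-- Total dimension of the cohomology in degrees up to `d`. -/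
def tot (k : Type u) [Field k] {X : Scheme.{u}} [X.Over (Spec (CommRingCat.of k))] (d : ℕ) (M : X.Modules) : ℕ :=
  ∑ p ∈ Finset.range (d + 1), hh k M p

theorem hh_le_tot {M : X.Modules} (hM : Coh.IsCoh M) {d : ℕ}
    (hd : topologicalKrullDim (CohB1.support M) ≤ (d : ℕ)) (p : ℕ) : hh k M p ≤ tot k d M := by
  rcases le_or_gt p d with h | h
  · exact Finset.single_le_sum (f := fun p => hh k M p) (fun l _ => Nat.zero_le _) (Finset.mem_range.mpr (by omega))
  · rw [hh_eq_zero_of_dim hM hd h]; exact Nat.zero_le _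

/-- The bound to be proved, in all degrees. -/
def Bound (k : Type u) [Field k] {X : Scheme.{u}} [X.Over (Spec (CommRingCat.of k))] (e : ℕ) {r : ℕ}
    (F : (Fin r → ℤ) → X.Modules) (Q : X.Modules) : Prop :=
  ∃ C : ℕ, ∀ (p : ℕ) (a : Fin r → ℤ), hh k (CohB1.tensorMod (F a) Q) p ≤ C * (size a + 1) ^ e

/-- Changing a twist by an invertible module costs the cohomology of two cokernels. -/
theorem hh_twist_diff [IsIntegral X] {L M : X.Modules} (hL : PicF.IsInvertible L) (hM : PicF.IsInvertible M)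
    {σ : Coh.structureModule X ⟶ M} (hσ : σ ≠ 0) (φ : L ⟶ M) [Mono φ] (hQ : Coh.IsCoh (cokernel σ))
    (hQ' : Coh.IsCoh (cokernel φ)) {T : X.Modules} (hT : PicF.IsInvertible T) {d : ℕ}
    (hd : topologicalKrullDim X ≤ (d : ℕ)) (p : ℕ) :
    |(hh k (CohB1.tensorMod T L) p : ℤ) - hh k T p| ≤
      2 * (tot k d (CohB1.tensorMod T (cokernel σ)) + tot k d (CohB1.tensorMod T (cokernel φ)) : ℕ) := by
  haveI := CurvLib.isNoetherian k (X := X)
  have hdim : ∀ N : X.Modules, topologicalKrullDim (CohB1.support N) ≤ (d : ℕ) := fun N =>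
    (topologicalKrullDim_subspace_le _ _).trans hd
  have hcQ := HilbPolyLib.isCoh_tensor hT hQ
  have hcQ' := HilbPolyLib.isCoh_tensor hT hQ'
  have hcM := HilbPolyLib.isCoh_tensor hT (CurvLib.isCoh_of_isInvertible hM)
  have hcL := HilbPolyLib.isCoh_tensor hT (CurvLib.isCoh_of_isInvertible hL)
  have hcO := HilbPolyLib.isCoh_tensor hT (DevissLib.isCoh_structureModule X)
  have S1 := HilbPolyLib.shortExact_tensor hT (HodgeIdxLib.cokSeq_shortExact hM hσ)
  have S2 := HilbPolyLib.shortExact_tensor hT (S := ShortComplex.mk φ (cokernel.π φ) (cokernel.condition φ))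
    { exact := ShortComplex.exact_cokernel φ, mono_f := inferInstanceAs (Mono φ)
      epi_g := inferInstanceAs (Epi (cokernel.π φ)) }
  have h1 : ∀ q, hh k (CohB1.tensorMod T M) q ≤ hh k (CohB1.tensorMod T (Coh.structureModule X)) q +
        hh k (CohB1.tensorMod T (cokernel σ)) q ∧
      hh k (CohB1.tensorMod T (cokernel σ)) q ≤ hh k (CohB1.tensorMod T M) q +
        hh k (CohB1.tensorMod T (Coh.structureModule X)) (q + 1) ∧
      hh k (CohB1.tensorMod T (Coh.structureModule X)) (q + 1) ≤ hh k (CohB1.tensorMod T (cokernel σ)) q +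
        hh k (CohB1.tensorMod T M) (q + 1) ∧
      hh k (CohB1.tensorMod T (Coh.structureModule X)) 0 ≤ hh k (CohB1.tensorMod T M) 0 :=
    fun q => HodgeIdxLib.ses_mk (k := k) _ _ _ S1 hcO hcM hcQ q
  have h2 : ∀ q, hh k (CohB1.tensorMod T M) q ≤ hh k (CohB1.tensorMod T L) q +
        hh k (CohB1.tensorMod T (cokernel φ)) q ∧
      hh k (CohB1.tensorMod T (cokernel φ)) q ≤ hh k (CohB1.tensorMod T M) q +
        hh k (CohB1.tensorMod T L) (q + 1) ∧
      hh k (CohB1.tensorMod T L) (q + 1) ≤ hh k (CohB1.tensorMod T (cokernel φ)) q +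
        hh k (CohB1.tensorMod T M) (q + 1) ∧
      hh k (CohB1.tensorMod T L) 0 ≤ hh k (CohB1.tensorMod T M) 0 :=
    fun q => HodgeIdxLib.ses_mk (k := k) _ _ _ S2 hcL hcM hcQ' q
  have eO := fun q => HodgeIdxLib.hh_congr (k := k)
    (show CohB1.tensorMod T (Coh.structureModule X) ≅ T from HilbPolyLib.swapIso _ _ ≪≫ HilbPolyLib.unitLeft _) q
  have bQ := hh_le_tot (k := k) hcQ (hdim _)
  have bQ' := hh_le_tot (k := k) hcQ' (hdim _)
  rw [abs_le]
  rcases p with _ | q
  · obtain ⟨a1, -, -, a4⟩ := h1 0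
    obtain ⟨b1, -, -, b4⟩ := h2 0
    have := eO 0; have := bQ 0; have := bQ' 0
    constructor <;> push_cast <;> omega
  · obtain ⟨a1, -, -, -⟩ := h1 (q + 1)
    obtain ⟨b1, -, -, -⟩ := h2 (q + 1)
    obtain ⟨-, -, a3, -⟩ := h1 q
    obtain ⟨-, -, b3, -⟩ := h2 q
    have := eO (q + 1); have := bQ (q + 1); have := bQ' (q + 1); have := bQ q; have := bQ' q
    constructor <;> push_cast <;> omega

/-- Bounds for all coherent modules of smaller dimension make them negligible. -/
theorem small_of_bound {e : ℕ} {r : ℕ} {F : (Fin r → ℤ) → X.Modules} (hF : ∀ a, PicF.IsInvertible (F a))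
    (IH : ∀ e' < e, ∀ Q : X.Modules, Coh.IsCoh Q → topologicalKrullDim (CohB1.support Q) ≤ (e' : ℕ) → Bound k e' F Q)
    {Q : X.Modules} (hQ : Coh.IsCoh Q) (hd : topologicalKrullDim (CohB1.support Q) < (e : ℕ)) :
    ∃ C : ℕ, (e = 0 → C = 0) ∧ ∀ (p : ℕ) (a : Fin r → ℤ),
      (size a + 1) * hh k (CohB1.tensorMod (F a) Q) p ≤ C * (size a + 1) ^ e := by
  rcases (CohB1.support Q).eq_empty_or_nonempty with he | hne
  · refine ⟨0, fun _ => rfl, fun p a => ?_⟩
    rw [HodgeIdxLib.hh_eq_zero (isZero_of_support_empty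
      ((HilbPolyLib.support_tensor (hF a) Q).trans he)) p]
    simp
  obtain ⟨e', rfl⟩ : ∃ e', e = e' + 1 := by
    refine ⟨e - 1, ?_⟩
    rcases Nat.eq_zero_or_pos e with rfl | h
    · exact absurd ((IntFunLib.nonneg_dim hne).trans_lt hd) (lt_irrefl _)
    · omega
  obtain ⟨C, hC⟩ := IH e' (by omega) Q hQ (dim_le_iff.mp hd)
  exact ⟨C, fun h => absurd h (Nat.succ_ne_zero e'), fun p a => by rw [pow_succ', mul_left_comm C]; exact Nat.mul_le_mul_left _ (hC p a)⟩

/-- The Lipschitz property in one variable. -/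
theorem exists_step [IsIntegral X] {A : X.Modules} (hA : CohB1.IsAmple A) {e : ℕ}
    (hd : topologicalKrullDim X ≤ (e : ℕ)) {r : ℕ} {F : (Fin r → ℤ) → X.Modules} (hF : ∀ a, PicF.IsInvertible (F a))
    (IH : ∀ e' < e, ∀ Q : X.Modules, Coh.IsCoh Q → topologicalKrullDim (CohB1.support Q) ≤ (e' : ℕ) → Bound k e' F Q)
    {L : X.Modules} (hL : PicF.IsInvertible L) :
    ∃ D : ℕ, (e = 0 → D = 0) ∧ ∀ (p : ℕ) (a : Fin r → ℤ),
      ((size a : ℤ) + 1) * |(hh k (CohB1.tensorMod (F a) L) p : ℤ) - hh k (F a) p| ≤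
        (D : ℤ) * ((size a : ℤ) + 1) ^ e := by
  haveI := CurvLib.isNoetherian k (X := X)
  haveI : X.IsSeparated := ⟨by
    rw [show Limits.terminal.from X = (X ↘ Spec (CommRingCat.of k)) ≫ Limits.terminal.from _ from Subsingleton.elim _ _]
    infer_instance⟩
  letI := LMLib.law X
  obtain ⟨L', hL', ⟨eL⟩⟩ := NumRLib.exists_inverse (k := k) hL
  obtain ⟨n₁, -, hn₁⟩ := MiscFlat6.eventually_ample_globallyGenerated hA hL'
  obtain ⟨n₂, -, hn₂⟩ := MiscFlat6.eventually_ample_globallyGenerated hA (CurvLib.isInvertible_structureModule (X := X))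
  set n := n₁ + n₂
  have hAn := AmpleThLib.tensorPow_isInvertible hA.1 n
  obtain ⟨s, hs⟩ := NumRLib.exists_mono_of_globallyGenerated (HilbPolyLib.isInvertible_tensor hAn hL')
    (hn₁ n (Nat.le_add_right _ _)).2
  obtain ⟨φ, hφ⟩ := NumRLib.exists_mono_twist (k := k) hL eL s
  obtain ⟨σ, hσ⟩ := NumRLib.exists_mono_of_globallyGenerated
    (HilbPolyLib.isInvertible_tensor hAn CurvLib.isInvertible_structureModule) (hn₂ n (Nat.le_add_left _ _)).2
  let eA : CohB1.tensorMod (CohB1.tensorPow A n) (Coh.structureModule X) ≅ CohB1.tensorPow A n :=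
    HilbPolyLib.swapIso _ _ ≪≫ HilbPolyLib.unitLeft _
  haveI : Mono (σ ≫ eA.hom) := inferInstance
  have hσ0 : σ ≫ eA.hom ≠ 0 := NumRLib.ne_zero_of_mono _
  obtain ⟨hQ, hQd⟩ := dim_cok_lt k hd hAn hσ0
  have hcφ : Coh.IsCoh (cokernel φ) :=
    QCohLib.isCoh_cokernel φ (CurvLib.isCoh_of_isInvertible hL).1 (CurvLib.isCoh_of_isInvertible hAn)
  have hφ0 : φ ≠ 0 := fun h => by
    have hz : IsZero L := (IsZero.iff_id_eq_zero L).mpr (by rw [← cancel_mono φ, h, comp_zero, comp_zero])
    refine NumRLib.not_isZero_structureModule (X := X) ((isZero_of_support_empty ?_).of_iso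
      (eL.symm ≪≫ HilbPolyLib.swapIso L L'))
    rw [HilbPolyLib.support_tensor hL', support_of_isZero hz]
  have hcφd : topologicalKrullDim (CohB1.support (cokernel φ)) < (e : ℕ) := by
    refine dim_lt_of_notMem (QCohLib.isClosed_support _ hcφ.2) (fun z _ => ?_)
      (CurvLib.generic_notMem_support_cokernel hL hAn hφ0) (Y := Set.univ) (Set.subset_univ _)
      (dim_le_iff.mpr ((topologicalKrullDim_subspace_le _ _).trans hd))
    rw [(genericPoint_spec X).def]; exact trivial
  obtain ⟨C₁, hC₁z, hC₁⟩ := small_of_bound hF IH hQ hQd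
  obtain ⟨C₂, hC₂z, hC₂⟩ := small_of_bound hF IH hcφ hcφd
  refine ⟨2 * (e + 1) * (C₁ + C₂), fun h => by simp [hC₁z h, hC₂z h], fun p a => ?_⟩
  have h := hh_twist_diff (k := k) hL hAn hσ0 φ hQ hcφ (hF a) hd p
  refine (mul_le_mul_of_nonneg_left h (by positivity)).trans ?_
  have hb : (size a + 1) * (2 * (tot k e (CohB1.tensorMod (F a) (cokernel (σ ≫ eA.hom))) +
      tot k e (CohB1.tensorMod (F a) (cokernel φ)))) ≤ 2 * (e + 1) * (C₁ + C₂) * (size a + 1) ^ e := by
    rw [tot, tot, ← Finset.sum_add_distrib, Finset.mul_sum, Finset.mul_sum]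
    refine (Finset.sum_le_card_nsmul _ _ (2 * ((C₁ + C₂) * (size a + 1) ^ e)) fun q _ => ?_).trans
      (le_of_eq (by rw [Finset.card_range, smul_eq_mul]; ring))
    have := hC₁ q a
    have := hC₂ q a
    calc _ = 2 * ((size a + 1) * hh k (CohB1.tensorMod (F a) (cokernel (σ ≫ eA.hom))) q +
          (size a + 1) * hh k (CohB1.tensorMod (F a) (cokernel φ)) q) := by ring
      _ ≤ 2 * (C₁ * (size a + 1) ^ e + C₂ * (size a + 1) ^ e) := by omega
      _ = _ := by ring
  exact_mod_cast hb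

/-- The bound for the twists alone on an integral scheme. -/
theorem exists_bound_twists [IsIntegral X] {A : X.Modules} (hA : CohB1.IsAmple A) {e : ℕ}
    (hd : topologicalKrullDim X ≤ (e : ℕ)) {r : ℕ} {L : Fin r → X.Modules} {F : (Fin r → ℤ) → X.Modules}
    (hF : IsTwistFam L F)
    (IH : ∀ e' < e, ∀ Q : X.Modules, Coh.IsCoh Q → topologicalKrullDim (CohB1.support Q) ≤ (e' : ℕ) → Bound k e' F Q) :
    ∃ C : ℕ, ∀ (p : ℕ) (a : Fin r → ℤ), hh k (F a) p ≤ C * (size a + 1) ^ e := by
  haveI := CurvLib.isNoetherian k (X := X)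
  choose D hDz hD using fun j => exists_step hA hd hF.inv IH (hF.inv_base j)
  set B := tot k e (F 0)
  set S := ∑ j, D j
  have hB : ∀ p, hh k (F 0) p ≤ B := fun p => hh_le_tot (CurvLib.isCoh_of_isInvertible (hF.inv 0))
    ((topologicalKrullDim_subspace_le _ _).trans hd) p
  -- one step
  have hstep : ∀ (p : ℕ) (a : Fin r → ℤ) (j : Fin r),
      ((size a : ℤ) + 1) * |(hh k (F (a + Pi.single j 1)) p : ℤ) - hh k (F a) p| ≤ (S : ℤ) * ((size a : ℤ) + 1) ^ e := by
    intro p a j
    obtain ⟨eS⟩ := hF.step a j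
    rw [HodgeIdxLib.hh_congr eS p]
    refine (hD j p a).trans (mul_le_mul_of_nonneg_right ?_ (by positivity))
    exact_mod_cast Finset.single_le_sum (fun l _ => Nat.zero_le (D l)) (Finset.mem_univ j)
  refine ⟨B + 2 * 2 ^ e * S, fun p a => ?_⟩
  -- move towards the origin one coordinate step at a time
  suffices ∀ (N : ℕ) (a : Fin r → ℤ), size a = N → (hh k (F a) p : ℤ) ≤ B + 2 * 2 ^ e * S * ((N : ℤ) + 1) ^ e by
    have h := this _ a rfl
    have h1 : (1 : ℤ) ≤ ((size a : ℤ) + 1) ^ e := one_le_pow₀ (by omega)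
    have h2 : (B : ℤ) ≤ (B : ℤ) * ((size a : ℤ) + 1) ^ e := le_mul_of_one_le_right (by positivity) h1
    have h3 : (hh k (F a) p : ℤ) ≤ ((B + 2 * 2 ^ e * S) * (size a + 1) ^ e : ℕ) := by push_cast; linarith
    exact_mod_cast h3
  intro N
  induction N with
  | zero =>
    intro a ha
    obtain rfl : a = 0 := funext fun j => by
      have := Finset.single_le_sum (fun l _ => Nat.zero_le (a l).natAbs) (Finset.mem_univ j)
      rw [size] at ha
      simp only [Pi.zero_apply]; omega
    have : (hh k (F 0) p : ℤ) ≤ B := by exact_mod_cast hB p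
    push_cast
    simp only [zero_add, one_pow, mul_one]
    linarith [show (0 : ℤ) ≤ 2 * 2 ^ e * (S : ℤ) by positivity]
  | succ N ih =>
    intro a ha
    obtain ⟨j, hj⟩ : ∃ j, a j ≠ 0 := by
      by_contra h
      push Not at h
      rw [size, Finset.sum_eq_zero fun l _ => by rw [h l]; rfl] at ha
      omega
    -- a neighbour closer to the origin
    obtain ⟨b, hb, hlink⟩ : ∃ b : Fin r → ℤ, size b = N ∧ (b + Pi.single j 1 = a ∨ a + Pi.single j 1 = b) := by
      have hsz : ∀ t : ℤ, (a j + t).natAbs + 1 = (a j).natAbs → size (a + Pi.single j t) = N := by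
        intro t ht
        rw [size, ← Finset.add_sum_erase _ _ (Finset.mem_univ j)] at ha ⊢
        rw [Finset.sum_congr rfl (g := fun l => (a l).natAbs) (fun l hl => by
          rw [Pi.add_apply, Pi.single_eq_of_ne (Finset.ne_of_mem_erase hl), add_zero]), Pi.add_apply,
          Pi.single_eq_same]
        omega
      rcases lt_or_gt_of_ne hj with h | h
      · exact ⟨a + Pi.single j 1, hsz 1 (by omega), .inr rfl⟩
      · refine ⟨a + Pi.single j (-1), hsz (-1) (by omega), .inl ?_⟩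
        rw [add_assoc, ← Pi.single_add, neg_add_cancel, Pi.single_zero, add_zero]
    have hbound : ((N : ℤ) + 2) * |(hh k (F a) p : ℤ) - hh k (F b) p| ≤ 2 * (S : ℤ) * ((N : ℤ) + 2) ^ e := by
      rcases hlink with h | h
      · have := hstep p b j
        rw [h, hb] at this
        have hS : (S : ℤ) * ((N : ℤ) + 1) ^ e ≤ (S : ℤ) * ((N : ℤ) + 2) ^ e :=
          mul_le_mul_of_nonneg_left (pow_le_pow_left₀ (by positivity) (by omega) e) (by positivity)
        have h0 := abs_nonneg ((hh k (F a) p : ℤ) - hh k (F b) p)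
        nlinarith
      · have := hstep p a j
        rw [h, ha, abs_sub_comm] at this
        push_cast at this ⊢
        rw [show (N : ℤ) + 1 + 1 = N + 2 by ring] at this
        rw [mul_assoc (2 : ℤ)]
        linarith [show (0 : ℤ) ≤ (S : ℤ) * ((N : ℤ) + 2) ^ e by positivity]
    have h1 := ih b hb
    have h2 := le_abs_self ((hh k (F a) p : ℤ) - hh k (F b) p)
    rcases Nat.eq_zero_or_pos e with rfl | he
    · -- in dimension zero nothing changes
      have hS0 : S = 0 := Finset.sum_eq_zero fun j' _ => hDz j' rfl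
      rw [hS0] at hbound h1
      simp only [Nat.cast_zero, mul_zero, zero_mul, add_zero] at hbound h1
      rw [hS0]; simp only [Nat.cast_zero, mul_zero, zero_mul, add_zero]
      nlinarith [abs_nonneg ((hh k (F a) p : ℤ) - hh k (F b) p)]
    obtain ⟨e', rfl⟩ : ∃ e', e = e' + 1 := ⟨e - 1, by omega⟩
    have h3 : |(hh k (F a) p : ℤ) - hh k (F b) p| ≤ 2 * (S : ℤ) * ((N : ℤ) + 2) ^ e' := by
      refine le_of_mul_le_mul_left ?_ (show (0 : ℤ) < (N : ℤ) + 2 by omega)
      rw [pow_succ'] at hbound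
      linarith [hbound]
    have h4 : ((N : ℤ) + 2) ^ e' ≤ 2 ^ (e' + 1) * (((N : ℤ) + 2) ^ (e' + 1) - ((N : ℤ) + 1) ^ (e' + 1)) := by
      have h5 : ((N : ℤ) + 1) ^ e' * 1 ≤ ((N : ℤ) + 2) ^ (e' + 1) - ((N : ℤ) + 1) ^ (e' + 1) := by
        rw [pow_succ, pow_succ]
        nlinarith [pow_le_pow_left₀ (show (0 : ℤ) ≤ (N : ℤ) + 1 by omega) (show (N : ℤ) + 1 ≤ N + 2 by omega) e']
      have h6 : ((N : ℤ) + 2) ^ e' ≤ 2 ^ (e' + 1) * ((N : ℤ) + 1) ^ e' := by
        calc ((N : ℤ) + 2) ^ e' ≤ (2 * ((N : ℤ) + 1)) ^ e' := pow_le_pow_left₀ (by omega) (by omega) e'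
          _ = 2 ^ e' * ((N : ℤ) + 1) ^ e' := mul_pow _ _ _
          _ ≤ _ := mul_le_mul_of_nonneg_right (pow_le_pow_right₀ (by norm_num) (Nat.le_succ _)) (by positivity)
      refine h6.trans (mul_le_mul_of_nonneg_left ?_ (by positivity))
      linarith [h5]
    push_cast
    rw [show (N : ℤ) + 1 + 1 = N + 2 by ring]
    have h7 := mul_le_mul_of_nonneg_left h4 (show (0 : ℤ) ≤ 2 * (S : ℤ) by positivity)
    linear_combination h1 + h2 + h3 + h7

end GrowthLib
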