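import Groth.Agent.GrowthLib.Multi

/-!
# Cohomology of multi-twists of coherent modules on projective schemes; Lipschitz estimates
-/

set_option autoImplicit false
set_option linter.style.haveILetI false
set_option maxHeartbeats 1000000
universe u

open CategoryTheory CategoryTheory.Limits AlgebraicGeometry TopologicalSpace Opposite
open HilbPolyLib DevissLib IntMultLib IntFunLib
open HodgeIdxLib (hh)
open KFlatLib (pb)

noncomputable section

namespace GrowthLib

variable {k : Type u} [Field k]

/-- A non zero ideal fills the generic stalk. -/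
theorem generic_notMem_cokernel_ideal {Z : Scheme.{u}} [IsIntegral Z] {I : Z.Modules} (ι : I ⟶ Coh.structureModule Z)
    [Mono ι] (hI : ¬ IsZero I) : genericPoint Z ∉ CohB1.support (cokernel ι) := by
  set η := genericPoint Z
  have hmem : η ∈ CohB1.support I := by
    by_contra h
    let j : I ⟶ (Coh.push (𝟙 Z)).obj (Coh.structureModule Z) :=
      ι ≫ (Scheme.Modules.pushforwardId Z).inv.app (Coh.structureModule Z)
    exact hI (DevissLib.isZero_of_mono_push (𝟙 Z) j h)
  obtain ⟨m, hm⟩ := (DevissLib.mem_support_iff_nonzero I η).mp hmem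
  have hinj : Function.Injective ((St η).map ι).hom := (ModuleCat.mono_iff_injective _).mp inferInstance
  obtain ⟨U, e, hxU, he⟩ := TwistLib.exists_genOn (CurvLib.isInvertible_structureModule (X := Z)) η
  have hb := he.genAt hxU
  refine DevissLib.notMem_support_cokernel ι η fun b => ?_
  obtain ⟨c, hc⟩ := hb.2 (((St η).map ι).hom m)
  obtain ⟨d, hd⟩ := hb.2 b
  dsimp only at hc hd
  have hc0 : c ≠ 0 := fun h => hm (hinj (hc.symm.trans ((by rw [h]; exact zero_smul _ _ : _ = (0 : (St η).obj (Coh.structureModule Z))).trans (map_zero _).symm)))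
  let F : Field (Z.presheaf.stalk η) := (inferInstance : Field Z.functionField)
  refine ⟨(d * c⁻¹) • m, ?_⟩
  rw [map_smul, ← hc]
  refine (smul_smul _ _ _).trans ?_
  rw [mul_assoc, inv_mul_cancel₀ hc0, mul_one]
  exact hd

/-- Cohomology of a twist of a pushforward, in all degrees. -/
theorem hh_push_eq {X : Scheme.{u}} [X.Over (Spec (CommRingCat.of k))] [IsProper (X ↘ Spec (CommRingCat.of k))]
    {Z : Scheme.{u}} [Z.Over (Spec (CommRingCat.of k))] (i : Z ⟶ X) [IsClosedImmersion i]
    {P : X.Modules} (hP : PicF.IsInvertible P) {I : Z.Modules} (hIc : Coh.IsCoh I) {C : X.Modules}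
    (eI : C ≅ (Coh.push i).obj I) (p : ℕ) (hi : i ≫ (X ↘ Spec (CommRingCat.of k)) = Z ↘ Spec (CommRingCat.of k) := by rfl) :
    hh k (CohB1.tensorMod P C) p = hh k (CohB1.tensorMod (pb i P) I) p := by
  haveI : IsProper (Z ↘ Spec (CommRingCat.of k)) := hi ▸ inferInstance
  haveI := CurvLib.isNoetherian k (X := Z)
  let pr := @asIso _ _ _ _ (ProjFormLib.projApp i P I) (ProjFormLib.isIso_projApp i
    (CurveVBLib.isFinLocFree_of_rank (CurvLib.locFree_of_isInvertible hP)) I)
  haveI : Coh.IsQCoh (CohB1.tensorMod (pb i P) I) :=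
    (HilbPolyLib.isCoh_tensor (AmpleDevLib.isInvertible_pb i hP) hIc).1
  rw [HodgeIdxLib.hh_congr (HilbPolyLib.congrRight P eI ≪≫ pr) p]
  exact ((PushLinLib.euler_push k i hi (CohB1.tensorMod (pb i P) I)).1 p).symm

/-- **Uniform bound**: `h^p(F(a) ⊗ Q) ≤ C (|a| + 1)^e` for `dim Supp Q ≤ e`. -/
theorem exists_bound_multi : ∀ (e : ℕ) (X : Scheme.{u}) [X.Over (Spec (CommRingCat.of k))]
    [IsProper (X ↘ Spec (CommRingCat.of k))] (A : X.Modules), CohB1.IsAmple A →
    ∀ (r : ℕ) (L : Fin r → X.Modules) (F : (Fin r → ℤ) → X.Modules), IsTwistFam L F →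
    ∀ Q : X.Modules, Coh.IsCoh Q → topologicalKrullDim (CohB1.support Q) ≤ (e : ℕ) → Bound k e F Q := by
  intro e
  induction e using Nat.strong_induction_on with
  | _ e IH =>
  intro X _ _ A hA r L F hF Q hQ hd
  haveI := CurvLib.isNoetherian k (X := X)
  obtain ⟨t, G, φ, hG0, ⟨eG⟩, hGc, hstep⟩ := DevissLib.exists_filtration hQ
  have hmono : ∀ j ≤ t, ∃ ψ : G j ⟶ Q, Mono ψ := by
    intro j hj
    induction h : t - j generalizing j with
    | zero =>
      obtain rfl : j = t := by omega
      exact ⟨eG.hom, inferInstance⟩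
    | succ s ih =>
      obtain ⟨ψ, hψ⟩ := ih (j + 1) (by omega) (by omega)
      haveI := (hstep j (by omega)).1
      exact ⟨φ j ≫ ψ, inferInstance⟩
  have main : ∀ j ≤ t, Bound k e F (G j) := by
    intro j
    induction j with
    | zero =>
      intro _
      refine ⟨0, fun p a => ?_⟩
      rw [HodgeIdxLib.hh_eq_zero (isZero_of_support_empty ((HilbPolyLib.support_tensor
        (hF.inv a) _).trans (support_of_isZero hG0))) p]
      simp
    | succ j ih =>
      intro hj
      obtain ⟨C, hC⟩ := ih (by omega)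
      obtain ⟨hm, Z, i, hi, hZ, I, ι, hι, hI, hI0, ⟨eI⟩⟩ := hstep j (by omega)
      letI : Z.Over (Spec (CommRingCat.of k)) := ⟨i ≫ (X ↘ Spec (CommRingCat.of k))⟩
      haveI : IsProper (Z ↘ Spec (CommRingCat.of k)) :=
        inferInstanceAs (IsProper (i ≫ (X ↘ Spec (CommRingCat.of k))))
      haveI := CurvLib.isNoetherian k (X := Z)
      haveI := hι
      have hIc : Coh.IsCoh I := QCohLib.isCoh_of_mono ι (DevissLib.isCoh_structureModule Z) hI
      have hsub : closure ({i (genericPoint Z)} : Set X) ⊆ CohB1.support Q := by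
        obtain ⟨ψ, hψ⟩ := hmono (j + 1) hj
        refine closure_minimal (Set.singleton_subset_iff.mpr ?_) (QCohLib.isClosed_support Q hQ.2)
        refine support_mono ψ (support_epi (cokernel.π (φ j)) ?_)
        rw [DevissLib.support_iso eI]
        exact DevissExt.mem_support_push i ι hI0
      have hdZ : topologicalKrullDim Z ≤ (e : ℕ) := by
        refine le_trans (le_of_eq ?_) ((dim_mono hsub).trans hd)
        exact (i.isEmbedding.toHomeomorph.trans
          (Homeomorph.setCongr (DevissExt.closure_generic i).symm)).isHomeomorph.topologicalKrullDim_eq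
      have hAZ : CohB1.IsAmple (pb i A) := AmpleDevLib.isAmple_pb i hA.1 hA
      have hFZ := hF.pullback i
      have IHZ : ∀ e' < e, ∀ R : Z.Modules, Coh.IsCoh R → topologicalKrullDim (CohB1.support R) ≤ (e' : ℕ) →
          Bound k e' (fun a => pb i (F a)) R := fun e' he R hR hdR =>
        IH e' he Z (pb i A) hAZ r _ _ hFZ R hR hdR
      obtain ⟨D, hD⟩ := exists_bound_twists hAZ hdZ hFZ IHZ
      -- the cokernel of the ideal
      have hc : Coh.IsCoh (cokernel (φ j)) :=
        QCohLib.isCoh_cokernel (φ j) (hGc j (by omega)).1 (hGc (j + 1) hj)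
      have hS : (ShortComplex.mk ι (cokernel.π ι) (cokernel.condition ι)).ShortExact :=
        { exact := ShortComplex.exact_cokernel _, mono_f := inferInstanceAs (Mono ι)
          epi_g := inferInstanceAs (Epi (cokernel.π ι)) }
      have hR : Coh.IsCoh (cokernel ι) :=
        QCohLib.isCoh_cokernel ι hI (DevissLib.isCoh_structureModule Z)
      have hRd : topologicalKrullDim (CohB1.support (cokernel ι)) < (e : ℕ) := by
        refine dim_lt_of_notMem (QCohLib.isClosed_support _ hR.2) (fun z _ => ?_)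
          (generic_notMem_cokernel_ideal ι hI0) (Y := Set.univ) (Set.subset_univ _)
          (dim_le_iff.mpr ((topologicalKrullDim_subspace_le _ _).trans hdZ))
        rw [(genericPoint_spec Z).def]; exact trivial
      obtain ⟨E, -, hE⟩ := small_of_bound hFZ.inv IHZ hR hRd
      refine ⟨C + D + E, fun p a => ?_⟩
      haveI := hm
      have hT := hF.inv a
      have hTi := hFZ.inv a
      have hs1 := HodgeIdxLib.ses_left (k := k) hT (S := ShortComplex.mk (φ j) (cokernel.π (φ j)) (cokernel.condition _))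
        { exact := ShortComplex.exact_cokernel _, mono_f := inferInstanceAs (Mono (φ j))
          epi_g := inferInstanceAs (Epi (cokernel.π _)) } (hGc j (by omega)) (hGc (j + 1) hj) hc p
      have hs2 := hh_push_eq (k := k) i hT hIc eI p
      have hP1 : 1 ≤ (size a + 1) := Nat.succ_pos _
      have hO : ∀ q, hh k (CohB1.tensorMod (pb i (F a)) (Coh.structureModule Z)) q ≤ D * (size a + 1) ^ e :=
        fun q => (le_of_eq (HodgeIdxLib.hh_congr (HilbPolyLib.swapIso _ _ ≪≫ HilbPolyLib.unitLeft _) q)).trans (hD q a)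
      have hEb : ∀ q, hh k (CohB1.tensorMod (pb i (F a)) (cokernel ι)) q ≤ E * (size a + 1) ^ e :=
        fun q => (Nat.le_mul_of_pos_left _ hP1).trans (hE q a)
      have hses : ∀ q, hh k (CohB1.tensorMod (pb i (F a)) I) (q + 1) ≤
            hh k (CohB1.tensorMod (pb i (F a)) (cokernel ι)) q +
              hh k (CohB1.tensorMod (pb i (F a)) (Coh.structureModule Z)) (q + 1) ∧
          hh k (CohB1.tensorMod (pb i (F a)) I) 0 ≤
              hh k (CohB1.tensorMod (pb i (F a)) (Coh.structureModule Z)) 0 := fun q =>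
        have h := HodgeIdxLib.ses_mk (k := k) _ _ _ (HilbPolyLib.shortExact_tensor hTi hS)
          (HilbPolyLib.isCoh_tensor hTi hIc) (HilbPolyLib.isCoh_tensor hTi (DevissLib.isCoh_structureModule Z))
          (HilbPolyLib.isCoh_tensor hTi hR) q
        ⟨h.2.2.1, h.2.2.2⟩
      have hI' : hh k (CohB1.tensorMod (pb i (F a)) I) p ≤ (D + E) * (size a + 1) ^ e := by
        rw [add_mul]
        rcases p with _ | q
        · exact ((hses 0).2.trans (hO 0)).trans (Nat.le_add_right _ _)
        · have := (hses q).1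
          have := hO (q + 1)
          have := hEb q
          omega
      refine hs1.trans ?_
      rw [hs2]
      refine (Nat.add_le_add (hC p a) hI').trans (le_of_eq ?_)
      ring
  obtain ⟨C, hC⟩ := main t le_rfl
  exact ⟨C, fun p a => by rw [← HodgeIdxLib.hh_congr (HilbPolyLib.congrRight _ eG) p]; exact hC p a⟩

variable {X : Scheme.{u}} [X.Over (Spec (CommRingCat.of k))] [IsProper (X ↘ Spec (CommRingCat.of k))]

/-- The Lipschitz estimate for the twists on an integral projective scheme. -/
theorem exists_lipschitz [IsIntegral X] {A : X.Modules} (hA : CohB1.IsAmple A) {n : ℕ}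
    (hn : topologicalKrullDim X ≤ ((n + 1 : ℕ) : WithBot ℕ∞)) {r : ℕ} {L : Fin r → X.Modules}
    {F : (Fin r → ℤ) → X.Modules} (hF : IsTwistFam L F) :
    ∃ D : ℕ, ∀ (p : ℕ) (a b : Fin r → ℤ) (M : ℕ), size a ≤ M → size b ≤ M →
      |(hh k (F a) p : ℤ) - hh k (F b) p| ≤ (D : ℤ) * size (a - b) * ((M : ℤ) + 1) ^ n := by
  have IH : ∀ e' < n + 1, ∀ Q : X.Modules, Coh.IsCoh Q → topologicalKrullDim (CohB1.support Q) ≤ (e' : ℕ) →
      Bound k e' F Q := fun e' _ Q hQ hd => exists_bound_multi e' X A hA r L F hF Q hQ hd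
  choose D hDz hD using fun j => exists_step hA hn hF.inv IH (hF.inv_base j)
  set S := ∑ j, D j
  have hstep : ∀ (p : ℕ) (a : Fin r → ℤ) (j : Fin r),
      |(hh k (F (a + Pi.single j 1)) p : ℤ) - hh k (F a) p| ≤ (S : ℤ) * ((size a : ℤ) + 1) ^ n := by
    intro p a j
    obtain ⟨eS⟩ := hF.step a j
    rw [HodgeIdxLib.hh_congr eS p]
    refine le_of_mul_le_mul_left ?_ (show (0 : ℤ) < (size a : ℤ) + 1 by omega)
    refine (hD j p a).trans ?_
    rw [pow_succ', mul_left_comm]
    refine mul_le_mul_of_nonneg_left (mul_le_mul_of_nonneg_right ?_ (by positivity)) (by positivity)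
    exact_mod_cast Finset.single_le_sum (fun l _ => Nat.zero_le (D l)) (Finset.mem_univ j)
  refine ⟨S * 3 ^ n, fun p a b => ?_⟩
  suffices ∀ (N : ℕ) (a : Fin r → ℤ), size (a - b) = N → ∀ M : ℕ, size b + N ≤ M →
      |(hh k (F a) p : ℤ) - hh k (F b) p| ≤ (S : ℤ) * N * ((M : ℤ) + 1) ^ n by
    intro M hMa hMb
    have h := this _ a rfl (3 * M) (by
      have := size_add_le a (-b)
      have e : size (-b) = size b := by simp [size]
      rw [← sub_eq_add_neg] at this
      omega)
    refine h.trans ?_
    have h2 : ((3 * M : ℕ) : ℤ) + 1 ≤ 3 * ((M : ℤ) + 1) := by push_cast; omega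
    have h3 := pow_le_pow_left₀ (by positivity) h2 n
    rw [mul_pow] at h3
    push_cast at h3 ⊢
    calc _ ≤ (S : ℤ) * size (a - b) * (3 ^ n * ((M : ℤ) + 1) ^ n) := mul_le_mul_of_nonneg_left h3 (by positivity)
      _ = _ := by ring
  intro N
  induction N with
  | zero =>
    intro a ha M _
    obtain rfl : a = b := funext fun j => by
      have := Finset.single_le_sum (fun l _ => Nat.zero_le ((a - b) l).natAbs) (Finset.mem_univ j)
      rw [size] at ha
      simp only [Pi.sub_apply] at this ha ⊢; omega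
    simp
  | succ N ih =>
    intro a ha M hM
    obtain ⟨j, hj⟩ : ∃ j, (a - b) j ≠ 0 := by
      by_contra h
      push Not at h
      rw [size, Finset.sum_eq_zero fun l _ => by rw [h l]; rfl] at ha
      omega
    have hsz : ∀ t : ℤ, ((a - b) j + t).natAbs + 1 = ((a - b) j).natAbs →
        size (a + Pi.single j t - b) = N := by
      intro t ht
      rw [size, ← Finset.add_sum_erase _ _ (Finset.mem_univ j)] at ha ⊢
      rw [Finset.sum_congr rfl (g := fun l => ((a - b) l).natAbs) (fun l hl => by
        rw [Pi.sub_apply, Pi.add_apply, Pi.single_eq_of_ne (Finset.ne_of_mem_erase hl), add_zero, Pi.sub_apply]),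
        Pi.sub_apply, Pi.add_apply, Pi.single_eq_same, show a j + t - b j = (a - b) j + t by
          rw [Pi.sub_apply]; ring]
      omega
    obtain ⟨c, hc, c', hlink, hsmall⟩ : ∃ c : Fin r → ℤ, size (c - b) = N ∧ ∃ c' : Fin r → ℤ,
        (c' = c ∧ c + Pi.single j 1 = a ∨ c' = a ∧ a + Pi.single j 1 = c) ∧ size c' ≤ size b + (N + 1) := by
      have hsize : ∀ c : Fin r → ℤ, size c ≤ size b + size (c - b) := fun c => by
        simpa using size_add_le b (c - b)
      rcases lt_or_gt_of_ne hj with h | h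
      · exact ⟨a + Pi.single j 1, hsz 1 (by omega), a, .inr ⟨rfl, rfl⟩, ha ▸ hsize a⟩
      · refine ⟨a + Pi.single j (-1), hsz (-1) (by omega), _, .inl ⟨rfl, ?_⟩, ?_⟩
        · rw [add_assoc, ← Pi.single_add, neg_add_cancel, Pi.single_zero, add_zero]
        · have := hsize (a + Pi.single j (-1))
          rw [hsz (-1) (by omega)] at this
          omega
    have h1 := ih c hc M (by omega)
    have h2 : |(hh k (F a) p : ℤ) - hh k (F c) p| ≤ (S : ℤ) * ((M : ℤ) + 1) ^ n := by
      have hp : ((size c' : ℤ) + 1) ^ n ≤ ((M : ℤ) + 1) ^ n := pow_le_pow_left₀ (by positivity) (by omega) n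
      refine le_trans ?_ (mul_le_mul_of_nonneg_left hp (by positivity))
      rcases hlink with ⟨rfl, h⟩ | ⟨rfl, h⟩
      · have := hstep p c' j; rwa [h] at this
      · have := hstep p c' j; rw [h, abs_sub_comm] at this; exact this
    refine (abs_sub_le _ (hh k (F c) p : ℤ) _).trans ((add_le_add h2 h1).trans (le_of_eq ?_))
    push_cast; ring

end GrowthLib
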