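import Groth.Agent.GrowthLib.Main
import Groth.Agent.IntFunLib.NefApps
import Groth.Agent.HodgeIdxLib.Reduce

/-!
# Nef modules: bigness and the top self-intersection
-/

set_option autoImplicit false
set_option linter.style.haveILetI false
set_option maxHeartbeats 1000000
universe u

open CategoryTheory CategoryTheory.Limits AlgebraicGeometry TopologicalSpace Opposite
open HilbPolyLib DevissLib IntMultLib IntFunLib
open HodgeIdxLib (hh)
open KFlatLib (pb)

noncomputable section

namespace GrowthLib

variable {k : Type u} [Field k] {X : Scheme.{u}} [X.Over (Spec (CommRingCat.of k))]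
  [IsProper (X ↘ Spec (CommRingCat.of k))]

theorem N_replicate_inv {L L' : X.Modules} (hL : PicF.IsInvertible L) (hL' : PicF.IsInvertible L')
    (e : CohB1.tensorMod L L' ≅ Coh.structureModule X) {F : X.Modules} (hF : Coh.IsCoh F) :
    ∀ (n : ℕ) (l : List X.Modules), (∀ A ∈ l, PicF.IsInvertible A) →
      topologicalKrullDim (CohB1.support F) ≤ (n + l.length : ℕ) →
      N k (List.replicate n L' ++ l) F = (-1) ^ n * N k (List.replicate n L ++ l) F
  | 0, l, _, _ => by simp
  | n + 1, l, hl, hd => by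
    have hm : ∀ A ∈ List.replicate n L' ++ l, PicF.IsInvertible A := fun A hA => by
      rcases List.mem_append.mp hA with h | h
      · rw [List.eq_of_mem_replicate h]; exact hL'
      · exact hl A h
    have h1 := HodgeIdxLib.N_inv_head (k := k) hL hL' e hm hF (hd.trans (le_of_eq (by simp; ring)))
    have h2 := N_replicate_inv hL hL' e hF n (L :: l)
      (fun A hA => by rcases List.mem_cons.mp hA with rfl | h; exacts [hL, hl A h])
      (hd.trans (le_of_eq (by simp; ring)))
    rw [List.replicate_succ, List.cons_append, h1,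
      N_perm (show (L :: (List.replicate n L' ++ l)).Perm (List.replicate n L' ++ L :: l) from
        List.perm_middle.symm) F, h2,
      N_perm (show (List.replicate n L ++ L :: l).Perm (List.replicate (n + 1) L ++ l) by
        rw [List.replicate_succ]; exact List.perm_middle) F, pow_succ]
    ring

theorem intNum_inv_eq_N {L L' : X.Modules} (hL : PicF.IsInvertible L) (hL' : ClSub.IsInverseOf L' L)
    {n : ℕ} (hn : topologicalKrullDim X ≤ (n : ℕ)) {F : X.Modules} (hF : Coh.IsCoh F) {r : ℕ}
    (hd : topologicalKrullDim (CohB1.support F) ≤ (r : ℕ)) :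
    FGA.intNum k X n (fun _ : Fin r => L') F = N k (List.replicate r L) F := by
  obtain ⟨e⟩ := hL'
  have hL'i := IntMultLib.isInvertible_of_inverse hL (HilbPolyLib.swapIso L L' ≪≫ e)
  have h1 := N_ofFn (k := k) hn (fun _ : Fin r => L') F
  have h2 := N_replicate_inv (k := k) hL hL'i (HilbPolyLib.swapIso L L' ≪≫ e) hF r [] (by simp) (by simpa using hd)
  rw [List.append_nil, List.append_nil, ← List.ofFn_const, h1] at h2
  exact mul_left_cancel₀ (pow_ne_zero r (by norm_num)) h2

theorem intNum_inv_self {L L' : X.Modules} (hL : PicF.IsInvertible L) (hL' : ClSub.IsInverseOf L' L)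
    {n : ℕ} (hn : topologicalKrullDim X = (n : WithBot ℕ∞)) :
    FGA.intNum k X n (fun _ : Fin n => L') (Coh.structureModule X) =
      N k (List.replicate n L) (Coh.structureModule X) :=
  intNum_inv_eq_N hL hL' hn.le (DevissLib.isCoh_structureModule X) ((topologicalKrullDim_subspace_le _ _).trans hn.le)

theorem nef_of_curveTest {L : X.Modules} (hL : PicF.IsInvertible L)
    (h : ∀ (Y : Scheme.{u}) (i : Y ⟶ X) [IsClosedImmersion i], IsIntegral Y → topologicalKrullDim Y = 1 →
      0 ≤ Pic13.curveDeg k (i ≫ (X ↘ Spec (CommRingCat.of k))) ((Scheme.Modules.pullback i).obj L)) :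
    Nef k L := IntFunLib.nef_of_cd fun C hi hC => by
  rw [← IntFunLib.curveDeg_eq hL hC]
  refine h C.subscheme C.subschemeι hi ?_
  rw [← hC, ← C.range_subschemeι]
  exact IsHomeomorph.topologicalKrullDim_eq _ C.subschemeι.isEmbedding.toHomeomorph.isHomeomorph

variable [IsIntegral X]

theorem not_isZero_of_invertible {A : X.Modules} (hA : PicF.IsInvertible A) : ¬ IsZero A := fun hz => by
  have h1 := support_of_isZero (hz.of_iso (HilbPolyLib.swapIso A _ ≪≫ HilbPolyLib.unitLeft A))
  rw [HilbPolyLib.support_tensor hA, support_structureModule'] at h1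
  exact (h1.le (Set.mem_univ (genericPoint X)) : _)

/-- A big nef module has positive top self-intersection. -/
theorem N_pos_of_bigPow {L : X.Modules} (hL : PicF.IsInvertible L) (hnef : Nef k L) {n : ℕ}
    (hn : topologicalKrullDim X = (n : WithBot ℕ∞)) (h : BigPow L) :
    0 < N k (List.replicate n L) (Coh.structureModule X) := by
  haveI := CurvLib.isNoetherian k (X := X)
  obtain ⟨ν, A, φ, hν, hA, hφ⟩ := h
  suffices key : ∀ a b, a + b = n → 0 < J k L A (Coh.structureModule X) a b by
    simpa [J] using key n 0 (by omega)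
  intro a
  induction a with
  | zero =>
    intro b hb
    obtain rfl : b = n := by omega
    have hη : topologicalKrullDim (closure ({genericPoint X} : Set X)) = (b : WithBot ℕ∞) :=
      dim_closure_generic.trans hn
    rw [J, List.replicate_zero, List.nil_append,
      N_structure (fun B hB => by rw [List.eq_of_mem_replicate hB]; exact hA.1) (by simpa using hn)]
    exact N_ample_pos (k := k) hA hη
  | succ a ih =>
    intro b hb
    have hab := ih (b + 1) (by omega)
    have hl := inv_rep hL hA.1 a b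
    set l := List.replicate a L ++ List.replicate b A with hldef
    have hlen : l.length = a + b := by simp [l]
    have hn' : topologicalKrullDim X = ((l.length + 1 : ℕ) : WithBot ℕ∞) := by
      rw [hn, hlen]; exact_mod_cast (by omega : n = a + b + 1)
    have hLν := AmpleThLib.tensorPow_isInvertible hL ν
    have hφ0 : φ ≠ 0 := fun h0 => not_isZero_of_invertible hA.1
      ((IsZero.iff_id_eq_zero _).mpr (by rw [← cancel_mono φ, h0, comp_zero, comp_zero]))
    have hO := DevissLib.isCoh_structureModule X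
    have hAc := CurvLib.isCoh_of_isInvertible hA.1
    have hLc := CurvLib.isCoh_of_isInvertible hLν
    have hC : Coh.IsCoh (cokernel φ) := QCohLib.isCoh_cokernel φ hAc.1 hLc
    have hgen := CurvLib.generic_notMem_support_cokernel hA.1 hLν hφ0
    have h1 := N_add (k := k) hl (S := ShortComplex.mk φ (cokernel.π φ) (cokernel.condition φ))
      { exact := ShortComplex.exact_cokernel φ, mono_f := inferInstanceAs (Mono φ)
        epi_g := inferInstanceAs (Epi (cokernel.π φ)) } hAc hLc hC
    have hle : topologicalKrullDim (CohB1.support (Coh.structureModule X)) ≤ ((l.length + 1 : ℕ) : WithBot ℕ∞) :=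
      (topologicalKrullDim_subspace_le _ _).trans hn'.le
    have h2 := N_pow (k := k) hl hL hO hle ν
    have e1 : ∀ {B : X.Modules}, N k l (CohB1.tensorMod B (Coh.structureModule X)) = N k l B :=
      fun {B} => N_congr l (HilbPolyLib.swapIso _ _ ≪≫ HilbPolyLib.unitLeft B)
    have h3 : N k (A :: l) (Coh.structureModule X) = J k L A (Coh.structureModule X) a (b + 1) := by
      refine N_perm ?_ _
      rw [hldef, List.replicate_succ]
      exact List.perm_middle.symm
    have h4 : N k (L :: l) (Coh.structureModule X) = J k L A (Coh.structureModule X) (a + 1) b := by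
      refine N_perm ?_ _
      rw [hldef, List.replicate_succ, List.cons_append]
    have h5 : 0 ≤ N k l (cokernel φ) := by
      refine N_nonneg hl hC ?_ fun ξ _ hξ => ?_
      · refine dim_le_iff.mp (dim_lt_of_notMem (QCohLib.isClosed_support _ hC.2) (fun z _ => ?_) hgen (Y := Set.univ)
          (Set.subset_univ _) (dim_le_iff.mpr ((topologicalKrullDim_subspace_le _ _).trans hn'.le)))
        rw [(genericPoint_spec X).def]; exact trivial
      · exact hyp_all (k := k) (a + b) X L A hL hnef hA a b rfl ξ (by rw [hξ, hlen])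
    rw [N] at h2 h3
    rw [e1] at h2 h3
    rw [h4] at h2
    change N k l (CohB1.tensorPow L ν) = N k l A + N k l (cokernel φ) at h1
    by_contra hneg
    push Not at hneg
    have hν' : (0 : ℤ) < ν := by exact_mod_cast hν
    nlinarith

/-- A positive rational number below which the quotient stays positive. -/
theorem exists_small {f : ℝ → ℝ} (hf : Continuous f) (h0 : 0 < f 0) : ∃ q : ℕ, 0 < q ∧ 0 < f (((1 : ℕ) : ℝ) / q) := by
  obtain ⟨ε, hε, h⟩ := Metric.eventually_nhds_iff.mp (hf.continuousAt.eventually_const_lt h0)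
  obtain ⟨q, hq⟩ := exists_nat_gt (1 / ε)
  have hq0 : (0 : ℝ) < q := lt_trans (by positivity) hq
  refine ⟨q, by exact_mod_cast hq0, h ?_⟩
  rw [Nat.cast_one, Real.dist_eq, sub_zero, abs_of_pos (by positivity)]
  exact (one_div_lt hε hq0).mp hq

/-- A nef module with positive top self-intersection is big. -/
theorem grows_of_nef_pos {H : X.Modules} (hH : CohB1.IsAmple H) {L : X.Modules} (hL : PicF.IsInvertible L)
    (hnef : Nef k L) {n : ℕ} (hn : topologicalKrullDim X = (n : WithBot ℕ∞))
    (hpos : 0 < N k (List.replicate n L) (Coh.structureModule X)) : Grows k L n := by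
  haveI := CurvLib.isNoetherian k (X := X)
  letI := LMLib.law X
  have hO := DevissLib.isCoh_structureModule X
  have hdO : topologicalKrullDim (CohB1.support (Coh.structureModule X)) ≤ (n : ℕ) :=
    (topologicalKrullDim_subspace_le _ _).trans hn.le
  rcases Nat.eq_zero_or_pos n with rfl | hn0
  · refine ⟨1, 1, Nat.one_pos, Nat.one_pos, fun μ _ => ?_⟩
    have hLμ := AmpleThLib.tensorPow_isInvertible hL (1 * μ)
    have h1 := N_low (k := k) (l := [CohB1.tensorPow L (1 * μ)]) (by simpa using hLμ) hO
      (hdO.trans_lt (by exact_mod_cast Nat.one_pos))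
    rw [N, N, N, sub_eq_zero, CurvLib.euler_congr (HilbPolyLib.swapIso _ _ ≪≫ HilbPolyLib.unitLeft _),
      CurvLib.euler_eq_h0 (k := k) (CurvLib.isCoh_of_isInvertible hLμ)
        ((topologicalKrullDim_subspace_le _ _).trans (by simpa using hn.le))] at h1
    rw [List.replicate_zero, N, ← h1] at hpos
    rw [pow_zero, one_mul]
    exact_mod_cast hpos
  obtain ⟨e, rfl⟩ : ∃ e, n = e + 1 := ⟨n - 1, by omega⟩
  haveI : X.IsSeparated := ⟨by
    rw [show Limits.terminal.from X = (X ↘ Spec (CommRingCat.of k)) ≫ Limits.terminal.from _ from Subsingleton.elim _ _]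
    infer_instance⟩
  obtain ⟨n₁, -, hn₁⟩ := MiscFlat6.eventually_ample_globallyGenerated hH (CurvLib.isInvertible_structureModule (X := X))
  obtain ⟨n₂, hn₂⟩ := MiscFlat6.exists_gen_twist hH (CurvLib.isInvertible_structureModule (X := X))
  obtain ⟨G, hG, hGA, hGG, hgen⟩ : ∃ (G : X.Modules) (hG : PicF.IsInvertible G), CohB1.IsAmple G ∧
      Curv2.IsGloballyGenerated G ∧ ∀ x : X, ∃ σ : Γ(G, ⊤), x ∈ TwistLib.genSet hG σ :=
    ⟨_, _, (hn₁ (max n₁ n₂) (le_max_left _ _)).1, (hn₁ _ (le_max_left _ _)).2, hn₂ _ (le_max_right _ _)⟩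
  obtain ⟨s, hs⟩ := NumRLib.exists_mono_of_globallyGenerated hG hGG
  have hs0 := NumRLib.ne_zero_of_mono s
  obtain ⟨hQ, hQd⟩ := dim_cok_le k hn hG hs0
  have hQd' : topologicalKrullDim (CohB1.support (cokernel s)) ≤ (e : ℕ) := dim_le_iff.mp hQd
  -- the choice of `q`
  let j : ℕ → ℕ → ℝ := fun a b => (J k L G (Coh.structureModule X) a b : ℝ)
  have hf : Continuous fun t : ℝ => Pf j (e + 1) 0 0 t - (e + 1 : ℕ) * t * Pf j e 0 1 t :=
    (continuous_Pf j _ _ _).sub ((continuous_const.mul continuous_id).mul (continuous_Pf j _ _ _))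
  obtain ⟨q, hq, hfq⟩ := exists_small hf (by
    simp only [Pf_zero, mul_zero, zero_mul, sub_zero, Nat.zero_add]
    simp only [j, J, List.replicate_zero, List.append_nil]
    exact_mod_cast hpos)
  have hF := isAmple_nef_add (k := k) hL hnef hGA (p := 1) hq Nat.one_pos
  set F := CohB1.tensorMod (CohB1.tensorPow L q) (CohB1.tensorPow G 1) with hFdef
  have x1 := N_expand (k := k) hL hG (p := 1) hq hO hdO (e + 1) 0 0 (by omega)
  have x2 := N_expand (k := k) hL hG (p := 1) hq hO hdO e 0 1 (by omega)
  simp only [List.replicate_zero, List.append_nil, List.nil_append, ← hFdef] at x1 x2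
  rw [show List.replicate 1 G = [G] from rfl, N_perm (List.perm_append_singleton G (List.replicate e F))] at x2
  have hFl : ∀ A ∈ List.replicate e F, PicF.IsInvertible A := fun A hA => by
    rw [List.eq_of_mem_replicate hA]; exact hF.1
  have x3 : N k (G :: List.replicate e F) (Coh.structureModule X) = N k (List.replicate e F) (cokernel s) := by
    have h := N_add (k := k) hFl (HodgeIdxLib.cokSeq_shortExact hG hs0) hO (CurvLib.isCoh_of_isInvertible hG) hQ
    change N k (List.replicate e F) G = N k (List.replicate e F) (Coh.structureModule X) +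
      N k (List.replicate e F) (cokernel s) at h
    rw [N, N_congr _ (HilbPolyLib.swapIso G _ ≪≫ HilbPolyLib.unitLeft G), h]
    ring
  rw [x3] at x2
  obtain ⟨PO, hPO⟩ := HilbPolyLib.exists_isHilbPoly' (k := k) hF.1 hO
  obtain ⟨PQ, hPQ⟩ := HilbPolyLib.exists_isHilbPoly' (k := k) hF.1 hQ
  have dO := HilbPolyLib.natDegree_le hF hO hPO hdO
  have dQ := HilbPolyLib.natDegree_le hF hQ hPQ hQd'
  have cO := N_replicate_eq_coeff (k := k) hPO dO
  have cQ := N_replicate_eq_coeff (k := k) hPQ dQ
  set R := PO - Polynomial.X * PQ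
  have dR : R.natDegree ≤ e + 1 := (Polynomial.natDegree_sub_le _ _).trans
    (max_le dO (Polynomial.natDegree_mul_le.trans (by rw [Polynomial.natDegree_X]; omega)))
  have cR : 0 < PO.coeff (e + 1) - PQ.coeff e := by
    set t : ℝ := ((1 : ℕ) : ℝ) / q
    have hcast : ((0 : ℚ) : ℝ) < (((e + 1).factorial : ℚ) * (PO.coeff (e + 1) - PQ.coeff e) : ℚ) := by
      have e1 : (((e + 1).factorial : ℚ) * (PO.coeff (e + 1) - PQ.coeff e)) =
          (N k (List.replicate (e + 1) F) (Coh.structureModule X) : ℚ) -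
            (e + 1 : ℕ) * (N k (List.replicate e F) (cokernel s) : ℚ) := by
        rw [cO, cQ, Nat.factorial_succ]; push_cast; ring
      rw [e1]
      push_cast
      rw [x1, x2]
      have hq' : (0 : ℝ) < q := by exact_mod_cast hq
      have : (q : ℝ) ^ (e + 1) * Pf j (e + 1) 0 0 t - ((e : ℝ) + 1) * ((q : ℝ) ^ e * Pf j e 0 1 t) =
          (q : ℝ) ^ (e + 1) * (Pf j (e + 1) 0 0 t - ((e : ℝ) + 1) * t * Pf j e 0 1 t) := by
        simp only [t, Nat.cast_one]; field_simp; ring
      rw [this]
      refine mul_pos (pow_pos hq' _) ?_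
      push_cast at hfq
      simpa [t] using hfq
    have h' : (0 : ℚ) < ((e + 1).factorial : ℚ) * (PO.coeff (e + 1) - PQ.coeff e) := by exact_mod_cast hcast
    exact pos_of_mul_pos_right h' (by positivity)
  obtain ⟨N₀, hN₀⟩ := eventually_ge_half dR (c := PO.coeff (e + 1) - PQ.coeff e)
    (by simp [R, Polynomial.coeff_sub, Polynomial.coeff_X_mul]) cR
  obtain ⟨N₁, hN₁⟩ := HilbPolyLib.exists_eval_eq_finrank hF hO hPO
  obtain ⟨N₂, hN₂⟩ := exists_twist_le (k := k) hF hG hgen hQ
  -- the estimate
  have key : ∀ m, max N₀ (max N₁ N₂) ≤ m → (R.eval (m : ℚ)) ≤ (hh k (CohB1.tensorPow L (q * m)) 0 : ℚ) := by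
    intro m hm
    have hLqm := AmpleThLib.tensorPow_isInvertible hL (q * m)
    have hGi := fun i => AmpleThLib.tensorPow_isInvertible hG i
    let T : ℕ → X.Modules := fun i => CohB1.tensorMod (CohB1.tensorPow L (q * m)) (CohB1.tensorPow G i)
    have hT : ∀ i, PicF.IsInvertible (T i) := fun i => HilbPolyLib.isInvertible_tensor hLqm (hGi i)
    have hiso : ∀ i j, i + j = m → Nonempty (CohB1.tensorMod (T i) (CohB1.tensorPow G j) ≅ CohB1.tensorPow F m) := by
      intro i j hij
      refine (PicGrp.cls_eq_cls_iff (HilbPolyLib.isInvertible_tensor (hT i) (hGi j))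
        (AmpleThLib.tensorPow_isInvertible hF.1 m)).mp ?_
      rw [← NumRLib.cls_mul (hT i) (hGi j), ← NumRLib.cls_mul hLqm (hGi i), cls_tpow hL, cls_tpow hG, cls_tpow hG,
        cls_tpow hF.1, ← NumRLib.cls_mul (AmpleThLib.tensorPow_isInvertible hL q) (hGi 1), cls_tpow hL, cls_tpow hG,
        mul_pow, ← pow_mul, ← pow_mul, mul_assoc, ← pow_add, hij, one_mul]
    set E := Curv2.euler k X (CohB1.tensorMod (CohB1.tensorPow F m) (cokernel s))
    have step : ∀ i, i ≤ m → (hh k (T i) 0 : ℤ) ≤ hh k (CohB1.tensorPow L (q * m)) 0 + (i : ℤ) * E := by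
      intro i
      induction i with
      | zero =>
        intro _
        rw [HodgeIdxLib.hh_congr (k := k) (show T 0 ≅ CohB1.tensorPow L (q * m) from
          HilbPolyLib.swapIso _ _ ≪≫ HilbPolyLib.unitLeft _) 0]
        simp
      | succ i ih =>
        intro hi
        have h1 := HodgeIdxLib.ses_cok (k := k) hG (hT i) hs0 hQ 0
        rw [HodgeIdxLib.hh_congr (k := k) (show CohB1.tensorMod (T i) G ≅ T (i + 1) from
          HilbPolyLib.assocIso _ _ _) 0] at h1
        have h2 := hN₂ m (le_trans (le_max_right _ _) (le_of_max_le_right hm)) (T i) (m - i) (hT i)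
          (hiso i (m - i) (by omega))
        have h3 := ih (by omega)
        push_cast
        rw [add_mul, one_mul]
        omega
    have h4 := step m le_rfl
    obtain ⟨f⟩ := hiso m 0 rfl
    have h5 : (hh k (CohB1.tensorPow F m) 0 : ℚ) = PO.eval (m : ℚ) := by
      rw [hN₁ m (le_trans (le_max_left _ _) (le_of_max_le_right hm)),
        ← HodgeIdxLib.hh_congr (k := k) (HilbPolyLib.swapIso _ _ ≪≫ HilbPolyLib.unitLeft _) 0]
      rfl
    have h6 : (E : ℚ) = PQ.eval (m : ℚ) := by rw [← hPQ m, euler_twist]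
    rw [HodgeIdxLib.hh_congr (k := k) (show CohB1.tensorPow F m ≅ T m from
      f.symm ≪≫ HilbPolyLib.swapIso _ _ ≪≫ HilbPolyLib.unitLeft _) 0] at h5
    have h7 : ((hh k (T m) 0 : ℤ) : ℚ) ≤ ((hh k (CohB1.tensorPow L (q * m)) 0 : ℤ) + (m : ℤ) * E : ℤ) := by
      exact_mod_cast h4
    push_cast at h7
    simp only [R, Polynomial.eval_sub, Polynomial.eval_mul, Polynomial.eval_X]
    rw [← h5, ← h6]
    linarith
  -- growth
  set M₀ := max N₀ (max N₁ N₂) + 1 with hM₀
  refine ⟨q * M₀, ⌈2 / (PO.coeff (e + 1) - PQ.coeff e)⌉₊ + 1, Nat.mul_pos hq (Nat.succ_pos _), Nat.succ_pos _,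
    fun μ hμ => ?_⟩
  have hle : max N₀ (max N₁ N₂) ≤ M₀ * μ := le_trans (Nat.le_add_right _ 1) (Nat.le_mul_of_pos_right _ hμ)
  have h1 := (hN₀ _ (le_of_max_le_left hle)).trans (key _ hle)
  rw [← mul_assoc] at h1
  set c := PO.coeff (e + 1) - PQ.coeff e
  have h2 : (μ : ℚ) ^ (e + 1) ≤ ((M₀ * μ : ℕ) : ℚ) ^ (e + 1) :=
    pow_le_pow_left₀ (by positivity) (by exact_mod_cast Nat.le_mul_of_pos_left μ (Nat.succ_pos _)) _
  set fh := hh k (CohB1.tensorPow L (q * M₀ * μ)) 0
  have h3 : (μ : ℚ) ^ (e + 1) ≤ (2 / c) * (fh : ℚ) := by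
    rw [div_mul_eq_mul_div, le_div_iff₀ cR]
    nlinarith [mul_le_mul_of_nonneg_left h2 cR.le]
  have h4 : (μ : ℚ) ^ (e + 1) ≤ (((⌈2 / c⌉₊ + 1) * fh : ℕ) : ℚ) := by
    refine h3.trans ?_
    push_cast
    exact mul_le_mul_of_nonneg_right (le_trans (Nat.le_ceil _) (le_add_of_nonneg_right zero_le_one)) (by positivity)
  exact_mod_cast h4

end GrowthLib
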