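import Groth.Agent.GrowthLib.BaseLocus
import Groth.Agent.HilbPolyLib.Pos
import Groth.Agent.CurvLib.Euler

/-!
# Cohomology of negative twists below the dimension of the support
-/

set_option autoImplicit false
set_option linter.style.haveILetI false
set_option maxHeartbeats 1000000
universe u

open CategoryTheory CategoryTheory.Limits AlgebraicGeometry TopologicalSpace Opposite
open HilbPolyLib DevissLib IntMultLib IntFunLib
open HodgeIdxLib (hh)

noncomputable section

namespace GrowthLib

variable {X : Scheme.{u}}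

/-- `M^(m+1) ⊗ (L ⊗ C) ≅ M^m ⊗ C` for an inverse `M` of `L`. -/
def shiftIso {L M : X.Modules} (e : CohB1.tensorMod L M ≅ Coh.structureModule X) (m : ℕ) (C : X.Modules) :
    CohB1.tensorMod (CohB1.tensorPow M (m + 1)) (CohB1.tensorMod L C) ≅ CohB1.tensorMod (CohB1.tensorPow M m) C :=
  (HilbPolyLib.assocIso (CohB1.tensorPow M (m + 1)) L C).symm ≪≫
    HilbPolyLib.congrLeft (HilbPolyLib.assocIso (CohB1.tensorPow M m) M L ≪≫
      HilbPolyLib.congrRight _ (HilbPolyLib.swapIso M L ≪≫ e) ≪≫ HilbPolyLib.swapIso _ _ ≪≫ HilbPolyLib.unitLeft _) C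

variable {k : Type u} [Field k] [X.Over (Spec (CommRingCat.of k))] [IsProper (X ↘ Spec (CommRingCat.of k))]

/-- `h^p(M^m ⊗ Q) = O(m^{e-1})` for `p < e`, `dim Supp Q ≤ e`, `M` inverse to a module without base points. -/
theorem exists_bound_neg {A : X.Modules} (hA : CohB1.IsAmple A) {L M : X.Modules} (hL : PicF.IsInvertible L)
    (hM : PicF.IsInvertible M) (eLM : CohB1.tensorMod L M ≅ Coh.structureModule X)
    (hbs : ∀ x : X, ∃ s : Coh.structureModule X ⟶ L, x ∈ CohB1.genLocus L s) :
    ∀ (e : ℕ) (Q : X.Modules), Coh.IsCoh Q → topologicalKrullDim (CohB1.support Q) ≤ (e : ℕ) →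
      ∃ C : ℕ, ∀ p, p < e → ∀ m : ℕ, hh k (CohB1.tensorMod (CohB1.tensorPow M m) Q) p ≤ C * (m + 1) ^ (e - 1) := by
  haveI := CurvLib.isNoetherian k (X := X)
  intro e
  induction e with
  | zero => exact fun Q _ _ => ⟨0, fun p hp => absurd hp (Nat.not_lt_zero p)⟩
  | succ e IH =>
    intro Q hQ hQe
    have hsmallQ : ∀ N : X.Modules, Coh.IsCoh N → topologicalKrullDim (CohB1.support N) ≤ (e : ℕ) →
        ∃ C : ℕ, ∀ p m : ℕ, hh k (CohB1.tensorMod (CohB1.tensorPow M m) N) p ≤ C * (m + 1) ^ e := fun N hN hNe => by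
      obtain ⟨C, hC⟩ := exists_bound_pow (k := k) hA hM hN hNe
      exact ⟨C, fun p m => (le_of_eq (HodgeIdxLib.hh_congr (HilbPolyLib.swapIso _ _) p)).trans (hC p m)⟩
    obtain ⟨t, G, φ, hG0, ⟨eG⟩, hGc, hstep⟩ := DevissLib.exists_filtration hQ
    have hmono : ∀ j ≤ t, ∃ ψ : G j ⟶ Q, Mono ψ := by
      intro j hj
      induction h : t - j generalizing j with
      | zero =>
        obtain rfl : j = t := by omega
        exact ⟨eG.hom, inferInstance⟩
      | succ s ih =>
        obtain ⟨ψ, hψ⟩ := ih (j + 1) (by omega) (by omega)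
        haveI := (hstep j (by omega)).1
        exact ⟨φ j ≫ ψ, inferInstance⟩
    have main : ∀ j ≤ t, ∃ C : ℕ, ∀ p, p < e + 1 → ∀ m : ℕ,
        hh k (CohB1.tensorMod (CohB1.tensorPow M m) (G j)) p ≤ C * (m + 1) ^ e := by
      intro j
      induction j with
      | zero =>
        intro _
        refine ⟨0, fun p _ m => ?_⟩
        rw [HodgeIdxLib.hh_eq_zero (isZero_of_support_empty ((HilbPolyLib.support_tensor
          (AmpleThLib.tensorPow_isInvertible hM m) _).trans (support_of_isZero hG0))) p]
        simp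
      | succ j ih =>
        intro hj
        obtain ⟨B, hB⟩ := ih (by omega)
        obtain ⟨hm, Z, i, hi, hZ, I, ι, hι, hI, hI0, ⟨eI⟩⟩ := hstep j (by omega)
        haveI := hm
        haveI := hι
        have hc : Coh.IsCoh (cokernel (φ j)) :=
          QCohLib.isCoh_cokernel (φ j) (hGc j (by omega)).1 (hGc (j + 1) hj)
        suffices hC : ∃ C : ℕ, ∀ p, p < e + 1 → ∀ m : ℕ,
            hh k (CohB1.tensorMod (CohB1.tensorPow M m) (cokernel (φ j))) p ≤ C * (m + 1) ^ e by
          obtain ⟨C, hC⟩ := hC
          refine ⟨B + C, fun p hp m => ?_⟩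
          have hs1 := HodgeIdxLib.ses_left (k := k) (AmpleThLib.tensorPow_isInvertible hM m)
            (S := ShortComplex.mk (φ j) (cokernel.π (φ j)) (cokernel.condition _))
            { exact := ShortComplex.exact_cokernel _, mono_f := inferInstanceAs (Mono (φ j))
              epi_g := inferInstanceAs (Epi (cokernel.π _)) } (hGc j (by omega)) (hGc (j + 1) hj) hc p
          exact (hs1.trans (Nat.add_le_add (hB p hp m) (hC p hp m))).trans (le_of_eq (by ring))
        set C := cokernel (φ j)
        by_cases hsmallC : topologicalKrullDim (CohB1.support C) ≤ (e : ℕ)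
        · obtain ⟨D, hD⟩ := hsmallQ C hc hsmallC
          exact ⟨D, fun p _ m => hD p m⟩
        let η := i (genericPoint Z)
        have hsuppC : CohB1.support C ⊆ closure ({η} : Set X) := by
          rw [DevissLib.support_iso eI]
          refine (support_push_subset' i i.isClosedEmbedding.isClosed_range I).trans ?_
          exact (DevissExt.closure_generic i).symm.le
        have hηQ : closure ({η} : Set X) ⊆ CohB1.support Q := by
          obtain ⟨ψ, hψ⟩ := hmono (j + 1) hj
          refine closure_minimal (Set.singleton_subset_iff.mpr ?_) (QCohLib.isClosed_support Q hQ.2)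
          refine support_mono ψ (support_epi (cokernel.π (φ j)) ?_)
          rw [DevissLib.support_iso eI]
          exact DevissExt.mem_support_push i ι hI0
        obtain ⟨s, hs⟩ := hbs η
        let μ := (mulNat s).app C
        have hLC : Coh.IsCoh (CohB1.tensorMod L C) := HilbPolyLib.isCoh_tensor hL hc
        haveI := isIso_St_mulNat s hs C
        have hb : Function.Bijective ((St η).map μ).hom := ConcreteCategory.bijective_of_isIso _
        haveI : Mono ((Coh.push i).map ι) :=
          haveI : PreservesLimitsOfSize.{0, 0} (Coh.push i) :=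
            (Scheme.Modules.pullbackPushforwardAdjunction i).rightAdjoint_preservesLimits
          inferInstance
        haveI : Mono μ := Preadditive.mono_of_kernel_zero ((DevissLib.isZero_of_mono_push i
          (kernel.ι μ ≫ eI.hom ≫ (Coh.push i).map ι) (DevissLib.notMem_support_kernel μ η hb.1)).eq_zero_of_src _)
        have hR := QCohLib.isCoh_cokernel μ hc.1 hLC
        have hRd : topologicalKrullDim (CohB1.support (cokernel μ)) ≤ (e : ℕ) := by
          refine dim_le_iff.mp (dim_lt_of_notMem (QCohLib.isClosed_support _ hR.2) ((support_epi (cokernel.π μ)).trans ?_)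
            (DevissLib.notMem_support_cokernel μ η hb.2) (Y := closure {η}) subset_rfl
            (dim_le_iff.mpr ((dim_mono hηQ).trans hQe)))
          rw [show CohB1.support ((CurvLib.tensorLeft' L).obj C) = CohB1.support C from
            HilbPolyLib.support_tensor hL _]
          exact hsuppC
        obtain ⟨CR, hCR⟩ := IH _ hR hRd
        obtain ⟨T, hT⟩ : ∃ T, ∀ p, hh k (CohB1.tensorMod (CohB1.tensorPow M 0) C) p ≤ T := by
          refine ⟨tot k (e + 1) (CohB1.tensorMod (CohB1.tensorPow M 0) C), fun p => hh_le_tot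
            (HilbPolyLib.isCoh_tensor (AmpleThLib.tensorPow_isInvertible hM 0) hc) ?_ p⟩
          rw [HilbPolyLib.support_tensor (AmpleThLib.tensorPow_isInvertible hM 0)]
          exact (dim_mono (hsuppC.trans hηQ)).trans hQe
        have hS : (ShortComplex.mk μ (cokernel.π μ) (cokernel.condition μ)).ShortExact :=
          { exact := ShortComplex.exact_cokernel μ, mono_f := inferInstanceAs (Mono μ)
            epi_g := inferInstanceAs (Epi (cokernel.π μ)) }
        refine ⟨T + CR * 2 ^ (e - 1), fun p hp m => ?_⟩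
        induction m with
        | zero => exact ((hT p).trans (Nat.le_add_right _ _)).trans (Nat.le_mul_of_pos_right _ (by positivity))
        | succ m ihm =>
          have hm' := AmpleThLib.tensorPow_isInvertible hM (m + 1)
          have hsh := fun q => HodgeIdxLib.hh_congr (k := k) (shiftIso eLM m C) q
          have hses := fun q => HodgeIdxLib.ses_mk (k := k) _ _ _ (HilbPolyLib.shortExact_tensor hm' hS)
            (HilbPolyLib.isCoh_tensor hm' hc) (HilbPolyLib.isCoh_tensor hm' hLC) (HilbPolyLib.isCoh_tensor hm' hR) q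
          rcases p with _ | q
          · refine ((hses 0).2.2.2.trans ((hsh 0).le.trans ihm)).trans ?_
            exact Nat.mul_le_mul_left _ (Nat.pow_le_pow_left (Nat.le_succ _) _)
          · obtain ⟨f', rfl⟩ : ∃ f', e = f' + 1 := ⟨e - 1, by omega⟩
            refine ((hses q).2.2.1.trans (Nat.add_le_add (hCR q (by omega) (m + 1)) ((hsh (q + 1)).le.trans ihm))).trans ?_
            rw [Nat.add_sub_cancel]
            have hp1 : (m + 1) ^ f' * (m + 1) + (m + 1) ^ f' ≤ (m + 2) ^ f' * (m + 2) := by
              calc (m + 1) ^ f' * (m + 1) + (m + 1) ^ f' = (m + 1) ^ f' * (m + 2) := by ring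
                _ ≤ _ := Nat.mul_le_mul_right _ (Nat.pow_le_pow_left (by omega) _)
            have h2 : (m + 1 + 1) ^ f' ≤ 2 ^ f' * (m + 1) ^ f' := by
              rw [← mul_pow]; exact Nat.pow_le_pow_left (by omega) _
            calc CR * (m + 1 + 1) ^ f' + (T + CR * 2 ^ f') * (m + 1) ^ (f' + 1)
                ≤ (T + CR * 2 ^ f') * (m + 1) ^ f' + (T + CR * 2 ^ f') * (m + 1) ^ (f' + 1) := by
                  refine Nat.add_le_add_right ((Nat.mul_le_mul_left _ h2).trans ?_) _
                  rw [← mul_assoc]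
                  exact Nat.mul_le_mul_right _ (Nat.le_add_left _ _)
              _ = (T + CR * 2 ^ f') * ((m + 1) ^ f' * (m + 1) + (m + 1) ^ f') := by ring
              _ ≤ (T + CR * 2 ^ f') * ((m + 2) ^ f' * (m + 2)) := Nat.mul_le_mul_left _ hp1
              _ = _ := by rw [pow_succ]
    obtain ⟨C, hC⟩ := main t le_rfl
    exact ⟨C, fun p hp m => by
      rw [← HodgeIdxLib.hh_congr (HilbPolyLib.congrRight _ eG) p, Nat.add_sub_cancel]
      exact hC p hp m⟩

/-- A polynomial dominated by `C (m+1)^(a-1)` has no coefficient in degree `a`. -/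
theorem coeff_eq_zero_of_bound {a : ℕ} (ha : 0 < a) {P : Polynomial ℚ} (hP : P.natDegree ≤ a) {C : ℕ}
    (h : ∀ m : ℕ, |P.eval (-(m : ℚ))| ≤ C * ((m : ℚ) + 1) ^ (a - 1)) : P.coeff a = 0 := by
  let R : Polynomial ℚ := P.comp (-Polynomial.X)
  have hR : R.natDegree ≤ a := by
    refine Polynomial.natDegree_comp_le.trans ?_
    simpa [Polynomial.natDegree_neg] using hP
  let S : Polynomial ℚ := Polynomial.C (C : ℚ) * (Polynomial.X + 1) ^ (a - 1)
  have hS : S.natDegree < a := by
    refine lt_of_le_of_lt (Polynomial.natDegree_C_mul_le _ _) ?_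
    refine lt_of_le_of_lt (Polynomial.natDegree_pow_le.trans (Nat.mul_le_mul_left _ (?_ : _ ≤ 1))) (by omega)
    exact (Polynomial.natDegree_add_le _ _).trans (by simp)
  have hSa : S.coeff a = 0 := Polynomial.coeff_eq_zero_of_natDegree_lt hS
  have e : ∀ m : ℕ, R.eval (m : ℚ) = P.eval (-(m : ℚ)) ∧ S.eval (m : ℚ) = C * ((m : ℚ) + 1) ^ (a - 1) :=
    fun m => by simp [R, S]
  have h1 := HilbPolyLib.coeff_nonneg_of_eventually (R := S - R)
    ((Polynomial.natDegree_sub_le _ _).trans (max_le hS.le hR)) (N := 0) fun m _ => by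
      rw [Polynomial.eval_sub, (e m).1, (e m).2]; linarith [(abs_le.mp (h m)).2]
  have h2 := HilbPolyLib.coeff_nonneg_of_eventually (R := S + R)
    ((Polynomial.natDegree_add_le _ _).trans (max_le hS.le hR)) (N := 0) fun m _ => by
      rw [Polynomial.eval_add, (e m).1, (e m).2]; linarith [(abs_le.mp (h m)).1]
  rw [Polynomial.coeff_sub, hSa] at h1
  rw [Polynomial.coeff_add, hSa] at h2
  have h3 : R.coeff a = 0 := by linarith
  have h4 : R.coeff a = (-1) ^ a * P.coeff a := by
    have : R = P.comp (Polynomial.C (-1 : ℚ) * Polynomial.X) := by simp [R]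
    rw [this, Polynomial.comp_C_mul_X_coeff]
    ring
  rw [h4] at h3
  exact (mul_eq_zero.mp h3).resolve_left (pow_ne_zero _ (by norm_num))

end GrowthLib

end
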