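import Groth.Agent.GrowthLib.Nef

/-!
# Numerical dimension bounds the growth of sections
-/

set_option autoImplicit false
set_option linter.style.haveILetI false
set_option maxHeartbeats 1000000
universe u

open CategoryTheory CategoryTheory.Limits AlgebraicGeometry TopologicalSpace Opposite
open HilbPolyLib DevissLib IntMultLib IntFunLib
open HodgeIdxLib (hh)
open KFlatLib (pb)

noncomputable section

namespace GrowthLib

variable {k : Type u} [Field k] {X : Scheme.{u}} [X.Over (Spec (CommRingCat.of k))]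
  [IsProper (X ↘ Spec (CommRingCat.of k))]

omit [IsProper (X ↘ Spec (CommRingCat.of k))] in
variable (k) in
/-- The intersection numbers `L^m · V` vanish. -/
def VanishIn (L : X.Modules) (m : ℕ) : Prop :=
  ∀ ξ : X, topologicalKrullDim (closure ({ξ} : Set X)) = (m : WithBot ℕ∞) →
    N k (List.replicate m L) (Fpt ξ) = 0

theorem N_eq_zero_of_points {l : List X.Modules} (hl : ∀ A ∈ l, PicF.IsInvertible A) {F : X.Modules}
    (hF : Coh.IsCoh F) (hd : topologicalKrullDim (CohB1.support F) ≤ (l.length : ℕ))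
    (h : ∀ ξ : X, topologicalKrullDim (closure ({ξ} : Set X)) = (l.length : WithBot ℕ∞) → N k l (Fpt ξ) = 0) :
    N k l F = 0 := by
  rcases (CohB1.support F).eq_empty_or_nonempty with he | hne
  · refine N_low hl hF ?_
    rw [he]
    haveI : IsEmpty (IrreducibleCloseds (∅ : Set X)) := ⟨fun c => by
      obtain ⟨x, -⟩ := c.isIrreducible.nonempty
      exact x.2⟩
    exact (Order.krullDim_eq_bot).trans_lt (WithBot.bot_lt_coe _)
  obtain ⟨T, hT, -, hsum⟩ := N_sum (k := k) hl hF hne hd
  rw [hsum]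
  exact Finset.sum_eq_zero fun ξ hξ => by rw [h ξ ((hT ξ).mp hξ).2, smul_zero]

/-- One more factor keeps a vanishing number zero. -/
theorem N_cons_eq_zero [IsIntegral X] {H : X.Modules} (hH : CohB1.IsAmple H) {A : X.Modules}
    (hA : PicF.IsInvertible A) {l : List X.Modules} (hl : ∀ B ∈ l, PicF.IsInvertible B)
    (hn : topologicalKrullDim X = ((l.length + 1 : ℕ) : WithBot ℕ∞))
    (h : ∀ ξ : X, topologicalKrullDim (closure ({ξ} : Set X)) = (l.length : WithBot ℕ∞) → N k l (Fpt ξ) = 0) :
    N k (A :: l) (Coh.structureModule X) = 0 := by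
  haveI := CurvLib.isNoetherian k (X := X)
  haveI : X.IsSeparated := ⟨by
    rw [show Limits.terminal.from X = (X ↘ Spec (CommRingCat.of k)) ≫ Limits.terminal.from _ from Subsingleton.elim _ _]
    infer_instance⟩
  have hO := DevissLib.isCoh_structureModule X
  have hle : topologicalKrullDim (CohB1.support (Coh.structureModule X)) ≤ ((l.length + 1 : ℕ) : WithBot ℕ∞) :=
    (topologicalKrullDim_subspace_le _ _).trans hn.le
  have key : ∀ {M : X.Modules}, PicF.IsInvertible M → ∀ (σ : Coh.structureModule X ⟶ M), σ ≠ 0 →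
      N k (M :: l) (Coh.structureModule X) = 0 := by
    intro M hM σ hσ
    obtain ⟨hQ, hQd⟩ := dim_cok_le k hn hM hσ
    have h1 := N_add (k := k) hl (HodgeIdxLib.cokSeq_shortExact hM hσ) hO (CurvLib.isCoh_of_isInvertible hM) hQ
    change N k l M = N k l (Coh.structureModule X) + N k l (cokernel σ) at h1
    rw [N, N_congr _ (HilbPolyLib.swapIso M _ ≪≫ HilbPolyLib.unitLeft M), h1,
      N_eq_zero_of_points hl hQ (dim_le_iff.mp hQd) h, add_zero, sub_self]
  obtain ⟨n₁, hn₁⟩ := exists_mono_large (k := k) hH (CurvLib.isInvertible_structureModule (X := X))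
  obtain ⟨n₂, -, hn₂⟩ := MiscFlat6.eventually_ample_globallyGenerated hH hA
  have hHn := AmpleThLib.tensorPow_isInvertible hH.1 (max n₁ n₂)
  have hB := HilbPolyLib.isInvertible_tensor hHn hA
  obtain ⟨s, hs⟩ := NumRLib.exists_mono_of_globallyGenerated hB (hn₂ _ (le_max_right _ _)).2
  obtain ⟨t, ht⟩ := hn₁ _ (le_max_left n₁ n₂)
  have h1 := N_tensor (k := k) hl hHn hA hO hle
  rw [key hB s (NumRLib.ne_zero_of_mono s), key hHn t (NumRLib.ne_zero_of_mono t), zero_add] at h1
  exact h1.symm

/-- Vanishing passes to closed integral subschemes. -/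
theorem VanishIn.pullback {Y : Scheme.{u}} [Y.Over (Spec (CommRingCat.of k))] [IsProper (Y ↘ Spec (CommRingCat.of k))]
    {g : Y ⟶ X} (hg : g ≫ (X ↘ Spec (CommRingCat.of k)) = Y ↘ Spec (CommRingCat.of k))
    {L : X.Modules} (hL : PicF.IsInvertible L) {m : ℕ} (h : VanishIn k L m) : VanishIn k (pb g L) m := by
  intro ξ hξ
  haveI := isProper_g hg
  haveI := CurvLib.isNoetherian k (X := X)
  have hl : ∀ A ∈ List.replicate m L, PicF.IsInvertible A := fun A hA => by
    rw [List.eq_of_mem_replicate hA]; exact hL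
  have h1 := N_push hg hl (coh_Fpt k ξ) (by rw [supp_Fpt k, hξ]; simp)
  rw [show List.replicate m (pb g L) = List.map (pb g) (List.replicate m L) from (List.map_replicate ..).symm, h1]
  refine N_eq_zero_of_points hl (FormalCohLib.isCoh_push_proper g (coh_Fpt k ξ)) ?_ fun η hη => h η (by simpa using hη)
  exact ((dim_mono (support_push_closure hg ξ)).trans (dim_closure_map_le hg ξ)).trans (by rw [hξ]; simp)

theorem vanishIn_succ : ∀ (e : ℕ) (X : Scheme.{u}) [X.Over (Spec (CommRingCat.of k))]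
    [IsProper (X ↘ Spec (CommRingCat.of k))] (L H : X.Modules), PicF.IsInvertible L → CohB1.IsAmple H →
    ∀ m : ℕ, VanishIn k L m → VanishIn k L (m + e) := by
  intro e
  induction e with
  | zero => intro X _ _ L H _ _ m h; exact h
  | succ e ih =>
    intro X _ _ L H hL hH m h ξ hξ
    haveI := CurvLib.isNoetherian k (X := X)
    haveI := isIntegral_ptIdeal ξ
    let W := (ptIdeal ξ).subscheme
    let g : W ⟶ X := (ptIdeal ξ).subschemeι
    letI : W.Over (Spec (CommRingCat.of k)) := ⟨g ≫ (X ↘ Spec (CommRingCat.of k))⟩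
    haveI : IsProper (W ↘ Spec (CommRingCat.of k)) :=
      inferInstanceAs (IsProper (g ≫ (X ↘ Spec (CommRingCat.of k))))
    have hW : topologicalKrullDim W = ((m + e + 1 : ℕ) : WithBot ℕ∞) := by
      rw [show m + e + 1 = m + (e + 1) from rfl, ← hξ]
      exact (g.isEmbedding.toHomeomorph.trans
        (Homeomorph.setCongr (range_ptIdeal ξ))).isHomeomorph.topologicalKrullDim_eq
    have hrfl : g ≫ (X ↘ Spec (CommRingCat.of k)) = W ↘ Spec (CommRingCat.of k) := rfl
    have hLW := AmpleDevLib.isInvertible_pb g hL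
    have hIH := ih W (pb g L) (pb g H) hLW (AmpleDevLib.isAmple_pb g hH.1 hH) m (h.pullback hrfl hL)
    have hl : ∀ A ∈ List.replicate (m + e) (pb g L), PicF.IsInvertible A := fun A hA => by
      rw [List.eq_of_mem_replicate hA]; exact hLW
    have h0 := N_cons_eq_zero (k := k) (AmpleDevLib.isAmple_pb g hH.1 hH) hLW hl (by rw [List.length_replicate]; exact hW)
      (fun η hη => hIH η (by rw [List.length_replicate] at hη; exact hη))
    have h1 := N_push (k := k) hrfl (l := List.replicate (m + (e + 1)) L)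
      (fun A hA => by rw [List.eq_of_mem_replicate hA]; exact hL) (DevissLib.isCoh_structureModule W)
      ((topologicalKrullDim_subspace_le _ _).trans (by rw [hW]; simp [add_assoc]))
    rw [List.map_replicate, show m + (e + 1) = (m + e) + 1 from rfl, List.replicate_succ, h0] at h1
    exact h1.symm

/-- A nef module with vanishing numbers in dimension `m' + 1` has few sections. -/
theorem exists_bound_numTrivial : ∀ (e : ℕ) (X : Scheme.{u}) [X.Over (Spec (CommRingCat.of k))]
    [IsProper (X ↘ Spec (CommRingCat.of k))] (L H : X.Modules), PicF.IsInvertible L → Nef k L → CohB1.IsAmple H →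
    ∀ m : ℕ, VanishIn k L (m + 1) → ∀ F : X.Modules, Coh.IsCoh F → topologicalKrullDim (CohB1.support F) ≤ (e : ℕ) →
    ∃ C : ℕ, ∀ μ, hh k (CohB1.tensorMod (CohB1.tensorPow L μ) F) 0 ≤ C * (μ + 1) ^ m := by
  intro e
  induction e using Nat.strong_induction_on with
  | _ e IH =>
  intro X _ _ L H hL hnef hH m hvan F hF hd
  rcases Nat.lt_or_ge m e with hem | hem
  swap
  · exact exists_bound_coh hH hL hF (hd.trans (by exact_mod_cast hem))
  haveI := CurvLib.isNoetherian k (X := X)
  obtain ⟨r, G, φ, hG0, ⟨eG⟩, hGc, hstep⟩ := DevissLib.exists_filtration hF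
  have hmono : ∀ j ≤ r, ∃ ψ : G j ⟶ F, Mono ψ := by
    intro j hj
    induction h : r - j generalizing j with
    | zero =>
      obtain rfl : j = r := by omega
      exact ⟨eG.hom, inferInstance⟩
    | succ t ih =>
      obtain ⟨ψ, hψ⟩ := ih (j + 1) (by omega) (by omega)
      haveI := (hstep j (by omega)).1
      exact ⟨φ j ≫ ψ, inferInstance⟩
  have main : ∀ j ≤ r, ∃ C : ℕ, ∀ μ, hh k (CohB1.tensorMod (CohB1.tensorPow L μ) (G j)) 0 ≤ C * (μ + 1) ^ m := by
    intro j
    induction j with
    | zero =>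
      intro _
      refine ⟨0, fun μ => ?_⟩
      rw [HodgeIdxLib.hh_eq_zero (isZero_of_support_empty ((HilbPolyLib.support_tensor
        (AmpleThLib.tensorPow_isInvertible hL μ) _).trans (support_of_isZero hG0))) 0]
      simp
    | succ j ih =>
      intro hj
      obtain ⟨C, hC⟩ := ih (by omega)
      obtain ⟨hm, Z, i, hi, hZ, I, ι, hι, hI, hI0, ⟨eI⟩⟩ := hstep j (by omega)
      letI : Z.Over (Spec (CommRingCat.of k)) := ⟨i ≫ (X ↘ Spec (CommRingCat.of k))⟩
      haveI : IsProper (Z ↘ Spec (CommRingCat.of k)) :=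
        inferInstanceAs (IsProper (i ≫ (X ↘ Spec (CommRingCat.of k))))
      haveI := CurvLib.isNoetherian k (X := Z)
      have hsub : closure ({i (genericPoint Z)} : Set X) ⊆ CohB1.support F := by
        obtain ⟨ψ, hψ⟩ := hmono (j + 1) hj
        refine closure_minimal (Set.singleton_subset_iff.mpr ?_) (QCohLib.isClosed_support F hF.2)
        refine support_mono ψ (support_epi (cokernel.π (φ j)) ?_)
        rw [DevissLib.support_iso eI]
        exact DevissExt.mem_support_push i ι hI0
      have hdZ : topologicalKrullDim Z ≤ (e : ℕ) := by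
        refine le_trans (le_of_eq ?_) ((dim_mono hsub).trans hd)
        exact (i.isEmbedding.toHomeomorph.trans
          (Homeomorph.setCongr (DevissExt.closure_generic i).symm)).isHomeomorph.topologicalKrullDim_eq
      -- the bound on the piece
      obtain ⟨D, hD⟩ : ∃ D : ℕ, ∀ μ, hh k (CohB1.tensorPow (pb i L) μ) 0 ≤ D * (μ + 1) ^ m := by
        have hLZ := AmpleDevLib.isInvertible_pb i hL
        have hHZ := AmpleDevLib.isAmple_pb i hH.1 hH
        have hnefZ : Nef k (pb i L) := hnef.pullback (g := i) rfl hL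
        have hvanZ : VanishIn k (pb i L) (m + 1) := hvan.pullback (g := i) rfl hL
        have hO := DevissLib.isCoh_structureModule Z
        rcases hdZ.eq_or_lt with hZe | hZe
        swap
        · obtain ⟨e', rfl⟩ : ∃ e', e = e' + 1 := ⟨e - 1, by omega⟩
          obtain ⟨D, hD⟩ := IH e' (by omega) Z (pb i L) (pb i H) hLZ hnefZ hHZ m hvanZ _ hO
            ((topologicalKrullDim_subspace_le _ _).trans (dim_le_iff.mp hZe))
          exact ⟨D, fun μ => by
            rw [← HodgeIdxLib.hh_congr (HilbPolyLib.swapIso _ _ ≪≫ HilbPolyLib.unitLeft _) 0]; exact hD μ⟩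
        -- not big
        have hzero : N k (List.replicate e (pb i L)) (Coh.structureModule Z) = 0 := by
          obtain ⟨t, rfl⟩ : ∃ t, e = m + 1 + t := ⟨e - (m + 1), by omega⟩
          rw [N_structure (fun A hA => by rw [List.eq_of_mem_replicate hA]; exact hLZ) (by simpa using hZe)]
          exact vanishIn_succ t Z _ _ hLZ hHZ (m + 1) hvanZ _ (dim_closure_generic.trans hZe)
        letI := LMLib.law Z
        obtain ⟨n₁, hn₁⟩ := exists_mono_large (k := k) hHZ (CurvLib.isInvertible_structureModule (X := Z))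
        obtain ⟨n₂, -, hn₂⟩ := MiscFlat6.eventually_ample_globallyGenerated (haveI : Z.IsSeparated := ⟨by
            rw [show Limits.terminal.from Z = (Z ↘ Spec (CommRingCat.of k)) ≫ Limits.terminal.from _ from Subsingleton.elim _ _]
            infer_instance⟩; hHZ) (CurvLib.isInvertible_structureModule (X := Z))
        obtain ⟨s₀, hs₀⟩ := hn₁ _ (le_max_left n₁ n₂)
        obtain ⟨A, hA, s, hs⟩ : ∃ A : Z.Modules, CohB1.IsAmple A ∧ ∃ s : Coh.structureModule Z ⟶ A, Mono s :=
          ⟨_, (hn₂ (max n₁ n₂) (le_max_right _ _)).1,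
            s₀ ≫ (HilbPolyLib.swapIso _ _ ≪≫ HilbPolyLib.unitLeft (CohB1.tensorPow (pb i H) (max n₁ n₂))).inv,
            mono_comp' hs₀ inferInstance⟩
        obtain ⟨A', hA', ⟨ee⟩⟩ := NumRLib.exists_inverse (k := k) hA.1
        obtain ⟨hQ, hQd⟩ := dim_cok_le k hZe hA.1 (NumRLib.ne_zero_of_mono s)
        have hQ' := HilbPolyLib.isCoh_tensor hA' hQ
        obtain ⟨e', rfl⟩ : ∃ e', e = e' + 1 := ⟨e - 1, by omega⟩
        obtain ⟨D, hD⟩ := IH e' (by omega) Z (pb i L) (pb i H) hLZ hnefZ hHZ m hvanZ _ hQ'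
          (by rw [HilbPolyLib.support_tensor hA']; exact dim_le_iff.mp hQd)
        refine ⟨max D (hh k (CohB1.tensorPow (pb i L) 0) 0), fun μ => ?_⟩
        rcases Nat.eq_zero_or_pos μ with rfl | hμ
        · simp
        have hLμ := AmpleThLib.tensorPow_isInvertible hLZ μ
        have hT := HilbPolyLib.isInvertible_tensor hLμ hA'
        have h1 := HodgeIdxLib.ses_cok (k := k) hA.1 hT (NumRLib.ne_zero_of_mono s) hQ 0
        have h0 : hh k (CohB1.tensorMod (CohB1.tensorPow (pb i L) μ) A') 0 = 0 := by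
          by_contra hne
          haveI := Module.nontrivial_of_finrank_pos (Nat.pos_of_ne_zero hne)
          obtain ⟨σ, hσ⟩ := CurvLib.exists_hom_ne_zero (L := CohB1.tensorMod (CohB1.tensorPow (pb i L) μ) A') this
          haveI := CurvLib.mono_of_ne_zero CurvLib.isInvertible_structureModule hT hσ
          obtain ⟨ψ, hψ⟩ := NumRLib.exists_mono_twist (k := k) hA.1 ee σ
          exact (N_pos_of_bigPow hLZ hnefZ hZe ⟨μ, A, ψ, hμ, hA, hψ⟩).ne' hzero
        rw [h0, zero_add, HodgeIdxLib.hh_congr (HilbPolyLib.assocIso _ A' A ≪≫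
          HilbPolyLib.congrRight _ (HilbPolyLib.swapIso A' A ≪≫ ee) ≪≫ HilbPolyLib.swapIso _ _ ≪≫
          HilbPolyLib.unitLeft _) 0, HodgeIdxLib.hh_congr (HilbPolyLib.assocIso _ A' _) 0] at h1
        exact (h1.trans (hD μ)).trans (Nat.mul_le_mul_right _ (le_max_left _ _))
      refine ⟨C + D, fun μ => ?_⟩
      haveI := hm
      have hT := AmpleThLib.tensorPow_isInvertible hL μ
      have hc : Coh.IsCoh (cokernel (φ j)) :=
        QCohLib.isCoh_cokernel (φ j) (hGc j (by omega)).1 (hGc (j + 1) hj)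
      obtain ⟨-, h1⟩ := euler_twist_add (k := k) hT (φ j) (cokernel.π (φ j)) (cokernel.condition _)
        { exact := ShortComplex.exact_cokernel _, mono_f := inferInstanceAs (Mono (φ j))
          epi_g := inferInstanceAs (Epi (cokernel.π _)) } (hGc j (by omega)) (hGc (j + 1) hj) hc
      have hIc : Coh.IsCoh I := QCohLib.isCoh_of_mono ι (DevissLib.isCoh_structureModule Z) hI
      obtain ⟨-, h2⟩ := exists_hh_push (k := k) i hT hIc eI
      have hTi := AmpleDevLib.isInvertible_pb i hT
      obtain ⟨φp, -⟩ := AmpleDevLib.exists_pullPowIso i hL μ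
      obtain ⟨ψ, hψ⟩ := NumRLib.mono_tensor hTi ι
      have h3 := (hh_le_of_mono (k := k) ψ (HilbPolyLib.isCoh_tensor hTi hIc)
        (HilbPolyLib.isCoh_tensor hTi (DevissLib.isCoh_structureModule Z))).trans
          (le_of_eq (HodgeIdxLib.hh_congr (HilbPolyLib.swapIso _ _ ≪≫ HilbPolyLib.unitLeft _ ≪≫ φp) 0))
      have h4 := hC μ
      have h5 := hD μ
      rw [add_mul]
      omega
  obtain ⟨C, hC⟩ := main r le_rfl
  exact ⟨C, fun μ => by rw [← HodgeIdxLib.hh_congr (HilbPolyLib.congrRight _ eG) 0]; exact hC μ⟩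

/-- No growth of order `m` when `L^m` is numerically trivial. -/
theorem not_grows_of_vanishIn [Nonempty X] {L H : X.Modules} (hL : PicF.IsInvertible L) (hnef : Nef k L)
    (hH : CohB1.IsAmple H) : ∀ {m : ℕ}, VanishIn k L m → ¬ Grows k L m := by
  haveI := CurvLib.isNoetherian k (X := X)
  intro m hvan
  obtain rfl | ⟨m', rfl⟩ : m = 0 ∨ ∃ m', m = m' + 1 := by
    rcases Nat.eq_zero_or_pos m with h | h
    · exact .inl h
    · exact .inr ⟨m - 1, by omega⟩
  · intro _
    obtain ⟨x, -, hx⟩ := IsClosed.exists_closed_singleton (S := (Set.univ : Set X)) isClosed_univ Set.univ_nonempty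
    have hx' : topologicalKrullDim (closure ({x} : Set X)) = ((0 : ℕ) : WithBot ℕ∞) := by
      rw [hx.closure_eq, Nat.cast_zero]
      exact le_antisymm (topologicalKrullDim_zero_of_discreteTopology ({x} : Set X)) (IntFunLib.nonneg_dim ⟨x, rfl⟩)
    exact (N_ample_pos (k := k) (d := 0) hH hx').ne' (by simpa using hvan x hx')
  rintro ⟨ν, a, hν, ha, hgr⟩
  obtain ⟨D, hD⟩ := exists_dim_lt k (X := X)
  obtain ⟨C, hC⟩ := exists_bound_numTrivial (k := k) D X L H hL hnef hH m' hvan _ (DevissLib.isCoh_structureModule X)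
    ((topologicalKrullDim_subspace_le _ _).trans hD.le)
  let μ := a * C * (2 * ν) ^ m' + 1
  have hμ : 1 ≤ μ := Nat.le_add_left _ _
  have h1 : hh k (CohB1.tensorPow L (ν * μ)) 0 ≤ C * (ν * μ + 1) ^ m' := by
    rw [← HodgeIdxLib.hh_congr (HilbPolyLib.swapIso _ _ ≪≫ HilbPolyLib.unitLeft _) 0]; exact hC _
  have h2 : μ ^ (m' + 1) ≤ a * (C * (ν * μ + 1) ^ m') := (hgr μ hμ).trans (Nat.mul_le_mul_left a h1)
  have h3 : ν * μ + 1 ≤ 2 * ν * μ := by
    have : 1 ≤ ν * μ := Nat.mul_pos hν hμ
    rw [mul_assoc]; omega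
  have h4 : μ ^ (m' + 1) ≤ a * C * (2 * ν) ^ m' * μ ^ m' := by
    refine h2.trans (le_of_le_of_eq (Nat.mul_le_mul_left _ (Nat.mul_le_mul_left _ (Nat.pow_le_pow_left h3 m'))) ?_)
    rw [mul_pow]; ring
  rw [pow_succ'] at h4
  exact Nat.not_succ_le_self _ (Nat.le_of_mul_le_mul_right h4 (Nat.pow_pos hμ))

end GrowthLib
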