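import Groth.Agent.GrowthLib.Main
import Groth.Agent.DegPullLib.H0
import Groth.Agent.FormalCohLib.Counit
import Groth.Agent.BirBlowLib.Proj
import Groth.Agent.CurvLib.Divisor

/-!
# Growth of sections on proper schemes; birational invariance
-/

set_option autoImplicit false
set_option linter.style.haveILetI false
set_option maxHeartbeats 1000000
universe u

open CategoryTheory CategoryTheory.Limits AlgebraicGeometry TopologicalSpace Opposite
open HilbPolyLib DevissLib IntMultLib IntFunLib
open HodgeIdxLib (hh)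
open KFlatLib (pb)

noncomputable section

namespace GrowthLib

variable {k : Type u} [Field k]

variable (k) in
theorem dim_cok_lt {Z : Scheme.{u}} [Z.Over (Spec (CommRingCat.of k))] [IsProper (Z ↘ Spec (CommRingCat.of k))]
    [IsIntegral Z] {e : ℕ} (hd : topologicalKrullDim Z ≤ (e : ℕ)) {M : Z.Modules} (hM : PicF.IsInvertible M)
    {φ : Coh.structureModule Z ⟶ M} (hφ : φ ≠ 0) :
    Coh.IsCoh (cokernel φ) ∧ topologicalKrullDim (CohB1.support (cokernel φ)) < (e : ℕ) := by
  haveI := CurvLib.isNoetherian k (X := Z)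
  have hC : Coh.IsCoh (cokernel φ) :=
    QCohLib.isCoh_cokernel φ (DevissLib.isCoh_structureModule Z).1 (CurvLib.isCoh_of_isInvertible hM)
  have hgen := CurvLib.generic_notMem_support_cokernel CurvLib.isInvertible_structureModule hM hφ
  refine ⟨hC, dim_lt_of_notMem (QCohLib.isClosed_support _ hC.2) (fun z _ => ?_) hgen (Y := Set.univ)
    (Set.subset_univ _) ?_⟩
  · rw [(genericPoint_spec Z).def]; exact trivial
  · exact ((topologicalKrullDim_subspace_le _ _).trans hd).trans_lt
      (by exact_mod_cast Nat.lt_succ_self e)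

/-- **Growth bound on proper schemes.** -/
theorem exists_bound_proper : ∀ (e : ℕ) (X : Scheme.{u}) [X.Over (Spec (CommRingCat.of k))]
    [IsProper (X ↘ Spec (CommRingCat.of k))] (L : X.Modules), PicF.IsInvertible L →
    ∀ F : X.Modules, Coh.IsCoh F → topologicalKrullDim (CohB1.support F) ≤ (e : ℕ) →
    ∃ C : ℕ, ∀ m, hh k (CohB1.tensorMod (CohB1.tensorPow L m) F) 0 ≤ C * (m + 1) ^ e := by
  intro e
  induction e using Nat.strong_induction_on with
  | _ e IH =>
  intro X _ _ L hL F hF hd
  haveI := CurvLib.isNoetherian k (X := X)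
  obtain ⟨r, G, φ, hG0, ⟨eG⟩, hGc, hstep⟩ := DevissLib.exists_filtration hF
  have hmono : ∀ j ≤ r, ∃ ψ : G j ⟶ F, Mono ψ := by
    intro j hj
    induction h : r - j generalizing j with
    | zero =>
      obtain rfl : j = r := by omega
      exact ⟨eG.hom, inferInstance⟩
    | succ t ih =>
      obtain ⟨ψ, hψ⟩ := ih (j + 1) (by omega) (by omega)
      haveI := (hstep j (by omega)).1
      exact ⟨φ j ≫ ψ, inferInstance⟩
  have main : ∀ j ≤ r, ∃ C : ℕ, ∀ m, hh k (CohB1.tensorMod (CohB1.tensorPow L m) (G j)) 0 ≤ C * (m + 1) ^ e := by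
    intro j
    induction j with
    | zero =>
      intro _
      refine ⟨0, fun m => ?_⟩
      rw [HodgeIdxLib.hh_eq_zero (isZero_of_support_empty ((HilbPolyLib.support_tensor
        (AmpleThLib.tensorPow_isInvertible hL m) _).trans (support_of_isZero hG0))) 0]
      simp
    | succ j ih =>
      intro hj
      obtain ⟨C, hC⟩ := ih (by omega)
      obtain ⟨hm, Z, i, hi, hZ, I, ι, hι, hI, hI0, ⟨eI⟩⟩ := hstep j (by omega)
      letI : Z.Over (Spec (CommRingCat.of k)) := ⟨i ≫ (X ↘ Spec (CommRingCat.of k))⟩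
      haveI : IsProper (Z ↘ Spec (CommRingCat.of k)) :=
        inferInstanceAs (IsProper (i ≫ (X ↘ Spec (CommRingCat.of k))))
      haveI := CurvLib.isNoetherian k (X := Z)
      have hsub : closure ({i (genericPoint Z)} : Set X) ⊆ CohB1.support F := by
        obtain ⟨ψ, hψ⟩ := hmono (j + 1) hj
        refine closure_minimal (Set.singleton_subset_iff.mpr ?_) (QCohLib.isClosed_support F hF.2)
        refine support_mono ψ (support_epi (cokernel.π (φ j)) ?_)
        rw [DevissLib.support_iso eI]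
        exact DevissExt.mem_support_push i ι hI0
      have hdZ : topologicalKrullDim Z ≤ (e : ℕ) := by
        refine le_trans (le_of_eq ?_) ((dim_mono hsub).trans hd)
        exact (i.isEmbedding.toHomeomorph.trans
          (Homeomorph.setCongr (DevissExt.closure_generic i).symm)).isHomeomorph.topologicalKrullDim_eq
      obtain ⟨D, hD⟩ : ∃ D : ℕ, ∀ m, hh k (CohB1.tensorPow (pb i L) m) 0 ≤ D * (m + 1) ^ e := by
        have hLZ := AmpleDevLib.isInvertible_pb i hL
        set f : ℕ → ℕ := fun m => hh k (CohB1.tensorPow (pb i L) m) 0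
        by_cases hs : ∀ m, 0 < m → f m = 0
        · refine ⟨f 0, fun m => ?_⟩
          rcases Nat.eq_zero_or_pos m with rfl | hm'
          · simp [f]
          · rw [show hh k (CohB1.tensorPow (pb i L) m) 0 = f m from rfl, hs m hm']; exact Nat.zero_le _
        push Not at hs
        obtain ⟨m₀, hm₀, hf₀⟩ := hs
        haveI := Module.nontrivial_of_finrank_pos (Nat.pos_of_ne_zero hf₀)
        obtain ⟨σ, hσ⟩ := CurvLib.exists_hom_ne_zero (L := CohB1.tensorPow (pb i L) m₀) this
        have hM₀ := AmpleThLib.tensorPow_isInvertible hLZ m₀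
        obtain ⟨hQ, hQd⟩ := dim_cok_lt k hdZ hM₀ hσ
        have hrec : ∀ M, f (M + m₀) ≤ f M + hh k (CohB1.tensorMod (CohB1.tensorPow (pb i L) M) (cokernel σ)) 0 := by
          intro M
          have h := HodgeIdxLib.ses_cok (k := k) hM₀ (AmpleThLib.tensorPow_isInvertible hLZ M) hσ hQ 0
          obtain ⟨ee⟩ := IntMultLib.nonempty_tensorPow_add (pb i L) M m₀
          rw [← HodgeIdxLib.hh_congr ee 0] at h
          exact h
        have hsum : ∃ B, ∀ m < m₀, f m ≤ B :=
          ⟨∑ l ∈ Finset.range m₀, f l, fun m hm' =>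
            Finset.single_le_sum (fun l _ => Nat.zero_le (f l)) (Finset.mem_range.mpr hm')⟩
        obtain ⟨B, hB⟩ := hsum
        rcases Nat.eq_zero_or_pos e with rfl | he
        · have hQ0 : CohB1.support (cokernel σ) = ∅ := by
            by_contra hne
            exact absurd ((IntFunLib.nonneg_dim (Set.nonempty_iff_ne_empty.mpr hne)).trans_lt hQd) (lt_irrefl _)
          refine ⟨B, fun m => ?_⟩
          rw [pow_zero, mul_one]
          induction m using Nat.strong_induction_on with
          | _ m ihm =>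
            rcases lt_or_ge m m₀ with hlt | hge
            · exact hB m hlt
            · have h := hrec (m - m₀)
              rw [Nat.sub_add_cancel hge, HodgeIdxLib.hh_eq_zero (isZero_of_support_empty
                ((HilbPolyLib.support_tensor (AmpleThLib.tensorPow_isInvertible hLZ (m - m₀)) _).trans hQ0)) 0] at h
              exact h.trans (ihm (m - m₀) (by omega))
        obtain ⟨e', rfl⟩ : ∃ e', e = e' + 1 := ⟨e - 1, by omega⟩
        obtain ⟨D, hD⟩ := IH e' (by omega) Z (pb i L) hLZ _ hQ (dim_le_iff.mp hQd)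
        refine ⟨B + D, fun m => ?_⟩
        induction m using Nat.strong_induction_on with
        | _ m ihm =>
          rcases lt_or_ge m m₀ with hlt | hge
          · exact (hB m hlt).trans ((Nat.le_add_right B D).trans (Nat.le_mul_of_pos_right _ (Nat.pow_pos (by omega))))
          · obtain ⟨M, rfl⟩ : ∃ M, m = M + m₀ := ⟨m - m₀, by omega⟩
            have h1 : f M ≤ (B + D) * (M + 1) ^ (e' + 1) := ihm M (by omega)
            refine (hrec M).trans ((Nat.add_le_add h1 (hD M)).trans ?_)
            refine le_trans ?_ (Nat.mul_le_mul_left (B + D) (Nat.pow_le_pow_left (show M + 1 + 1 ≤ M + m₀ + 1 by omega) _))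
            have h2 : (M + 1) ^ (e' + 1) + (M + 1) ^ e' ≤ (M + 1 + 1) ^ (e' + 1) := by
              rw [pow_succ, pow_succ, ← Nat.mul_succ]
              exact Nat.mul_le_mul (Nat.pow_le_pow_left (by omega) _) le_rfl
            calc (B + D) * (M + 1) ^ (e' + 1) + D * (M + 1) ^ e'
                ≤ (B + D) * (M + 1) ^ (e' + 1) + (B + D) * (M + 1) ^ e' :=
                  Nat.add_le_add_left (Nat.mul_le_mul_right _ (Nat.le_add_left D B)) _
              _ ≤ _ := by rw [← Nat.mul_add]; exact Nat.mul_le_mul_left _ h2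
      refine ⟨C + D, fun m => ?_⟩
      haveI := hm
      have hT := AmpleThLib.tensorPow_isInvertible hL m
      have hc : Coh.IsCoh (cokernel (φ j)) :=
        QCohLib.isCoh_cokernel (φ j) (hGc j (by omega)).1 (hGc (j + 1) hj)
      obtain ⟨-, h1⟩ := euler_twist_add (k := k) hT (φ j) (cokernel.π (φ j)) (cokernel.condition _)
        { exact := ShortComplex.exact_cokernel _, mono_f := inferInstanceAs (Mono (φ j))
          epi_g := inferInstanceAs (Epi (cokernel.π _)) } (hGc j (by omega)) (hGc (j + 1) hj) hc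
      have hIc : Coh.IsCoh I := QCohLib.isCoh_of_mono ι (DevissLib.isCoh_structureModule Z) hI
      obtain ⟨-, h2⟩ := exists_hh_push (k := k) i hT hIc eI
      have hTi := AmpleDevLib.isInvertible_pb i hT
      obtain ⟨φp, -⟩ := AmpleDevLib.exists_pullPowIso i hL m
      obtain ⟨ψ, hψ⟩ := NumRLib.mono_tensor hTi ι
      have h3 := (hh_le_of_mono (k := k) ψ (HilbPolyLib.isCoh_tensor hTi hIc)
        (HilbPolyLib.isCoh_tensor hTi (DevissLib.isCoh_structureModule Z))).trans
          (le_of_eq (HodgeIdxLib.hh_congr (HilbPolyLib.swapIso _ _ ≪≫ HilbPolyLib.unitLeft _ ≪≫ φp) 0))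
      have h4 := hC m
      have h5 := hD m
      rw [add_mul]
      omega
  obtain ⟨C, hC⟩ := main r le_rfl
  exact ⟨C, fun m => by rw [← HodgeIdxLib.hh_congr (HilbPolyLib.congrRight _ eG) 0]; exact hC m⟩

variable {X : Scheme.{u}} [X.Over (Spec (CommRingCat.of k))] [IsProper (X ↘ Spec (CommRingCat.of k))]

/-- Low-dimensional twists are negligible. -/
theorem exists_small_twist {L : X.Modules} (hL : PicF.IsInvertible L) {Q : X.Modules} (hQ : Coh.IsCoh Q) {d : ℕ}
    (hd : topologicalKrullDim (CohB1.support Q) < (d : ℕ)) :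
    ∃ C : ℕ, ∀ m, (m + 1) * hh k (CohB1.tensorMod (CohB1.tensorPow L m) Q) 0 ≤ C * (m + 1) ^ d := by
  haveI := CurvLib.isNoetherian k (X := X)
  rcases (CohB1.support Q).eq_empty_or_nonempty with he | hne
  · refine ⟨0, fun m => ?_⟩
    rw [HodgeIdxLib.hh_eq_zero (isZero_of_support_empty
      ((HilbPolyLib.support_tensor (AmpleThLib.tensorPow_isInvertible hL m) Q).trans he)) 0]
    simp
  obtain ⟨e, rfl⟩ : ∃ e, d = e + 1 := by
    refine ⟨d - 1, ?_⟩
    rcases Nat.eq_zero_or_pos d with rfl | h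
    · exact absurd ((IntFunLib.nonneg_dim hne).trans_lt hd) (lt_irrefl _)
    · omega
  obtain ⟨C, hC⟩ := exists_bound_proper (k := k) e X L hL Q hQ (dim_le_iff.mp hd)
  exact ⟨C, fun m => by rw [pow_succ', mul_left_comm C]; exact Nat.mul_le_mul_left _ (hC m)⟩

omit [X.Over (Spec (CommRingCat.of k))] [IsProper (X ↘ Spec (CommRingCat.of k))] in
/-- The negligible term loses against a positive growth. -/
theorem exists_half {f g : ℕ → ℕ} {d C : ℕ} (hC : ∀ n, (n + 1) * g n ≤ C * (n + 1) ^ d) {c : ℝ} (hc : 0 < c) :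
    ∀ᶠ n : ℕ in Filter.atTop, f n ≤ g n → (f n : ℝ) ≤ c / 2 * (n : ℝ) ^ d := by
  refine Filter.eventually_atTop.mpr ⟨⌈2 * (C : ℝ) * 2 ^ d / c⌉₊ + 1, fun n hn hfg => ?_⟩
  have hn1 : (1 : ℝ) ≤ n := by exact_mod_cast le_trans (Nat.le_add_left 1 _) hn
  have h1 : ((n : ℝ) + 1) * g n ≤ C * ((n : ℝ) + 1) ^ d := by exact_mod_cast hC n
  have h2 : 2 * (C : ℝ) * 2 ^ d / c ≤ (n : ℝ) :=
    (Nat.le_ceil _).trans (by exact_mod_cast le_trans (Nat.le_add_right _ 1) hn)
  rw [div_le_iff₀ hc] at h2
  have h3 : ((n : ℝ) + 1) ^ d ≤ 2 ^ d * (n : ℝ) ^ d := by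
    rw [← mul_pow]; exact pow_le_pow_left₀ (by positivity) (by linarith) d
  have hf : (f n : ℝ) ≤ g n := by exact_mod_cast hfg
  have h4 : (C : ℝ) * ((n : ℝ) + 1) ^ d ≤ C * (2 ^ d * (n : ℝ) ^ d) :=
    mul_le_mul_of_nonneg_left h3 (Nat.cast_nonneg C)
  have h5 : (2 * (C : ℝ) * 2 ^ d) * (n : ℝ) ^ d ≤ (n * c) * (n : ℝ) ^ d :=
    mul_le_mul_of_nonneg_right h2 (by positivity)
  refine hf.trans (le_of_mul_le_mul_left ?_ (show (0 : ℝ) < (n : ℝ) + 1 by positivity))
  have h6 : (0 : ℝ) ≤ c / 2 * (n : ℝ) ^ d := by positivity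
  nlinarith

variable (k) in
include k in
/-- The structure map to the push forward along a birational morphism. -/
theorem unitToPush_birational {Y : Scheme.{u}} [IsIntegral X] [IsIntegral Y] {f : Y ⟶ X}
    [IsProper f] (hbir : RadPt.IsBirational f) :
    Mono (ClSub.unitToPush f) ∧ genericPoint X ∉ CohB1.support (cokernel (ClSub.unitToPush f)) := by
  haveI := CurvLib.isNoetherian k (X := X)
  have hgY : genericPoint Y ∈ genericPoints Y := by
    rw [genericPoints_eq_singleton]; exact rfl
  have hgen : f (genericPoint Y) = genericPoint X := by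
    have := hbir.1.mapsTo hgY
    rw [genericPoints_eq_singleton] at this
    exact this
  have hres : Function.Bijective (f.residueFieldMap (genericPoint Y)).hom := by
    refine (hbir.2 (genericPoint X) ?_).2 _ hgen
    rw [genericPoints_eq_singleton]; exact rfl
  have hst : IsIso (f.stalkMap (genericPoint Y)) := (PurBirLib.bir_of_residue f hgen hres).2
  have hinj : ∀ V : X.Opens, Function.Injective (f.app V).hom := BiratLib.app_injective f hgen (ConcreteCategory.bijective_of_isIso (f.stalkMap (genericPoint Y))).1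
  refine ⟨⟨fun {N} a b h => Scheme.Modules.hom_ext _ _ fun V => ConcreteCategory.hom_ext _ _ fun z =>
    hinj V (congrArg (fun θ : N ⟶ (Scheme.Modules.pushforward f).obj (Coh.structureModule Y) => θ.app V z) h)⟩, ?_⟩
  obtain ⟨U, hU, hiso⟩ := BirBlowLib.exists_isIso_of_proper_birational f hgen hst
  have hηU : genericPoint X ∈ U := by
    obtain ⟨x, hx⟩ := hU
    exact ((genericPoint_spec X).mem_open_set_iff U.2).mpr ⟨x, trivial, hx⟩
  refine DevissLib.notMem_support_cokernel _ _ fun z => ?_
  obtain ⟨W, hW, s, rfl⟩ := DevissLib.exists_gm_eq _ _ z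
  have hbij : Function.Bijective (f.app (W ⊓ U)).hom := by
    haveI : IsIso ((f ∣_ U).app (U.ι ⁻¹ᵁ (W ⊓ U))) := inferInstance
    have he := morphismRestrict_app f U (U.ι ⁻¹ᵁ (W ⊓ U))
    have e2 : U.ι ''ᵁ U.ι ⁻¹ᵁ (W ⊓ U) = W ⊓ U := by
      rw [Scheme.Hom.image_preimage_eq_opensRange_inf, Scheme.Opens.opensRange_ι]
      exact inf_eq_right.mpr inf_le_right
    haveI : IsIso (f.app (U.ι ''ᵁ U.ι ⁻¹ᵁ (W ⊓ U))) := by
      rw [he] at this
      refine @IsIso.of_isIso_comp_right _ _ _ _ _ _ _ ?_ this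
      exact Functor.map_isIso Y.presheaf _
    rw [e2] at this
    exact ConcreteCategory.bijective_of_isIso (f.app (W ⊓ U))
  obtain ⟨t, ht⟩ := hbij.2 (((Scheme.Modules.pushforward f).obj (Coh.structureModule Y)).presheaf.map
    (homOfLE (inf_le_left : W ⊓ U ≤ W)).op s)
  refine ⟨DevissLib.gm (Coh.structureModule X) (genericPoint X) (show genericPoint X ∈ W ⊓ U from ⟨hW, hηU⟩) t, ?_⟩
  refine (DevissLib.gm_app (ClSub.unitToPush f) (genericPoint X) _ t).trans ?_
  refine (congrArg (DevissLib.gm _ (genericPoint X) (show genericPoint X ∈ W ⊓ U from ⟨hW, hηU⟩)) ht).trans ?_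
  exact DevissLib.gm_map _ inf_le_left (genericPoint X) _ s

end GrowthLib
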