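import Groth.Agent.GrowthLib.Leray
import Groth.Agent.ProjFormLib.Proj
import Groth.Agent.AmpleDevLib.Pull
import Groth.Agent.AmpleDevLib.Devissage
import Groth.Agent.IntFunLib.Push
import Groth.Agent.DegPullLib.Rank
import Groth.Agent.AlgSpLib.CodimZero
import Groth.Agent.CurvLib.Line
import Groth.Agent.S0036

/-!
# Asymptotic cohomology of pullbacks
-/

set_option autoImplicit false
set_option linter.style.haveILetI false
set_option maxHeartbeats 1000000
universe u

open CategoryTheory CategoryTheory.Limits AlgebraicGeometry TopologicalSpace Opposite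
open HilbPolyLib DevissLib IntFunLib
open HodgeIdxLib (hh)
open KFlatLib (pb)

noncomputable section

namespace GrowthLib

variable {X Y : Scheme.{u}} {k : Type u} [Field k]
  [X.Over (Spec (CommRingCat.of k))] [Y.Over (Spec (CommRingCat.of k))]
  [IsProper (X ↘ Spec (CommRingCat.of k))] [IsProper (Y ↘ Spec (CommRingCat.of k))]
  (f : Y ⟶ X) (hf : f ≫ (X ↘ Spec (CommRingCat.of k)) = Y ↘ Spec (CommRingCat.of k))

/-- `R^q f_* O_Y`. -/
def rO (f : Y ⟶ X) (q : ℕ) : X.Modules := (Coh.Rpush f q).obj (Coh.structureModule Y)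

include hf in
theorem isProper_of_over : IsProper f := by
  haveI : IsProper (f ≫ (X ↘ Spec (CommRingCat.of k))) := hf ▸ inferInstance
  exact IsProper.of_comp f (X ↘ Spec (CommRingCat.of k))

variable {L : X.Modules} (hL : PicF.IsInvertible L)

include hf in
theorem isCoh_rO (q : ℕ) : Coh.IsCoh (rO f q) := by
  haveI := CurvLib.isNoetherian k (X := X)
  haveI := CurvLib.isNoetherian k (X := Y)
  haveI := isProper_of_over f hf
  exact Groth.Agent.S0036.result f _ (DevissLib.isCoh_structureModule Y) q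

include hL in
theorem rpush_pow_iso (m q : ℕ) : Nonempty ((Coh.Rpush f q).obj (pb f (CohB1.tensorPow L m)) ≅
    CohB1.tensorMod (rO f q) (CohB1.tensorPow L m)) := by
  obtain ⟨e⟩ := ProjFormLib.nonempty_projection_formula f (CohB1.tensorPow L m)
    (AmpleDevLib.isFinLocFree_of_isInvertible (AmpleThLib.tensorPow_isInvertible hL m))
    (Coh.structureModule Y) q
  exact ⟨(Coh.Rpush f q).mapIso ((HilbPolyLib.swapIso _ _ ≪≫ HilbPolyLib.unitLeft _).symm) ≪≫ e.symm ≪≫
    HilbPolyLib.swapIso _ _⟩

include hf hL in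
/-- `h^i(Y, f^*L^m)` against the twisted cohomology of `R^q f_* O_Y`. -/
theorem pullback_bound (m i : ℕ) :
    |(hh k (CohB1.tensorPow ((Scheme.Modules.pullback f).obj L) m) i : ℤ) -
        hh k (CohB1.tensorMod (rO f 0) (CohB1.tensorPow L m)) i| ≤
      2 * ∑ j ∈ Finset.range i, ∑ p ∈ Finset.range (i + 1),
        (hh k (CohB1.tensorMod (rO f (j + 1)) (CohB1.tensorPow L m)) p : ℤ) := by
  haveI := CurvLib.isNoetherian k (X := X)
  haveI := CurvLib.isNoetherian k (X := Y)
  obtain ⟨φ, -⟩ := AmpleDevLib.exists_pullPowIso (f := f) hL m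
  have hG : Coh.IsCoh (pb f (CohB1.tensorPow L m)) := CurvLib.isCoh_of_isInvertible
    (AmpleDevLib.isInvertible_pb f (AmpleThLib.tensorPow_isInvertible hL m))
  have h := leray_bound f hf _ hG i
  have h0 : hh k ((Coh.push f).obj (pb f (CohB1.tensorPow L m))) i =
      hh k (CohB1.tensorMod (rO f 0) (CohB1.tensorPow L m)) i :=
    HodgeIdxLib.hh_congr (((Scheme.Modules.pushforward f).rightDerivedZeroIsoSelf.app _).symm ≪≫
      (rpush_pow_iso f hL m 0).some) i
  have hj : ∀ j p, hh k ((Coh.Rpush f (j + 1)).obj (pb f (CohB1.tensorPow L m))) p =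
      hh k (CohB1.tensorMod (rO f (j + 1)) (CohB1.tensorPow L m)) p := fun j p =>
    HodgeIdxLib.hh_congr (rpush_pow_iso f hL m (j + 1)).some p
  simp only [h0, hj] at h
  rw [← HodgeIdxLib.hh_congr φ i]
  exact h

include hf hL in
/-- `ĥ^i(Y, f^*L) = 0` when `dim Y > dim X`. -/
theorem hhat_pullback_eq_zero {A : X.Modules} (hA : CohB1.IsAmple A) {n e : ℕ}
    (hn : topologicalKrullDim X ≤ (n : ℕ)) (hne : n < e) (i : ℕ) :
    W4c5asymptcohfn.hhat k Y e i ((Scheme.Modules.pullback f).obj L) = 0 := by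
  choose C hC using fun q => exists_bound_pow (k := k) hA hL (isCoh_rO f hf q)
    ((topologicalKrullDim_subspace_le X (CohB1.support (rO f q))).trans hn)
  obtain ⟨D, hD⟩ : ∃ D : ℕ, D = C 0 + 2 * ∑ j ∈ Finset.range i, ∑ _p ∈ Finset.range (i + 1), C (j + 1) :=
    ⟨_, rfl⟩
  rw [hhat_eq_nrm]
  refine (tendsto_nrm_zero (C := D) fun m => ?_).limsup_eq
  have h := (abs_le.mp (pullback_bound f hf hL m i)).2
  have h2 : hh k (CohB1.tensorPow ((Scheme.Modules.pullback f).obj L) m) i ≤ D * (m + 1) ^ n := by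
    have h3 : ∑ j ∈ Finset.range i, ∑ p ∈ Finset.range (i + 1),
        hh k (CohB1.tensorMod (rO f (j + 1)) (CohB1.tensorPow L m)) p ≤
        (∑ j ∈ Finset.range i, ∑ _p ∈ Finset.range (i + 1), C (j + 1)) * (m + 1) ^ n := by
      simp only [Finset.sum_mul]
      exact Finset.sum_le_sum fun j _ => Finset.sum_le_sum fun p _ => hC (j + 1) p m
    have h4 := hC 0 i m
    have h5 : hh k (CohB1.tensorPow ((Scheme.Modules.pullback f).obj L) m) i ≤
        hh k (CohB1.tensorMod (rO f 0) (CohB1.tensorPow L m)) i + 2 * ∑ j ∈ Finset.range i,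
          ∑ p ∈ Finset.range (i + 1), hh k (CohB1.tensorMod (rO f (j + 1)) (CohB1.tensorPow L m)) p := by
      zify; linarith
    rw [hD, add_mul, mul_assoc]
    omega
  calc (m + 1) * _ ≤ (m + 1) * (D * (m + 1) ^ n) := Nat.mul_le_mul_left _ h2
    _ = D * (m + 1) ^ (n + 1) := by ring
    _ ≤ D * (m + 1) ^ e := Nat.mul_le_mul_left _ (Nat.pow_le_pow_right (by omega) hne)

variable [IsIntegral X] [IsIntegral Y]

include hf hL in
/-- `ĥ^i(Y, f^*L) = d ĥ^i(X, L)` for `f` generically finite of degree `d`. -/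
theorem hhat_pullback_eq_degree_mul {A : X.Modules} (hA : CohB1.IsAmple A) {n : ℕ}
    (hn : topologicalKrullDim X = (n : ℕ)) (hdom : f.base (genericPoint Y) = genericPoint X)
    (hd0 : f.residueDegree (genericPoint Y) ≠ 0) (i : ℕ) :
    W4c5asymptcohfn.hhat k Y n i ((Scheme.Modules.pullback f).obj L) =
      (f.residueDegree (genericPoint Y) : ℝ) * W4c5asymptcohfn.hhat k X n i L := by
  haveI := CurvLib.isNoetherian k (X := X)
  haveI := CurvLib.isNoetherian k (X := Y)
  haveI := isProper_of_over f hf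
  let η := genericPoint X
  let ξ := genericPoint Y
  have key : ∀ z : Y, topologicalKrullDim (closure ({z} : Set Y)) =
      topologicalKrullDim (closure ({f z} : Set X)) + UOpenLib.fibreClosureDim f z :=
    FibDimLib.topologicalKrullDim_closure_eq_add (X ↘ Spec (CommRingCat.of k)) f
  have hηd : topologicalKrullDim (closure ({η} : Set X)) = (n : ℕ) := by
    rw [← hn, (genericPoint_spec X).def]
    exact IsHomeomorph.topologicalKrullDim_eq _ (Homeomorph.Set.univ _).isHomeomorph
  have hξ0 : UOpenLib.fibreClosureDim f ξ = 0 := by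
    refine le_antisymm (AlgSpLib.fibreClosureDim_le_zero_of_resTrdeg f ξ ?_) ?_
    · letI := (f.residueFieldMap ξ).hom.toAlgebra
      haveI : Module.Finite (X.residueField (f ξ)) (Y.residueField ξ) :=
        Module.finite_of_finrank_pos (Nat.pos_of_ne_zero hd0)
      exact trdeg_eq_zero
    · exact nonneg_dim ⟨_, subset_closure rfl⟩
  have hY : topologicalKrullDim (Set.univ : Set Y) ≤ (n : ℕ) := by
    rw [← (genericPoint_spec Y).def, key ξ, hξ0, add_zero, show f ξ = η from hdom]
    exact hηd.le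
  have hfib : ∀ z, f z = f ξ → z = ξ := fun z hz => by
    have h1 : topologicalKrullDim (closure ({z} : Set Y)) = (n : ℕ) :=
      le_antisymm ((dim_mono (Set.subset_univ _)).trans hY) (by
        rw [key z, hz, show f ξ = η from hdom, hηd]
        exact le_add_of_nonneg_right (nonneg_dim ⟨_, subset_closure rfl⟩))
    exact (IntMultLib.eq_of_specializes_of_dim isClosed_univ hY h1 trivial
      ((genericPoint_spec Y).specializes trivial)).symm
  have hO := DevissLib.isCoh_structureModule Y
  have hηsupp : ∀ q, η ∉ CohB1.support (rO f (q + 1)) := fun q =>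
    notMem_support_rpush_of_finite f hO η ((Set.finite_singleton ξ).subset fun z hz =>
      hfib z ((show f z = η from hz.2).trans (show f ξ = η from hdom).symm)) q
  have hsmall : ∀ q, topologicalKrullDim (CohB1.support (rO f (q + 1))) < (n : ℕ) := fun q => by
    refine dim_lt_of_notMem (QCohLib.isClosed_support _ (isCoh_rO f hf _).2) (fun z _ => ?_) (hηsupp q)
      (Y := Set.univ) (Set.subset_univ _) (dim_le_iff.mpr ((topologicalKrullDim_subspace_le _ _).trans hn.le))
    rw [(genericPoint_spec X).def]; exact trivial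
  have hrk : CurvLib.genRank (rO f 0) = f.residueDegree ξ := by
    rw [← DegPullLib.finrank_stalk_push f f.isClosedMap (CurvLib.isInvertible_structureModule (X := Y)) hfib η hdom rfl]
    exact LinearEquiv.finrank_eq ((DevissLib.St η).mapIso
      ((Scheme.Modules.pushforward f).rightDerivedZeroIsoSelf.app _)).toLinearEquiv
  rw [← hhatF_eq_rank_mul (k := k) hA hL hn.le (isCoh_rO f hf 0) hrk i, hhatF_eq_nrm, hhat_eq_nrm]
  choose C hC using fun q => exists_small_pow (k := k) hA hL (isCoh_rO f hf (q + 1)) (hsmall q)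
  obtain ⟨B, hB⟩ := exists_bound_pow (k := k) hA hL (isCoh_rO f hf 0)
    ((topologicalKrullDim_subspace_le X (CohB1.support (rO f 0))).trans hn.le)
  refine (limsup_nrm_eq (e := fun m => 2 * ∑ j ∈ Finset.range i, ∑ p ∈ Finset.range (i + 1),
      hh k (CohB1.tensorMod (rO f (j + 1)) (CohB1.tensorPow L m)) p)
    (D := 2 * ∑ j ∈ Finset.range i, ∑ _p ∈ Finset.range (i + 1), C j) (hB i) (fun m => ?_) (fun m => ?_)).symm
  · simp only [Finset.mul_sum, Finset.sum_mul]
    refine Finset.sum_le_sum fun j _ => Finset.sum_le_sum fun p _ => ?_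
    rw [mul_left_comm, mul_assoc]
    exact Nat.mul_le_mul_left _ (hC j p m)
  · rw [abs_sub_comm]
    push_cast
    exact pullback_bound f hf hL m i

end GrowthLib

end
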