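import Groth.Agent.GrowthLib.Main

/-!
# The volume
-/

set_option autoImplicit false
set_option linter.style.haveILetI false
set_option maxHeartbeats 1000000
universe u

open CategoryTheory CategoryTheory.Limits AlgebraicGeometry TopologicalSpace Opposite
open HilbPolyLib DevissLib IntMultLib IntFunLib
open HodgeIdxLib (hh)
open scoped ENNReal

noncomputable section

namespace GrowthLib

variable {k : Type u} [Field k] {X : Scheme.{u}} [X.Over (Spec (CommRingCat.of k))]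
  [IsProper (X ↘ Spec (CommRingCat.of k))] [IsIntegral X]

/-- Twisting by an effective module increases sections. -/
theorem hh_pow_le_tensor {L E : X.Modules} (hL : PicF.IsInvertible L) (hE : PicF.IsInvertible E)
    (s : Coh.structureModule X ⟶ E) [Mono s] (m : ℕ) :
    hh k (CohB1.tensorPow L m) 0 ≤ hh k (CohB1.tensorPow (CohB1.tensorMod L E) m) 0 := by
  haveI := CurvLib.isNoetherian k (X := X)
  obtain ⟨a, ha⟩ := NumRLib.mono_tensor hL s
  let e : CohB1.tensorMod L (Coh.structureModule X) ≅ L := HilbPolyLib.swapIso _ _ ≪≫ HilbPolyLib.unitLeft L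
  haveI : Mono (e.inv ≫ a) := mono_comp' inferInstance ha
  have hLE := HilbPolyLib.isInvertible_tensor hL hE
  obtain ⟨ψ, hψ⟩ := exists_mono_pow hL hLE (e.inv ≫ a) m
  exact hh_le_of_mono ψ (CurvLib.isCoh_of_isInvertible (AmpleThLib.tensorPow_isInvertible hL m))
    (CurvLib.isCoh_of_isInvertible (AmpleThLib.tensorPow_isInvertible hLE m))

/-- Sections do not decrease past a degree with sections. -/
theorem hh_pow_mono {L : X.Modules} (hL : PicF.IsInvertible L) {M j : ℕ}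
    (s : Coh.structureModule X ⟶ CohB1.tensorPow L j) [Mono s] :
    hh k (CohB1.tensorPow L M) 0 ≤ hh k (CohB1.tensorPow L (M + j)) 0 := by
  haveI := CurvLib.isNoetherian k (X := X)
  have hM := AmpleThLib.tensorPow_isInvertible hL M
  obtain ⟨a, ha⟩ := NumRLib.mono_tensor hM s
  let e : CohB1.tensorMod (CohB1.tensorPow L M) (Coh.structureModule X) ≅ CohB1.tensorPow L M :=
    HilbPolyLib.swapIso _ _ ≪≫ HilbPolyLib.unitLeft _
  obtain ⟨f⟩ := IntMultLib.nonempty_tensorPow_add L M j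
  haveI : Mono (e.inv ≫ a ≫ f.inv) := mono_comp' inferInstance (mono_comp' ha inferInstance)
  exact hh_le_of_mono (e.inv ≫ a ≫ f.inv) (CurvLib.isCoh_of_isInvertible hM)
    (CurvLib.isCoh_of_isInvertible (AmpleThLib.tensorPow_isInvertible hL (M + j)))

/-- Positive upper growth gives bigness. -/
theorem isBigMod_of_limsup_pos {A : X.Modules} (hA : CohB1.IsAmple A) {L : X.Modules} (hL : PicF.IsInvertible L)
    {d : ℕ} (hd : topologicalKrullDim X = (d : WithBot ℕ∞))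
    (h : 0 < Filter.limsup (fun m : ℕ => (hh k (CohB1.tensorPow L m) 0 : ℝ≥0∞) / (m : ℝ≥0∞) ^ d) Filter.atTop) :
    NumRLib.IsBigMod L := by
  set f : ℕ → ℕ := fun m => hh k (CohB1.tensorPow L m) 0
  obtain ⟨c, hc0, hc⟩ := exists_between h
  have hfreq := Filter.frequently_lt_of_lt_limsup (by isBoundedDefault) hc
  obtain ⟨a, ha⟩ : ∃ a : ℕ, (a : ℝ≥0∞)⁻¹ < c := ENNReal.exists_inv_nat_lt hc0.ne'
  refine isBigMod_of_freq (k := k) hA hL hd ⟨1, a, Nat.one_pos, fun N => ?_⟩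
  obtain ⟨μ, hμ, hμN⟩ := (hfreq.and_eventually (Filter.eventually_ge_atTop (N + 1))).exists
  refine ⟨μ, by omega, ?_⟩
  rw [one_mul]
  have h1 : (a : ℝ≥0∞)⁻¹ < (f μ : ℝ≥0∞) / (μ : ℝ≥0∞) ^ d := ha.trans hμ
  have hμd : ((μ : ℝ≥0∞) ^ d) ≠ 0 := pow_ne_zero _ (by exact_mod_cast (show μ ≠ 0 by omega))
  have hμt : ((μ : ℝ≥0∞) ^ d) ≠ ⊤ := ENNReal.pow_ne_top (ENNReal.natCast_ne_top μ)
  rcases Nat.eq_zero_or_pos a with rfl | hapos
  · simp at ha
  have hta : (a : ℝ≥0∞) ≠ 0 := by exact_mod_cast hapos.ne'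
  have h2 : ((μ : ℝ≥0∞) ^ d) ≤ (a : ℝ≥0∞) * (f μ : ℝ≥0∞) := by
    have h3 := (ENNReal.le_div_iff_mul_le (.inl hμd) (.inl hμt)).mp h1.le
    calc ((μ : ℝ≥0∞) ^ d) = (a : ℝ≥0∞) * ((a : ℝ≥0∞)⁻¹ * (μ : ℝ≥0∞) ^ d) := by
          rw [← mul_assoc, ENNReal.mul_inv_cancel hta (ENNReal.natCast_ne_top a), one_mul]
      _ ≤ _ := mul_le_mul_right h3 _
  exact_mod_cast h2

/-- Homogeneity of the volume. -/
theorem vol_pow {A : X.Modules} (hA : CohB1.IsAmple A) {L : X.Modules} (hL : PicF.IsInvertible L) {d : ℕ}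
    (hd : topologicalKrullDim X = (d : WithBot ℕ∞)) {a : ℕ} (ha : 0 < a) :
    Filter.limsup (fun m : ℕ => (hh k (CohB1.tensorPow (CohB1.tensorPow L a) m) 0 : ℝ≥0∞) / (m : ℝ≥0∞) ^ d) Filter.atTop =
      (a : ℝ≥0∞) ^ d *
        Filter.limsup (fun m : ℕ => (hh k (CohB1.tensorPow L m) 0 : ℝ≥0∞) / (m : ℝ≥0∞) ^ d) Filter.atTop := by
  set f : ℕ → ℝ≥0∞ := fun m => (hh k (CohB1.tensorPow L m) 0 : ℝ≥0∞)
  set g : ℕ → ℝ≥0∞ := fun m => f m / (m : ℝ≥0∞) ^ d
  have had : (a : ℝ≥0∞) ^ d ≠ 0 := pow_ne_zero _ (by exact_mod_cast ha.ne')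
  have hat : (a : ℝ≥0∞) ^ d ≠ ⊤ := ENNReal.pow_ne_top (ENNReal.natCast_ne_top a)
  have e : (fun m : ℕ => (hh k (CohB1.tensorPow (CohB1.tensorPow L a) m) 0 : ℝ≥0∞) / (m : ℝ≥0∞) ^ d) =
      fun m => (a : ℝ≥0∞) ^ d * g (a * m) := by
    funext m
    obtain ⟨φ⟩ := nonempty_pow_pow L a m
    rw [HodgeIdxLib.hh_congr φ 0]
    simp only [g, f, Nat.cast_mul, mul_pow]
    rw [← mul_div_assoc, ENNReal.mul_div_mul_left _ _ had hat]
  rw [e, ENNReal.limsup_const_mul_of_ne_top hat]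
  congr 1
  refine le_antisymm ?_ ?_
  · show Filter.limsup (g ∘ fun m => a * m) Filter.atTop ≤ _
    rw [Filter.limsup_comp]
    exact Filter.limsup_le_limsup_of_le (Filter.tendsto_atTop.mpr fun b =>
      Filter.eventually_atTop.mpr ⟨b, fun m hm => hm.trans (Nat.le_mul_of_pos_left m ha)⟩)
  rcases eq_or_ne (Filter.limsup g Filter.atTop) 0 with h0 | h0
  · rw [h0]; exact zero_le
  have hbig := isBigMod_of_limsup_pos (k := k) hA hL hd (pos_iff_ne_zero.mpr h0)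
  obtain ⟨M₀, hM₀⟩ := exists_sections_of_isBigMod (k := k) hA hL hbig
  refine le_of_forall_gt_imp_ge_of_dense fun b hb => ?_
  obtain ⟨T, hT⟩ := Filter.eventually_atTop.mp (Filter.eventually_lt_of_limsup_lt hb)
  set K := M₀ + a
  have hbound : ∀ᶠ M in Filter.atTop, g M ≤ b * ((((M + K : ℕ) : ℝ≥0∞)) / (M : ℝ≥0∞)) ^ d := by
    refine Filter.eventually_atTop.mpr ⟨a * T + 1, fun M hM => ?_⟩
    set t := (M + M₀) / a + 1
    have ht1 : M + M₀ < a * t := Nat.lt_mul_div_succ _ ha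
    have ht2 : a * t ≤ M + K := by
      have := Nat.mul_div_le (M + M₀) a
      simp only [t, K, Nat.mul_add, Nat.mul_one]; omega
    obtain ⟨s, hs⟩ := hM₀ (a * t - M) (by omega)
    have h1 := hh_pow_mono (k := k) hL (M := M) s
    rw [show M + (a * t - M) = a * t by omega] at h1
    have hTt : T ≤ t := Nat.le_of_mul_le_mul_left (show a * T ≤ a * t by omega) ha
    have h2 := (hT t hTt).le
    have hat0 : ((a * t : ℕ) : ℝ≥0∞) ^ d ≠ 0 := pow_ne_zero _ (by exact_mod_cast (show a * t ≠ 0 by omega))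
    have h3 : f (a * t) ≤ b * ((M + K : ℕ) : ℝ≥0∞) ^ d := by
      have h4 := (ENNReal.div_le_iff hat0 (ENNReal.pow_ne_top (ENNReal.natCast_ne_top _))).mp h2
      exact h4.trans (mul_le_mul_right (pow_le_pow_left₀ zero_le (by exact_mod_cast ht2) d) b)
    have hf : f M ≤ f (a * t) := by simp only [f]; exact_mod_cast h1
    have hMd : ((M : ℕ) : ℝ≥0∞) ^ d ≠ 0 := pow_ne_zero _ (by exact_mod_cast (show M ≠ 0 by omega))
    calc g M ≤ (b * ((M + K : ℕ) : ℝ≥0∞) ^ d) / (M : ℝ≥0∞) ^ d := ENNReal.div_le_div_right (hf.trans h3) _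
      _ = _ := by rw [mul_div_assoc, div_eq_mul_inv, div_eq_mul_inv, mul_pow, ENNReal.inv_pow]
  have hlim : Filter.Tendsto (fun M : ℕ => b * ((((M + K : ℕ) : ℝ≥0∞)) / (M : ℝ≥0∞)) ^ d) Filter.atTop (nhds b) := by
    have h1 : Filter.Tendsto (fun M : ℕ => (((M + K : ℕ) : ℝ≥0∞)) / (M : ℝ≥0∞)) Filter.atTop (nhds 1) := by
      have h2 : Filter.Tendsto (fun M : ℕ => 1 + (K : ℝ≥0∞) * (M : ℝ≥0∞)⁻¹) Filter.atTop (nhds 1) := by
        have := (tendsto_const_nhds (x := (1 : ℝ≥0∞))).add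
          (ENNReal.Tendsto.const_mul ENNReal.tendsto_inv_nat_nhds_zero (.inr (ENNReal.natCast_ne_top K)))
        simpa using this
      refine h2.congr' (Filter.eventually_atTop.mpr ⟨1, fun M hM => ?_⟩)
      show 1 + _ = ((M + K : ℕ) : ℝ≥0∞) / (M : ℝ≥0∞)
      simp only [K, Nat.cast_add, div_eq_mul_inv, add_mul]
      rw [ENNReal.mul_inv_cancel (by exact_mod_cast (show M ≠ 0 by omega)) (ENNReal.natCast_ne_top M)]
    have h3 : Filter.Tendsto (fun M : ℕ => ((((M + K : ℕ) : ℝ≥0∞)) / (M : ℝ≥0∞)) ^ d) Filter.atTop (nhds 1) := by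
      have := (ENNReal.continuous_pow d).continuousAt.tendsto.comp h1
      rwa [one_pow] at this
    have h4 := ENNReal.Tendsto.const_mul (a := b) h3 (.inl one_ne_zero)
    rwa [mul_one] at h4
  exact (Filter.limsup_le_limsup hbound).trans hlim.limsup_eq.le

end GrowthLib
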