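import Groth.Agent.GrowthLib.Asymp2
import Groth.Agent.GrowthLib.Vol
import Groth.Agent.SerreVanLib.Main

/-!
# Top cohomology of large twists
-/

set_option autoImplicit false
set_option linter.style.haveILetI false
universe u

open CategoryTheory CategoryTheory.Limits AlgebraicGeometry TopologicalSpace Opposite
open HilbPolyLib DevissLib IntMultLib IntFunLib
open HodgeIdxLib (hh)
open KFlatLib (pb)

noncomputable section

namespace GrowthLib

variable {k : Type u} [Field k] {X : Scheme.{u}} [X.Over (Spec (CommRingCat.of k))]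
  [IsProper (X ↘ Spec (CommRingCat.of k))]

theorem exists_top_vanishing {A : X.Modules} (hA : CohB1.IsAmple A) {n : ℕ} (hn : 1 ≤ n) :
    ∃ N₀ : ℕ, ∀ m, N₀ ≤ m → hh k (CohB1.tensorPow A m) n = 0 := by
  haveI := CurvLib.isNoetherian k (X := X)
  obtain ⟨N₀, h⟩ := SerreVanLib.exists_vanishing (X ↘ Spec (CommRingCat.of k)) hA.1 hA (Coh.structureModule X)
    (DevissLib.isCoh_structureModule X)
  refine ⟨N₀, fun m hm => ?_⟩
  haveI := h m hm n hn
  rw [← HodgeIdxLib.hh_congr (HilbPolyLib.unitLeft (CohB1.tensorPow A m)) n]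
  exact Module.finrank_zero_of_subsingleton

/-- Top cohomology does not grow along monomorphisms of invertible modules. -/
theorem hh_top_le [IsIntegral X] {n : ℕ} (hn : topologicalKrullDim X = (n : WithBot ℕ∞)) {P Q : X.Modules}
    (hP : PicF.IsInvertible P) (hQ : PicF.IsInvertible Q) (ψ : P ⟶ Q) [Mono ψ] : hh k Q n ≤ hh k P n := by
  haveI := CurvLib.isNoetherian k (X := X)
  have hcP := CurvLib.isCoh_of_isInvertible hP
  have hcQ := CurvLib.isCoh_of_isInvertible hQ
  have hC := QCohLib.isCoh_cokernel ψ hcP.1 hcQ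
  have h1 := (HodgeIdxLib.ses_mk (k := k) ψ (cokernel.π ψ) (cokernel.condition ψ)
    { exact := ShortComplex.exact_cokernel ψ, mono_f := inferInstanceAs (Mono ψ)
      epi_g := inferInstanceAs (Epi (cokernel.π ψ)) } hcP hcQ hC n).1
  have h0 : ψ ≠ 0 := fun h => by
    have hz : IsZero P := (IsZero.iff_id_eq_zero P).mpr (by rw [← cancel_mono ψ, h, comp_zero, comp_zero])
    letI := LMLib.law X
    obtain ⟨P', hP', ⟨eP⟩⟩ := NumRLib.exists_inverse (k := k) hP
    refine NumRLib.not_isZero_structureModule (X := X) ((isZero_of_support_empty ?_).of_iso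
      (eP.symm ≪≫ HilbPolyLib.swapIso P P'))
    rw [HilbPolyLib.support_tensor hP', support_of_isZero hz]
  have hlt : topologicalKrullDim (CohB1.support (cokernel ψ)) < (n : ℕ) := by
    refine dim_lt_of_notMem (QCohLib.isClosed_support _ hC.2) (fun z _ => ?_)
      (CurvLib.generic_notMem_support_cokernel hP hQ h0) (Y := Set.univ) (Set.subset_univ _)
      (dim_le_iff.mpr ((topologicalKrullDim_subspace_le _ _).trans hn.le))
    rw [(genericPoint_spec X).def]; exact trivial
  have hz : hh k (cokernel ψ) n = 0 := by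
    rcases (CohB1.support (cokernel ψ)).eq_empty_or_nonempty with he | hne
    · exact HodgeIdxLib.hh_eq_zero (isZero_of_support_empty he) n
    obtain ⟨n', rfl⟩ : ∃ n', n = n' + 1 := by
      refine ⟨n - 1, ?_⟩
      rcases Nat.eq_zero_or_pos n with rfl | h
      · exact absurd ((IntFunLib.nonneg_dim hne).trans_lt hlt) (lt_irrefl _)
      · omega
    exact hh_eq_zero_of_dim hC (dim_le_iff.mp hlt) (Nat.lt_succ_self _)
  omega

end GrowthLib
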