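import Groth.Agent.GrowthLib.Multi
import Groth.Agent.RegSecLib.Basic
import Groth.Agent.OmegaTFLib.Torsion
import Groth.Agent.EtaleEulerLib.Nilp

/-!
# A bound for the cohomology of the twists of an arbitrary coherent module

For base point free `A`, `B` and a coherent module `F` with support of dimension at most `e`, the cohomology of
`A^a ⊗ B^{-b} ⊗ F` is at most `C_e (a + b + 1)^e` times the cohomology of finitely many fixed twists of `F`, with
`C_e` depending only on `e`.
-/

set_option autoImplicit false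
set_option linter.style.haveILetI false
set_option linter.unusedSectionVars false
set_option maxHeartbeats 1000000
universe u

open CategoryTheory CategoryTheory.Limits AlgebraicGeometry TopologicalSpace Opposite
open HilbPolyLib DevissLib IntMultLib IntFunLib
open HodgeIdxLib (hh)

noncomputable section

namespace GrowthLib

variable {k : Type u} [Field k] {X : Scheme.{u}}

/-- Generated by finitely many global sections. -/
structure FGen (A : X.Modules) : Prop where
  inv : PicF.IsInvertible A
  gen : ∃ (N : ℕ) (s : Fin (N + 1) → Γ(A, (⊤ : X.Opens))),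
    ∀ x : X, ∃ i, AmpleLib.GenAt A (s i) (show x ∈ (⊤ : X.Opens) from trivial)

/-- `A^a ⊗ B^b ⊗ F`. -/
abbrev tw2 (A B : X.Modules) (a b : ℕ) (F : X.Modules) : X.Modules :=
  CohB1.tensorMod (CohB1.tensorPow A a) (CohB1.tensorMod (CohB1.tensorPow B b) F)

/-- One more factor on the right. -/
def tw2SuccB (A B : X.Modules) (a b : ℕ) (F : X.Modules) :
    tw2 A B a b (CohB1.tensorMod B F) ≅ tw2 A B a (b + 1) F :=
  congrRight _ (assocIso (CohB1.tensorPow B b) B F).symm

/-- One more factor on the left. -/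
def tw2SuccA (A B : X.Modules) (a b : ℕ) (F : X.Modules) :
    tw2 A B a b (CohB1.tensorMod A F) ≅ tw2 A B (a + 1) b F :=
  congrRight _ (leftComm (CohB1.tensorPow B b) A F) ≪≫ (assocIso (CohB1.tensorPow A a) A _).symm

/-- A factor cancels its inverse. -/
def cancelIso {A A' : X.Modules} (eA : CohB1.tensorMod A A' ≅ Coh.structureModule X) (F : X.Modules) :
    CohB1.tensorMod A (CohB1.tensorMod A' F) ≅ F :=
  (assocIso A A' F).symm ≪≫ congrLeft eA F ≪≫ unitLeft F

theorem isCoh_tw2 {A B : X.Modules} (hA : PicF.IsInvertible A) (hB : PicF.IsInvertible B) (a b : ℕ) {F : X.Modules}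
    (hF : Coh.IsCoh F) : Coh.IsCoh (tw2 A B a b F) :=
  isCoh_tensor (AmpleThLib.tensorPow_isInvertible hA a) (isCoh_tensor (AmpleThLib.tensorPow_isInvertible hB b) hF)

theorem support_tw2 {A B : X.Modules} (hA : PicF.IsInvertible A) (hB : PicF.IsInvertible B) (a b : ℕ)
    (F : X.Modules) : CohB1.support (tw2 A B a b F) = CohB1.support F := by
  rw [support_tensor (AmpleThLib.tensorPow_isInvertible hA a), support_tensor (AmpleThLib.tensorPow_isInvertible hB b)]

variable [X.Over (Spec (CommRingCat.of k))] [IsProper (X ↘ Spec (CommRingCat.of k))]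

/-- Multiplication by a general section, with small cokernel. -/
theorem exists_cut_general [Infinite k] {A A' : X.Modules} (hA : FGen A) (hA' : PicF.IsInvertible A')
    (eA : CohB1.tensorMod A A' ≅ Coh.structureModule X) {F : X.Modules} (hF : Coh.IsCoh F) {e : ℕ}
    (hd : topologicalKrullDim (CohB1.support F) ≤ (e : ℕ)) :
    ∃ a : CohB1.tensorMod A' F ⟶ F, Mono a ∧ Coh.IsCoh (cokernel a) ∧
      topologicalKrullDim (CohB1.support (cokernel a)) < (e : ℕ) := by
  haveI := CurvLib.isNoetherian k (X := X)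
  obtain ⟨N, s, hs⟩ := hA.gen
  have hk : Infinite (IsLocalRing.ResidueField k) :=
    Infinite.of_injective _ (IsLocalRing.residue k).injective
  obtain ⟨c, hc⟩ := RegSecLib.exists_regular_comb hk (X ↘ Spec (CommRingCat.of k)) A hA.inv s hs
    (fun _ : Fin 1 => CohB1.tensorMod A' F) (fun _ => isCoh_tensor hA' hF)
  let τ : Coh.structureModule X ⟶ A := QCohLib.unitHom A
    (∑ i, (X ↘ Spec (CommRingCat.of k)).appTop ((Scheme.ΓSpecIso (CommRingCat.of k)).inv (c i)) • s i)
  have hm : Mono (((DCoh.tensorBi (X := X)).map τ).app (CohB1.tensorMod A' F)) := (hc 0).2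
  let a : CohB1.tensorMod A' F ⟶ F := (unitLeft (CohB1.tensorMod A' F)).inv ≫
    ((DCoh.tensorBi (X := X)).map τ).app (CohB1.tensorMod A' F) ≫ (cancelIso eA F).hom
  haveI ha : Mono a :=
    @mono_comp _ _ _ _ _ _ inferInstance _ (@mono_comp _ _ _ _ _ _ hm _
      (@IsIso.mono_of_iso _ _ _ _ _ (Iso.isIso_hom (cancelIso eA F))))
  have hC : Coh.IsCoh (cokernel a) := QCohLib.isCoh_cokernel a (isCoh_tensor hA' hF).1 hF
  have hS : (ShortComplex.mk a (cokernel.π a) (cokernel.condition a)).ShortExact :=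
    ShortComplex.ShortExact.mk (ShortComplex.exact_cokernel a)
  have hsub : CohB1.support (cokernel a) ⊆ CohB1.support F := support_epi (cokernel.π a)
  refine ⟨a, ha, hC, OmegaTF.dim_lt_of_points (QCohLib.isClosed_support _ hC.2) fun y hy => ?_⟩
  have hFc := QCohLib.isClosed_support F hF.2
  rcases ((dim_mono (hFc.closure_subset_iff.mpr (Set.singleton_subset_iff.mpr (hsub hy)))).trans hd).lt_or_eq
    with hlt | heq
  · exact hlt
  exfalso
  obtain ⟨T, hT, hfin, -⟩ := additive_eq_sum' (k := k) (fun _ : X.Modules => (0 : ℤ)) (fun _ _ _ => rfl)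
    (fun _ _ _ _ _ => (add_zero 0).symm) (d := e) (fun _ _ _ => rfl) (Y := CohB1.support F) hFc
    ⟨y, hsub hy⟩ hd F hF subset_rfl
  have h1 := len_add hS y
  change len F y = len (CohB1.tensorMod A' F) y + len (cokernel a) y at h1
  rw [EtaleEulerLib.len_tensor (CurvLib.locFree_of_isInvertible hA'), Nat.cast_one, one_mul] at h1
  have h2 : len (cokernel a) y = 0 :=
    (WithTop.add_left_cancel (hfin y ((hT y).mpr ⟨hsub hy, heq⟩)) ((add_zero _).trans h1)).symm
  exact hy (Module.length_eq_zero_iff.mp h2)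

/-- The finitely many twists that control everything. -/
def T2 (k : Type u) [Field k] {X : Scheme.{u}} [X.Over (Spec (CommRingCat.of k))] (A' B' : X.Modules) (e : ℕ)
    (F : X.Modules) : ℕ :=
  ∑ s ∈ Finset.range (e + 1), ∑ t ∈ Finset.range (e + 1), tot k e (tw2 A' B' s t F)

theorem tot_le_T2 (A' B' : X.Modules) {e : ℕ} (F : X.Modules) {s t : ℕ} (hs : s ≤ e) (ht : t ≤ e) :
    tot k e (tw2 A' B' s t F) ≤ T2 k A' B' e F :=
  (Finset.single_le_sum (f := fun t => tot k e (tw2 A' B' s t F)) (fun _ _ => Nat.zero_le _)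
    (Finset.mem_range.mpr (by omega))).trans
  (Finset.single_le_sum (f := fun s => ∑ t ∈ Finset.range (e + 1), tot k e (tw2 A' B' s t F))
    (fun _ _ => Nat.zero_le _) (Finset.mem_range.mpr (by omega)))

theorem tot_le_of_le {e : ℕ} {Q U V : X.Modules} (h : ∀ q, hh k Q q ≤ hh k U q + hh k V (q + 1)) :
    tot k e Q ≤ tot k (e + 1) U + tot k (e + 1) V := by
  refine (Finset.sum_le_sum fun q _ => h q).trans ?_
  rw [Finset.sum_add_distrib]
  refine Nat.add_le_add ?_ ?_
  · exact Finset.sum_le_sum_of_subset (Finset.range_mono (by omega))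
  · rw [tot, Finset.sum_range_succ' (fun q => hh k V q) (e + 1)]
    exact Nat.le_add_right _ _

/-- Twisting the sequence of a section. -/
theorem ses_tw2 {P Q : X.Modules} (hP : PicF.IsInvertible P) (hQ : PicF.IsInvertible Q) (a b : ℕ)
    {G F : X.Modules} (f : G ⟶ F) [Mono f] (hG : Coh.IsCoh G) (hF : Coh.IsCoh F) (p : ℕ) :
    hh k (tw2 P Q a b F) p ≤ hh k (tw2 P Q a b G) p + hh k (tw2 P Q a b (cokernel f)) p ∧
    hh k (tw2 P Q a b (cokernel f)) p ≤ hh k (tw2 P Q a b F) p + hh k (tw2 P Q a b G) (p + 1) ∧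
    hh k (tw2 P Q a b G) (p + 1) ≤ hh k (tw2 P Q a b (cokernel f)) p + hh k (tw2 P Q a b F) (p + 1) ∧
    hh k (tw2 P Q a b G) 0 ≤ hh k (tw2 P Q a b F) 0 := by
  haveI := CurvLib.isNoetherian k (X := X)
  have hS : (ShortComplex.mk f (cokernel.π f) (cokernel.condition f)).ShortExact :=
    ShortComplex.ShortExact.mk (ShortComplex.exact_cokernel f)
  exact HodgeIdxLib.ses_mk (k := k) _ _ _ (shortExact_tensor (AmpleThLib.tensorPow_isInvertible hP a)
    (shortExact_tensor (AmpleThLib.tensorPow_isInvertible hQ b) hS)) (isCoh_tw2 hP hQ a b hG)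
    (isCoh_tw2 hP hQ a b hF) (isCoh_tw2 hP hQ a b (QCohLib.isCoh_cokernel f hG.1 hF)) p

/-- **The bound**, with a constant depending only on the dimension. -/
theorem exists_unif_bound_aux : ∀ e : ℕ, ∃ C : ℕ, ∀ (k : Type u) [Field k] [Infinite k] (X : Scheme.{u})
    [X.Over (Spec (CommRingCat.of k))] [IsProper (X ↘ Spec (CommRingCat.of k))] (A A' B B' : X.Modules), FGen A → PicF.IsInvertible A' →
    FGen B → PicF.IsInvertible B' → (CohB1.tensorMod A A' ≅ Coh.structureModule X) →
    (CohB1.tensorMod B B' ≅ Coh.structureModule X) → ∀ F : X.Modules, Coh.IsCoh F →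
    topologicalKrullDim (CohB1.support F) ≤ (e : ℕ) →
    ∀ p a b : ℕ, hh k (tw2 A B' a b F) p ≤ C * T2 k A' B' e F * (a + b + 1) ^ e := by
  intro e
  induction e with
  | zero =>
    refine ⟨1, fun k _ _ X _ _ A A' B B' hA hA' hB hB' eA eB F hF hd => ?_⟩
    haveI := CurvLib.isNoetherian k (X := X)
    obtain ⟨α, hα, hαc, hαd⟩ := exists_cut_general (k := k) hA hA' eA hF hd
    obtain ⟨β, hβ, hβc, hβd⟩ := exists_cut_general (k := k) hB hB' eB hF hd
    have hz : ∀ Q : X.Modules, topologicalKrullDim (CohB1.support Q) < ((0 : ℕ) : WithBot ℕ∞) →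
        ∀ a b p, hh k (tw2 A B' a b Q) p = 0 := fun Q hQ a b p => by
      refine HodgeIdxLib.hh_eq_zero (isZero_of_support_empty ?_) p
      rw [support_tw2 hA.inv hB']
      exact Set.not_nonempty_iff_eq_empty.mp fun hne => absurd hQ (not_lt.mpr (nonneg_dim hne))
    have h00 : ∀ p, hh k (tw2 A B' 0 0 F) p ≤ T2 k A' B' 0 F := fun p =>
      (hh_le_tot (isCoh_tw2 hA' hB' 0 0 hF) (by rw [support_tw2 hA' hB']; exact hd) p).trans
        (tot_le_T2 A' B' F le_rfl le_rfl)
    suffices h : ∀ a b p, hh k (tw2 A B' a b F) p ≤ hh k (tw2 A B' 0 0 F) p by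
      intro p a b
      simpa using (h a b p).trans (h00 p)
    have hb : ∀ b a p, hh k (tw2 A B' a b F) p ≤ hh k (tw2 A B' a 0 F) p := by
      intro b
      induction b with
      | zero => exact fun a p => le_rfl
      | succ b ih =>
        intro a p
        refine le_trans ?_ (ih a p)
        rw [← HodgeIdxLib.hh_congr (tw2SuccB A B' a b F) p]
        rcases p with _ | q
        · exact (ses_tw2 (k := k) hA.inv hB' a b β (isCoh_tensor hB' hF) hF 0).2.2.2
        · refine (ses_tw2 (k := k) hA.inv hB' a b β (isCoh_tensor hB' hF) hF q).2.2.1.trans ?_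
          rw [hz _ hβd, zero_add]
    intro a b p
    refine (hb b a p).trans ?_
    induction a with
    | zero => exact le_rfl
    | succ a ih =>
      refine le_trans ?_ ih
      refine (ses_tw2 (k := k) hA.inv hB' (a + 1) 0 α (isCoh_tensor hA' hF) hF p).1.trans ?_
      rw [hz _ hαd, add_zero, ← HodgeIdxLib.hh_congr (tw2SuccA A B' a 0 (CohB1.tensorMod A' F)) p]
      exact le_of_eq (HodgeIdxLib.hh_congr (congrRight _ (congrRight _ (cancelIso eA F))) p)
  | succ e ih =>
    obtain ⟨C, hC⟩ := ih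
    refine ⟨1 + 2 * C, fun k _ _ X _ _ A A' B B' hA hA' hB hB' eA eB F hF hd => ?_⟩
    haveI := CurvLib.isNoetherian k (X := X)
    obtain ⟨α, hα, hαc, hαd⟩ := exists_cut_general (k := k) hA hA' eA hF hd
    obtain ⟨β, hβ, hβc, hβd⟩ := exists_cut_general (k := k) hB hB' eB hF hd
    set T := T2 k A' B' (e + 1) F with hT
    have hTα : T2 k A' B' e (cokernel α) ≤ 2 * T := by
      have h1 : T2 k A' B' e (cokernel α) ≤ ∑ s ∈ Finset.range (e + 1), ∑ t ∈ Finset.range (e + 1),
          (tot k (e + 1) (tw2 A' B' s t F) + tot k (e + 1) (tw2 A' B' (s + 1) t F)) := by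
        refine Finset.sum_le_sum fun s _ => Finset.sum_le_sum fun t _ => tot_le_of_le fun q => ?_
        refine (ses_tw2 (k := k) hA' hB' s t α (isCoh_tensor hA' hF) hF q).2.1.trans (le_of_eq ?_)
        rw [HodgeIdxLib.hh_congr (tw2SuccA A' B' s t F) (q + 1)]
      refine h1.trans ?_
      simp only [Finset.sum_add_distrib]
      rw [two_mul, hT, T2]
      refine Nat.add_le_add ?_ ?_
      · exact (Finset.sum_le_sum fun s _ => Finset.sum_le_sum_of_subset (Finset.range_mono (by omega))).trans
          (Finset.sum_le_sum_of_subset (Finset.range_mono (by omega)))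
      · rw [Finset.sum_range_succ' _ (e + 1)]
        exact le_add_right (Finset.sum_le_sum fun s _ => Finset.sum_le_sum_of_subset (Finset.range_mono (by omega)))
    have hTβ : T2 k A' B' e (cokernel β) ≤ 2 * T := by
      have h1 : T2 k A' B' e (cokernel β) ≤ ∑ s ∈ Finset.range (e + 1), ∑ t ∈ Finset.range (e + 1),
          (tot k (e + 1) (tw2 A' B' s t F) + tot k (e + 1) (tw2 A' B' s (t + 1) F)) := by
        refine Finset.sum_le_sum fun s _ => Finset.sum_le_sum fun t _ => tot_le_of_le fun q => ?_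
        refine (ses_tw2 (k := k) hA' hB' s t β (isCoh_tensor hB' hF) hF q).2.1.trans (le_of_eq ?_)
        rw [HodgeIdxLib.hh_congr (tw2SuccB A' B' s t F) (q + 1)]
      refine h1.trans ?_
      simp only [Finset.sum_add_distrib]
      rw [two_mul, hT, T2]
      refine Nat.add_le_add ?_ ?_
      · exact (Finset.sum_le_sum fun s _ => Finset.sum_le_sum_of_subset (Finset.range_mono (by omega))).trans
          (Finset.sum_le_sum_of_subset (Finset.range_mono (by omega)))
      · refine (Finset.sum_le_sum fun s _ => ?_).trans (Finset.sum_le_sum_of_subset (Finset.range_mono (by omega)))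
        rw [Finset.sum_range_succ' _ (e + 1)]
        exact Nat.le_add_right _ _
    have hQα : ∀ p a b, hh k (tw2 A B' a b (cokernel α)) p ≤ 2 * C * T * (a + b + 1) ^ e := fun p a b => by
      refine (hC k X A A' B B' hA hA' hB hB' eA eB _ hαc (dim_le_iff.mp hαd) p a b).trans (Nat.mul_le_mul_right _ ?_)
      exact (Nat.mul_le_mul_left C hTα).trans (le_of_eq (by ring))
    have hQβ : ∀ p a b, hh k (tw2 A B' a b (cokernel β)) p ≤ 2 * C * T * (a + b + 1) ^ e := fun p a b => by
      refine (hC k X A A' B B' hA hA' hB hB' eA eB _ hβc (dim_le_iff.mp hβd) p a b).trans (Nat.mul_le_mul_right _ ?_)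
      exact (Nat.mul_le_mul_left C hTβ).trans (le_of_eq (by ring))
    have h00 : ∀ p, hh k (tw2 A B' 0 0 F) p ≤ T := fun p =>
      (hh_le_tot (isCoh_tw2 hA' hB' 0 0 hF) (by rw [support_tw2 hA' hB']; exact hd) p).trans
        (tot_le_T2 A' B' F (Nat.zero_le _) (Nat.zero_le _))
    have hstep : ∀ a b p, hh k (tw2 A B' a b F) p ≤ T + (a + b) * (2 * C * T * (a + b + 1) ^ e) := by
      intro a b
      induction b with
      | zero =>
        induction a with
        | zero => intro p; simpa using h00 p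
        | succ a iha =>
          intro p
          have h1 := (ses_tw2 (k := k) hA.inv hB' (a + 1) 0 α (isCoh_tensor hA' hF) hF p).1
          have h2 : hh k (tw2 A B' (a + 1) 0 (CohB1.tensorMod A' F)) p = hh k (tw2 A B' a 0 F) p :=
            (HodgeIdxLib.hh_congr (tw2SuccA A B' a 0 (CohB1.tensorMod A' F)) p).symm.trans
              (HodgeIdxLib.hh_congr (congrRight _ (congrRight _ (cancelIso eA F))) p)
          have h3 := hQα p (a + 1) 0
          have h4 := iha p
          have h5 : (a + 0 + 1) ^ e ≤ (a + 1 + 0 + 1) ^ e := Nat.pow_le_pow_left (by omega) e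
          simp only [Nat.add_zero] at h3 h4 h5 ⊢
          have h6 := Nat.mul_le_mul_left (a * (2 * C * T)) h5
          nlinarith [h1, h2, h3, h4, h6]
      | succ b ihb =>
        intro p
        have h5 : (a + b + 1) ^ e ≤ (a + (b + 1) + 1) ^ e := Nat.pow_le_pow_left (by omega) e
        have h6 := Nat.mul_le_mul_left ((a + b) * (2 * C * T)) h5
        rw [← HodgeIdxLib.hh_congr (tw2SuccB A B' a b F) p]
        rcases p with _ | q
        · exact (ses_tw2 (k := k) hA.inv hB' a b β (isCoh_tensor hB' hF) hF 0).2.2.2.trans ((ihb 0).trans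
            (Nat.add_le_add_left (Nat.mul_le_mul (by omega) (Nat.mul_le_mul_left _ h5)) _))
        · have h1 := (ses_tw2 (k := k) hA.inv hB' a b β (isCoh_tensor hB' hF) hF q).2.2.1
          have h3 := hQβ q a b
          have h4 := ihb (q + 1)
          have h7 := Nat.mul_le_mul_left (2 * C * T) h5
          nlinarith [h1, h3, h4, h6, h7]
    intro p a b
    refine (hstep a b p).trans ?_
    have h8 : 1 ≤ (a + b + 1) ^ (e + 1) := Nat.one_le_pow _ _ (by omega)
    have h9 : (a + b) * (a + b + 1) ^ e ≤ (a + b + 1) ^ (e + 1) := by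
      rw [pow_succ']
      exact Nat.mul_le_mul_right _ (by omega)
    nlinarith [Nat.mul_le_mul_left T h8, Nat.mul_le_mul_left (2 * C * T) h9]

/-- The bound over a fixed scheme. -/
theorem exists_unif_bound [Infinite k] (e : ℕ) : ∃ C : ℕ, ∀ (A A' B B' : X.Modules), FGen A → PicF.IsInvertible A' →
    FGen B → PicF.IsInvertible B' → (CohB1.tensorMod A A' ≅ Coh.structureModule X) →
    (CohB1.tensorMod B B' ≅ Coh.structureModule X) → ∀ F : X.Modules, Coh.IsCoh F →
    topologicalKrullDim (CohB1.support F) ≤ (e : ℕ) →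
    ∀ p a b : ℕ, hh k (tw2 A B' a b F) p ≤ C * T2 k A' B' e F * (a + b + 1) ^ e := by
  obtain ⟨C, hC⟩ := exists_unif_bound_aux.{u} e
  exact ⟨C, hC k X⟩

end GrowthLib
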