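import Groth.Agent.GrowthLib.UnifNT
import Groth.Agent.GrowthLib.DualMain

/-!
# Asymptotic cohomology depends only on the numerical class
-/

set_option autoImplicit false
set_option linter.style.haveILetI false
set_option linter.unusedSectionVars false
set_option maxHeartbeats 1000000
universe u

open CategoryTheory CategoryTheory.Limits AlgebraicGeometry TopologicalSpace Opposite
open HodgeIdxLib (hh)

noncomputable section

namespace GrowthLib

variable {k : Type u} [Field k] {X : Scheme.{u}} [X.Over (Spec (CommRingCat.of k))]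
  [IsProper (X ↘ Spec (CommRingCat.of k))] [IsIntegral X] [Infinite k]

theorem hhat_tensor_numTriv {A : X.Modules} (hA : CohB1.IsAmple A) (n : ℕ) (hn : topologicalKrullDim X = n)
    {L P : X.Modules} (hL : PicF.IsInvertible L) (hP : NumTrivLib.NT k P) (p : ℕ) :
    W4c5asymptcohfn.hhat k X n p (CohB1.tensorMod L P) = W4c5asymptcohfn.hhat k X n p L := by
  haveI := CurvLib.isNoetherian k (X := X)
  rw [hhat_eq_nrm, hhat_eq_nrm]
  rcases Nat.eq_zero_or_pos n with rfl | hn0
  · haveI := subsingleton_of_dim_zero (k := k) (X := X) hn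
    congr 1
    congr 1
    funext m
    obtain ⟨a⟩ := CohCmpLib.nonempty_iso_structureModule_of_point ((CohCmpLib.invertible_iff_rank_one _).1
      (AmpleThLib.tensorPow_isInvertible (HilbPolyLib.isInvertible_tensor hL hP.inv) m))
    obtain ⟨b⟩ := CohCmpLib.nonempty_iso_structureModule_of_point ((CohCmpLib.invertible_iff_rank_one _).1
      (AmpleThLib.tensorPow_isInvertible hL m))
    exact HodgeIdxLib.hh_congr (a ≪≫ b.symm) p
  · obtain ⟨e, rfl⟩ : ∃ e, n = e + 1 := ⟨n - 1, by omega⟩
    obtain ⟨N, i, hi, hib⟩ := NumTrivLib.exists_embedding (k := k) hA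
    haveI := hi
    obtain ⟨D, hD⟩ := exists_diff_NT (k := k) i hib hL hn.le
    obtain ⟨C, hC⟩ := exists_bound_pow (k := k) hA (HilbPolyLib.isInvertible_tensor hL hP.inv)
      (DevissLib.isCoh_structureModule X) (e := e + 1) ((topologicalKrullDim_subspace_le _ _).trans hn.le)
    refine limsup_nrm_eq (e := fun m => D * (m + 1) ^ e) (D := D) (C := C) (fun m => ?_) (fun m => le_of_eq ?_) fun m => ?_
    · exact (le_of_eq (HodgeIdxLib.hh_congr (HilbPolyLib.unitLeft _).symm p)).trans (hC p m)
    · rw [mul_left_comm, ← pow_succ']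
    · obtain ⟨em⟩ := BddFamLib.nonempty_pow_tensor L P m
      rw [HodgeIdxLib.hh_congr em p]
      exact hD _ (hP.pow m) m p

end GrowthLib
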