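import Groth.Agent.GrowthLib.UnifBound
import Groth.Agent.GrowthLib.Asymp
import Groth.Agent.GrowthLib.GlobGen
import Groth.Agent.NumTrivLib.Main
import Groth.Agent.BddFamLib.Roots

/-!
# Numerically trivial twists change asymptotic cohomology only in lower order
-/

set_option autoImplicit false
set_option linter.style.haveILetI false
set_option linter.unusedSectionVars false
set_option maxHeartbeats 1000000
universe u

open CategoryTheory CategoryTheory.Limits AlgebraicGeometry TopologicalSpace Opposite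
open HilbPolyLib DevissLib IntMultLib IntFunLib
open HodgeIdxLib (hh)
open KFlatLib (pb)
open NumTrivLib (NT Good Reg Bdd hq tw good_all)

noncomputable section

namespace GrowthLib

variable {k : Type u} [Field k] {X : Scheme.{u}} [X.Over (Spec (CommRingCat.of k))]
  [IsProper (X ↘ Spec (CommRingCat.of k))]

variable (k) in
include k in
theorem fgen_of_gg {L : X.Modules} (hL : PicF.IsInvertible L) (hgen : Curv2.IsGloballyGenerated L) : FGen L := by
  classical
  haveI := CurvLib.isNoetherian k (X := X)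
  refine ⟨hL, ?_⟩
  choose σ hσ using fun x => Groth.Agent.S1611.exists_genAt_of_gg hL hgen x
  obtain ⟨t, ht⟩ := isCompact_univ.elim_finite_subcover (fun x : X => (TwistLib.genSet hL (σ x) : Set X))
    (fun x => (TwistLib.genSet hL (σ x)).2) (fun x _ => Set.mem_iUnion.mpr ⟨x, hσ x⟩)
  refine ⟨t.card, fun i => if h : i.1 < t.card then σ (t.equivFin.symm ⟨i.1, h⟩).1 else 0, fun y => ?_⟩
  obtain ⟨x, hx, hy⟩ := Set.mem_iUnion₂.mp (ht (Set.mem_univ y))
  refine ⟨⟨(t.equivFin ⟨x, hx⟩).1, by omega⟩, ?_⟩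
  simp only [(t.equivFin ⟨x, hx⟩).2, dite_true, Fin.eta, Equiv.symm_apply_apply]
  exact hy

omit [IsProper (X ↘ Spec (CommRingCat.of k))] in
theorem exists_hom_of_hh_pos {M : X.Modules} (h : 0 < hh k M 0) : ∃ σ : Coh.structureModule X ⟶ M, σ ≠ 0 := by
  by_contra hne
  push Not at hne
  have hs : Subsingleton Γ(M, ⊤) := subsingleton_of_forall_eq 0 fun x => by
    have h1 := congrArg (fun f : Coh.structureModule X ⟶ M => f.app ⊤ (1 : Γ(X, ⊤))) (hne (QCohLib.unitHom M x))
    simp only [QCohLib.unitHom_app] at h1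
    simp only [one_smul] at h1
    rw [show (homOfLE (le_top : (⊤ : X.Opens) ≤ ⊤)).op = 𝟙 _ from rfl, M.presheaf.map_id] at h1
    exact h1
  haveI : Subsingleton (Coh.HH X M 0) := (DegPullLib.e0 M).injective.subsingleton
  have : hh k M 0 = 0 := Module.finrank_zero_of_subsingleton
  omega

variable {n : ℕ} (i : X ⟶ CohB1.ProjSpace n k) [IsClosedImmersion i]
  (hi : i ≫ CohB1.ProjSpace.toSpec n k = X ↘ Spec (CommRingCat.of k))

local notation "O'" => Twist.twistProjSpace n k

include hi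

/-- The cohomology of the twists of a fixed coherent module by numerically trivial modules is bounded. -/
theorem exists_bdd_twist {G : X.Modules} (hG : Coh.IsCoh G) (q : ℕ) :
    ∃ b : ℕ, ∀ T : X.Modules, NT k T → hh k (CohB1.tensorMod T G) q ≤ b := by
  haveI := CurvLib.isNoetherian k (X := X)
  obtain ⟨D, hD⟩ := HilbPolyLib.exists_dim_lt k (X := X)
  obtain ⟨b, hb⟩ := ((good_all i hi D).2 G hG ((topologicalKrullDim_subspace_le _ _).trans_lt hD)).bdd q 0
  obtain ⟨e0⟩ := PicPnLib.twist_zero n k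
  refine ⟨b, fun T hT => le_trans (le_of_eq ?_) (hb T hT)⟩
  rw [← NumTrivLib.finrank_tw i hi (isCoh_tensor hT.inv hG) q 0]
  exact HodgeIdxLib.hh_congr
    ((congrLeft ((Scheme.Modules.pullback i).mapIso e0 ≪≫ KFlatLib.pullUnitIso i) _ ≪≫ unitLeft _).symm) q

/-- A single twist giving every numerically trivial module a section. -/
theorem exists_twist_section [IsIntegral X] :
    ∃ d : ℤ, ∀ T : X.Modules, NT k T → 0 < hh k (CohB1.tensorMod (pb i (O' d)) T) 0 := by
  haveI := CurvLib.isNoetherian k (X := X)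
  haveI := MumfordLib.isProper_projSpace (n := n) k
  obtain ⟨D, hD⟩ := HilbPolyLib.exists_dim_lt k (X := X)
  have hO := DevissLib.isCoh_structureModule X
  obtain ⟨hI, hG⟩ := good_all i hi D
  have hsup : ∀ F : X.Modules, topologicalKrullDim (CohB1.support F) < (D : ℕ) := fun F =>
    (topologicalKrullDim_subspace_le _ _).trans_lt hD
  obtain ⟨m, hm⟩ := (hG _ hO (hsup _)).van
  let F0 := CohB1.tensorMod (Coh.structureModule X) (Coh.structureModule X)
  have hF0 : Coh.IsCoh F0 := isCoh_tensor CurvLib.isInvertible_structureModule hO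
  have hA : ∀ d : ℤ, PicF.IsInvertible (pb i (O' d)) := fun d =>
    AmpleDevLib.isInvertible_pb i (PicPnLib.twist_inv n k d)
  refine ⟨m, fun T hT => ?_⟩
  -- the value does not depend on the numerically trivial module
  have key : ∀ U : X.Modules, NT k U → Curv2.euler k X (CohB1.tensorMod (pb i (O' m)) (CohB1.tensorMod U
      (Coh.structureModule X))) = (hq k i (CohB1.tensorMod U (Coh.structureModule X)) 0 m : ℤ) := fun U hU => by
    rw [NumTrivLib.euler_eq_two i hi (isCoh_tensor hU.inv hO) m fun q hq => hm U hU q (by omega) m (by omega)]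
    haveI := hm U hU 1 le_rfl m (by omega)
    rw [show hq k i (CohB1.tensorMod U (Coh.structureModule X)) 1 m = 0 from Module.finrank_zero_of_subsingleton]
    simp
  have h1 := key T hT
  have h2 := key _ (NT.unit (k := k) (X := X))
  have hOm : Coh.IsCoh (CohB1.tensorMod (pb i (O' m)) (Coh.structureModule X)) := isCoh_tensor (hA m) hO
  have h3 := hI T hT _ hOm (hsup _)
  have h4 := hI _ NT.unit _ hOm (hsup _)
  simp only [NumTrivLib.Φ, sub_eq_zero] at h3 h4
  rw [CurvLib.euler_congr (leftComm _ T _), h3] at h1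
  rw [CurvLib.euler_congr (leftComm _ (Coh.structureModule X) _), h4] at h2
  -- positivity for the trivial module
  have hpos : hq k i F0 0 m ≠ 0 := by
    intro h0
    have hW : Coh.IsCoh (tw k i F0 m) :=
      QCohLib.isCoh_of_iso (swapIso _ _) (isCoh_tensor (PicPnLib.twist_inv n k m) (NumTrivLib.isCoh_push k i hF0))
    have hreg : Curv2.IsMRegular k n (tw k i F0 m) 0 := fun q hq _ => by
      obtain ⟨t⟩ := PicPnLib.twist_add n k m (0 - (q : ℤ))
      haveI := hm _ NT.unit q hq (m + (0 - (q : ℤ))) (by omega)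
      exact SerreVanLib.subsingleton_HH_of_iso (assocIso _ _ _ ≪≫ congrRight _ t) q this
    obtain ⟨t⟩ := PicPnLib.twist_add n k m 0
    have hz : MumfordLib.chi k (tw k i F0 m) 0 = 0 := by
      rw [MumfordLib.chi_eq_h0 k hW.1 hreg 0 (by omega),
        (CurvLib.hIso (k := k) (assocIso _ _ _ ≪≫ congrRight _ (t ≪≫ eqToIso (by rw [add_zero]))) 0).finrank_eq]
      exact_mod_cast h0
    have hzero := MumfordLib.isZero_of_h0 k _ hW hreg hz
    obtain ⟨e⟩ := NumTrivLib.nonempty_tw_push i F0 m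
    have hzp : IsZero ((Coh.push i).obj (CohB1.tensorMod (pb i (O' m)) F0)) := hzero.of_iso e.symm
    have hzX : IsZero (CohB1.tensorMod (pb i (O' m)) F0) := by
      rw [IsZero.iff_id_eq_zero]
      haveI := CycKSuppLib.faithful_push i
      exact (Scheme.Modules.pushforward i).map_injective (hzp.eq_of_src _ _)
    refine NumRLib.not_isZero_structureModule (X := X) (isZero_of_support_empty ?_)
    rw [← support_tensor CurvLib.isInvertible_structureModule, ← support_tensor (hA m)]
    exact support_of_isZero hzX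
  have he : hh k (CohB1.tensorMod (pb i (O' m)) T) 0 = hq k i (CohB1.tensorMod T (Coh.structureModule X)) 0 m :=
    (HodgeIdxLib.hh_congr (congrRight _ ((swapIso _ _ ≪≫ unitLeft T).symm)) 0).trans
      (NumTrivLib.finrank_tw i hi (isCoh_tensor hT.inv hO) 0 m)
  have hpos' : hq k i (CohB1.tensorMod (Coh.structureModule X) (Coh.structureModule X)) 0 m ≠ 0 := hpos
  rw [he]
  omega

variable [IsIntegral X] [Infinite k]

/-- **Numerically trivial twists cost lower order terms only.** -/
theorem exists_diff_NT {L : X.Modules} (hL : PicF.IsInvertible L) {e : ℕ}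
    (he : topologicalKrullDim X ≤ ((e + 1 : ℕ) : WithBot ℕ∞)) :
    ∃ D : ℕ, ∀ (T : X.Modules), NT k T → ∀ m p : ℕ,
      |(hh k (CohB1.tensorMod (CohB1.tensorPow L m) T) p : ℤ) - hh k (CohB1.tensorPow L m) p| ≤
        ((D * (m + 1) ^ e : ℕ) : ℤ) := by
  haveI := CurvLib.isNoetherian k (X := X)
  have hH := NumTrivLib.isAmple_H (k := k) i
  obtain ⟨n₁, hn₁0, hn₁⟩ := MiscFlat6.eventually_ample_globallyGenerated hH hL
  obtain ⟨n₂, -, hn₂⟩ := MiscFlat6.eventually_ample_globallyGenerated hH (CurvLib.isInvertible_structureModule (X := X))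
  let H := pb i (O' 1)
  let j := n₁ + n₂
  let A := CohB1.tensorMod (CohB1.tensorPow H j) L
  let B := CohB1.tensorMod (CohB1.tensorPow H j) (Coh.structureModule X)
  have hA : FGen A := fgen_of_gg k (isInvertible_tensor (AmpleThLib.tensorPow_isInvertible hH.1 j) hL)
    (hn₁ j (Nat.le_add_right _ _)).2
  have hB : FGen B := fgen_of_gg (k := k)
    (isInvertible_tensor (AmpleThLib.tensorPow_isInvertible hH.1 j) CurvLib.isInvertible_structureModule)
    (hn₂ j (Nat.le_add_left _ _)).2
  obtain ⟨A', ⟨eA⟩⟩ : ∃ A', Nonempty (CohB1.tensorMod A A' ≅ Coh.structureModule X) :=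
    ⟨MiscFlat6.dual A, MiscFlat6.nonempty_dualIso hA.inv⟩
  obtain ⟨B', ⟨eB⟩⟩ : ∃ B', Nonempty (CohB1.tensorMod B B' ≅ Coh.structureModule X) :=
    ⟨MiscFlat6.dual B, MiscFlat6.nonempty_dualIso hB.inv⟩
  have hA' := IntMultLib.isInvertible_of_inverse hA.inv eA
  have hB' := IntMultLib.isInvertible_of_inverse hB.inv eB
  -- `L = A ⊗ B'`
  have eL : L ≅ CohB1.tensorMod A B' :=
    (congrRight L eB ≪≫ swapIso _ _ ≪≫ unitLeft L).symm ≪≫
      congrRight L (congrLeft (swapIso _ _ ≪≫ unitLeft _) B') ≪≫ leftComm L _ B' ≪≫ (assocIso _ L B').symm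
  obtain ⟨d, hd⟩ := exists_twist_section i hi
  let H₁ := pb i (O' d)
  have hH₁ : PicF.IsInvertible H₁ := AmpleDevLib.isInvertible_pb i (PicPnLib.twist_inv n k d)
  obtain ⟨H₂, ⟨eH⟩⟩ : ∃ H₂, Nonempty (CohB1.tensorMod H₁ H₂ ≅ Coh.structureModule X) :=
    ⟨MiscFlat6.dual H₁, MiscFlat6.nonempty_dualIso hH₁⟩
  have hH₂ := IntMultLib.isInvertible_of_inverse hH₁ eH
  have hO := DevissLib.isCoh_structureModule X
  have hH₂O := isCoh_tensor hH₂ hO
  -- the uniform bounds for the finitely many twists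
  choose b hb using fun (s : ℕ) (t : ℕ) (q : ℕ) =>
    exists_bdd_twist i hi (isCoh_tw2 hA' hB' s t hO) q
  obtain ⟨C, hC⟩ := exists_unif_bound (k := k) (X := X) e
  set M := ∑ s ∈ Finset.range (e + 1), ∑ t ∈ Finset.range (e + 1), ∑ q ∈ Finset.range (e + 1),
    (b s t q + hh k (tw2 A' B' s t (CohB1.tensorMod H₂ (Coh.structureModule X))) (q + 1))
  refine ⟨4 * C * M * 2 ^ e, fun T hT m p => ?_⟩
  -- the comparison with `H₂` for an arbitrary numerically trivial module
  have main : ∀ U : X.Modules, NT k U →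
      |(hh k (CohB1.tensorMod (CohB1.tensorPow L m) U) p : ℤ) -
        hh k (CohB1.tensorMod (CohB1.tensorPow L m) (CohB1.tensorMod H₂ (Coh.structureModule X))) p| ≤
        ((2 * C * M * 2 ^ e * (m + 1) ^ e : ℕ) : ℤ) := by
    intro U hU
    have hV := isInvertible_tensor hH₁ hU.inv
    obtain ⟨σ, hσ⟩ := exists_hom_of_hh_pos (k := k) (hd U hU)
    obtain ⟨hQ0, hQ0d⟩ := dim_cok_lt k he hV hσ
    have hS0 := shortExact_tensor hH₂ (HodgeIdxLib.cokSeq_shortExact hV hσ)
    let Q := CohB1.tensorMod H₂ (cokernel σ)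
    have hQ : Coh.IsCoh Q := isCoh_tensor hH₂ hQ0
    have hQd : topologicalKrullDim (CohB1.support Q) ≤ (e : ℕ) := by
      rw [support_tensor hH₂]; exact dim_le_iff.mp hQ0d
    let cU : CohB1.tensorMod H₂ (CohB1.tensorMod H₁ U) ≅ U := cancelIso (swapIso _ _ ≪≫ eH) U
    have hses : ∀ (P : X.Modules), PicF.IsInvertible P → ∀ q,
        hh k (CohB1.tensorMod P U) q ≤ hh k (CohB1.tensorMod P (CohB1.tensorMod H₂ (Coh.structureModule X))) q +
            hh k (CohB1.tensorMod P Q) q ∧
        hh k (CohB1.tensorMod P Q) q ≤ hh k (CohB1.tensorMod P U) q +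
            hh k (CohB1.tensorMod P (CohB1.tensorMod H₂ (Coh.structureModule X))) (q + 1) ∧
        hh k (CohB1.tensorMod P (CohB1.tensorMod H₂ (Coh.structureModule X))) (q + 1) ≤
            hh k (CohB1.tensorMod P Q) q + hh k (CohB1.tensorMod P U) (q + 1) ∧
        hh k (CohB1.tensorMod P (CohB1.tensorMod H₂ (Coh.structureModule X))) 0 ≤
            hh k (CohB1.tensorMod P U) 0 := fun P hP q => by
      have h := HodgeIdxLib.ses_mk (k := k) _ _ _ (shortExact_tensor hP hS0) (isCoh_tensor hP hH₂O)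
        (isCoh_tensor hP (isCoh_tensor hH₂ (CurvLib.isCoh_of_isInvertible hV))) (isCoh_tensor hP hQ) q
      change hh k (CohB1.tensorMod P (CohB1.tensorMod H₂ (CohB1.tensorMod H₁ U))) q ≤ _ ∧ _ at h
      rw [← HodgeIdxLib.hh_congr (congrRight P cU) q, ← HodgeIdxLib.hh_congr (congrRight P cU) (q + 1),
        ← HodgeIdxLib.hh_congr (congrRight P cU) 0]
      exact h
    have hT2 : T2 k A' B' e Q ≤ M := by
      refine Finset.sum_le_sum fun s _ => Finset.sum_le_sum fun t _ => Finset.sum_le_sum fun q _ => ?_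
      have e2 : ∀ G : X.Modules, tw2 A' B' s t G ≅
          CohB1.tensorMod (CohB1.tensorMod (CohB1.tensorPow A' s) (CohB1.tensorPow B' t)) G :=
        fun G => (assocIso _ _ G).symm
      have hP := isInvertible_tensor (AmpleThLib.tensorPow_isInvertible hA' s) (AmpleThLib.tensorPow_isInvertible hB' t)
      rw [HodgeIdxLib.hh_congr (e2 Q) q, HodgeIdxLib.hh_congr (e2 (CohB1.tensorMod H₂ (Coh.structureModule X))) (q + 1)]
      refine (hses _ hP q).2.1.trans (Nat.add_le_add_right (le_trans (le_of_eq ?_) (hb s t q U hU)) _)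
      exact HodgeIdxLib.hh_congr (swapIso _ _ ≪≫ congrRight U
        (congrRight _ (swapIso _ _ ≪≫ unitLeft _)).symm) q
    obtain ⟨eLm⟩ := nonempty_tensorPow_congr eL m
    obtain ⟨ePm⟩ := BddFamLib.nonempty_pow_tensor A B' m
    have hQb : ∀ q, hh k (CohB1.tensorMod (CohB1.tensorPow L m) Q) q ≤ C * M * (2 ^ e * (m + 1) ^ e) := fun q => by
      rw [HodgeIdxLib.hh_congr (congrLeft (eLm ≪≫ ePm) Q ≪≫ assocIso _ _ Q) q]
      refine (hC A A' B B' hA hA' hB hB' eA eB Q hQ hQd q m m).trans ?_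
      refine Nat.mul_le_mul (Nat.mul_le_mul_left C hT2) ?_
      rw [← mul_pow]
      exact Nat.pow_le_pow_left (by omega) e
    have hPm := AmpleThLib.tensorPow_isInvertible hL m
    have hnn : 0 ≤ ((C * M * (2 ^ e * (m + 1) ^ e) : ℕ) : ℤ) := by positivity
    rw [show ((2 * C * M * 2 ^ e * (m + 1) ^ e : ℕ) : ℤ) = 2 * ((C * M * (2 ^ e * (m + 1) ^ e) : ℕ) : ℤ) by
      push_cast; ring, abs_le]
    rcases p with _ | q
    · obtain ⟨h1, -, -, h4⟩ := hses _ hPm 0
      have := hQb 0
      omega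
    · obtain ⟨h1, -, -, -⟩ := hses _ hPm (q + 1)
      obtain ⟨-, -, h3, -⟩ := hses _ hPm q
      have := hQb (q + 1)
      have := hQb q
      omega
  have h1 := main T hT
  have h2 := main _ NT.unit
  rw [HodgeIdxLib.hh_congr (show CohB1.tensorMod (CohB1.tensorPow L m) (Coh.structureModule X) ≅ CohB1.tensorPow L m
    from swapIso _ _ ≪≫ unitLeft _) p] at h2
  rw [show ((4 * C * M * 2 ^ e * (m + 1) ^ e : ℕ) : ℤ) = 2 * ((2 * C * M * 2 ^ e * (m + 1) ^ e : ℕ) : ℤ) by
    push_cast; ring]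
  rw [abs_le] at h1 h2 ⊢
  omega

end GrowthLib
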