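import Groth.Agent.GrowthLib.AmpleNT

/-!
# The volume depends only on the numerical class; big modules absorb numerically trivial ones
-/

set_option autoImplicit false
set_option linter.style.haveILetI false
set_option linter.unusedSectionVars false
set_option maxHeartbeats 1000000
universe u

open CategoryTheory CategoryTheory.Limits AlgebraicGeometry TopologicalSpace Opposite
open HodgeIdxLib (hh)
open NumTrivLib (NT)
open CubeConsLib (cl cl_eq_iff cl_tensor)
open scoped ENNReal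

noncomputable section

namespace GrowthLib

variable (k : Type u) [Field k] (X : Scheme.{u}) [X.Over (Spec (CommRingCat.of k))]
  [IsProper (X ↘ Spec (CommRingCat.of k))] [IsIntegral X]

theorem exists_section_mono {T : X.Modules} (hT : PicF.IsInvertible T) (h : 0 < hh k T 0) :
    ∃ s : Coh.structureModule X ⟶ T, Mono s := by
  obtain ⟨s, hs⟩ := CurvLib.exists_hom_ne_zero (L := T) (Module.nontrivial_of_finrank_pos h)
  exact ⟨s, CurvLib.mono_of_ne_zero CurvLib.isInvertible_structureModule hT hs⟩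

/-- Twisting by numerically trivial modules raises `h^0` by a small error only. -/
theorem exists_err_NT {A : X.Modules} (hA : CohB1.IsAmple A) {n : ℕ} (hn : topologicalKrullDim X = (n : WithBot ℕ∞))
    {L : X.Modules} (hL : PicF.IsInvertible L) :
    ∃ (g : ℕ → ℕ) (C : ℕ), (∀ m, (m + 1) * g m ≤ C * (m + 1) ^ n) ∧ ∀ (m : ℕ) (N : X.Modules), NT k N →
      hh k (CohB1.tensorMod (CohB1.tensorPow L m) N) 0 ≤ hh k (CohB1.tensorPow L m) 0 + g m := by
  haveI := CurvLib.isNoetherian k (X := X)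
  obtain ⟨m₀, hm₀⟩ := exists_h0_ampleNT k X hA
  let B := CohB1.tensorPow A m₀
  have hB : PicF.IsInvertible B := AmpleThLib.tensorPow_isInvertible hA.1 m₀
  obtain ⟨τ, hτ⟩ := exists_section_mono k X hB (hm₀ m₀ le_rfl _ NumTrivLib.NT.unit).2
  have hτ0 := NumRLib.ne_zero_of_mono τ
  obtain ⟨hQ, hQd⟩ := dim_cok_le k hn hB hτ0
  obtain ⟨C, hC⟩ := exists_bound_lower (k := k) hA hL hQ hQd
  refine ⟨fun m => hh k (CohB1.tensorMod (CohB1.tensorPow L m) (cokernel τ)) 0, C, hC, fun m N hN => ?_⟩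
  obtain ⟨eN⟩ := MiscFlat6.nonempty_dualIso hN.inv
  have hN' : NT k (MiscFlat6.dual N) := hN.inverse eN
  have hBN : PicF.IsInvertible (CohB1.tensorMod B (MiscFlat6.dual N)) := HilbPolyLib.isInvertible_tensor hB hN'.inv
  obtain ⟨σ, hσ⟩ := exists_section_mono k X hBN (by
    obtain ⟨h1, h2⟩ := hm₀ m₀ le_rfl _ hN'
    exact h1 ▸ h2)
  have hLm := AmpleThLib.tensorPow_isInvertible hL m
  have hLN := HilbPolyLib.isInvertible_tensor hLm hN.inv
  haveI : Mono σ := hσ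
  obtain ⟨χ, hχ⟩ := exists_mono_mul hLN CurvLib.isInvertible_structureModule (𝟙 _) σ
  obtain ⟨e₁⟩ : Nonempty (CohB1.tensorMod (CohB1.tensorPow L m) N ≅
      CohB1.tensorMod (CohB1.tensorMod (CohB1.tensorPow L m) N) (Coh.structureModule X)) :=
    ⟨(HilbPolyLib.swapIso _ _ ≪≫ HilbPolyLib.unitLeft _).symm⟩
  obtain ⟨e₂⟩ : Nonempty (CohB1.tensorMod (CohB1.tensorMod (CohB1.tensorPow L m) N)
      (CohB1.tensorMod B (MiscFlat6.dual N)) ≅ CohB1.tensorMod (CohB1.tensorPow L m) B) := by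
    rw [← cl_eq_iff, cl_tensor, cl_tensor, cl_tensor, cl_tensor, mul_mul_mul_comm, ← cl_tensor N,
      cl_eq_iff.2 ⟨eN⟩]
    exact mul_one _
  haveI := hχ
  refine (hh_le_of_mono (k := k) (e₁.hom ≫ χ ≫ e₂.hom) (CurvLib.isCoh_of_isInvertible hLN)
    (CurvLib.isCoh_of_isInvertible (HilbPolyLib.isInvertible_tensor hLm hB))).trans ?_
  exact HodgeIdxLib.ses_cok hB hLm hτ0 hQ 0

/-- **Numerical invariance of the volume.** -/
theorem limsup_vol_NT {A : X.Modules} (hA : CohB1.IsAmple A) {n : ℕ} (hn : topologicalKrullDim X = (n : WithBot ℕ∞))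
    {L N : X.Modules} (hL : PicF.IsInvertible L) (hN : NT k N) :
    Filter.limsup (fun m : ℕ => (hh k (CohB1.tensorPow (CohB1.tensorMod L N) m) 0 : ℝ≥0∞) /
        (m : ℝ≥0∞) ^ n) Filter.atTop =
      Filter.limsup (fun m : ℕ => (hh k (CohB1.tensorPow L m) 0 : ℝ≥0∞) / (m : ℝ≥0∞) ^ n) Filter.atTop := by
  have key : ∀ {L N : X.Modules}, PicF.IsInvertible L → NT k N →
      Filter.limsup (fun m : ℕ => (hh k (CohB1.tensorPow (CohB1.tensorMod L N) m) 0 : ℝ≥0∞) /
          (m : ℝ≥0∞) ^ n) Filter.atTop ≤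
        Filter.limsup (fun m : ℕ => (hh k (CohB1.tensorPow L m) 0 : ℝ≥0∞) / (m : ℝ≥0∞) ^ n) Filter.atTop := by
    intro L N hL hN
    obtain ⟨g, C, hg, hLg⟩ := exists_err_NT k X hA hn hL
    have hw : Filter.Tendsto (fun m : ℕ => (g m : ℝ≥0∞) / (m : ℝ≥0∞) ^ n) Filter.atTop (nhds 0) := by
      refine tendsto_of_tendsto_of_tendsto_of_le_of_le' tendsto_const_nhds
        (g := fun _ => (0 : ℝ≥0∞)) (h := fun m : ℕ => ((C * 2 ^ n : ℕ) : ℝ≥0∞) * ((m : ℝ≥0∞))⁻¹) ?_
        (Filter.Eventually.of_forall fun _ => bot_le) (Filter.eventually_atTop.2 ⟨1, fun m hm => ?_⟩)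
      · simpa using ENNReal.Tendsto.const_mul (a := ((C * 2 ^ n : ℕ) : ℝ≥0∞)) ENNReal.tendsto_inv_nat_nhds_zero
          (Or.inr (ENNReal.natCast_ne_top _))
      · have h1 : m * g m ≤ C * 2 ^ n * m ^ n := by
          refine (Nat.mul_le_mul_right _ m.le_succ).trans ((hg m).trans ?_)
          rw [mul_assoc, ← mul_pow]
          exact Nat.mul_le_mul_left _ (Nat.pow_le_pow_left (by omega) n)
        rw [← div_eq_mul_inv]
        have h0 : (m : ℝ≥0∞) ≠ 0 := by simp; omega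
        rw [ENNReal.le_div_iff_mul_le (Or.inl h0) (Or.inl (ENNReal.natCast_ne_top _)), mul_comm, ← mul_div_assoc]
        refine ENNReal.div_le_of_le_mul ?_
        exact_mod_cast h1
    refine le_of_forall_gt_imp_ge_of_dense fun b hb => ?_
    obtain ⟨c, hc1, hc2⟩ := exists_between hb
    have e1 := Filter.eventually_lt_of_limsup_lt hc1
    have e2 := hw.eventually_lt_const (tsub_pos_of_lt hc2)
    refine Filter.limsup_le_of_le (by isBoundedDefault) ((e1.and e2).mono fun m hm => ?_)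
    obtain ⟨em⟩ := BddFamLib.nonempty_pow_tensor L N m
    refine le_trans ?_ (le_of_le_of_eq (add_le_add hm.1.le hm.2.le) (add_tsub_cancel_of_le hc2.le))
    show (hh k (CohB1.tensorPow (CohB1.tensorMod L N) m) 0 : ℝ≥0∞) / (m : ℝ≥0∞) ^ n ≤
      (hh k (CohB1.tensorPow L m) 0 : ℝ≥0∞) / (m : ℝ≥0∞) ^ n + (g m : ℝ≥0∞) / (m : ℝ≥0∞) ^ n
    rw [← ENNReal.add_div]
    refine ENNReal.div_le_div_right ?_ _
    rw [HodgeIdxLib.hh_congr em 0]
    exact_mod_cast hLg m _ (hN.pow m)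
  refine le_antisymm (key hL hN) ?_
  obtain ⟨eN⟩ := MiscFlat6.nonempty_dualIso hN.inv
  refine le_trans (le_of_eq ?_) (key (HilbPolyLib.isInvertible_tensor hL hN.inv) (hN.inverse eN))
  refine congrArg (fun f => Filter.limsup f Filter.atTop) (funext fun m => ?_)
  obtain ⟨e⟩ : Nonempty (CohB1.tensorPow (CohB1.tensorMod (CohB1.tensorMod L N) (MiscFlat6.dual N)) m ≅
      CohB1.tensorPow L m) := by
    rw [← cl_eq_iff, NumTrivLib.cl_tensorPow, NumTrivLib.cl_tensorPow]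
    refine congrArg (· ^ m) ?_
    rw [cl_tensor, cl_tensor, mul_assoc, ← cl_tensor, cl_eq_iff.2 ⟨eN⟩]
    exact mul_one _
  rw [HodgeIdxLib.hh_congr e 0]

/-- **Big modules absorb numerically trivial ones.** -/
theorem exists_big_NT {A : X.Modules} (hA : CohB1.IsAmple A) {L : X.Modules} (hL : PicF.IsInvertible L)
    (hbig : NumRLib.IsBigMod L) :
    ∃ a : ℕ, 0 < a ∧ ∀ j : ℕ, 0 < j → ∀ N : X.Modules, NT k N →
      0 < hh k (CohB1.tensorMod (CohB1.tensorPow L (a * j)) N) 0 := by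
  haveI := CurvLib.isNoetherian k (X := X)
  obtain ⟨ν, H, φ, hν, hH, hφ⟩ := bigPow_of_isBigMod hA hbig
  haveI := hφ
  obtain ⟨m₀, hm₀⟩ := exists_h0_ampleNT k X hH
  refine ⟨ν * (m₀ + 1), Nat.mul_pos hν (Nat.succ_pos _), fun j hj N hN => ?_⟩
  set μ := (m₀ + 1) * j
  obtain ⟨h1, h2⟩ := hm₀ μ ((Nat.le_succ _).trans (Nat.le_mul_of_pos_right _ hj)) N hN
  have hHμ := AmpleThLib.tensorPow_isInvertible hH.1 μ
  obtain ⟨ψ, hψ⟩ := exists_mono_pow hH.1 (AmpleThLib.tensorPow_isInvertible hL ν) φ μ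
  obtain ⟨e⟩ := nonempty_pow_pow L ν μ
  haveI : Mono (ψ ≫ e.hom) := mono_comp' hψ inferInstance
  obtain ⟨χ, hχ⟩ := mono_tensor' hN.inv (ψ ≫ e.hom)
  haveI := hχ
  have h3 := hh_le_of_mono (k := k) χ (CurvLib.isCoh_of_isInvertible (HilbPolyLib.isInvertible_tensor hHμ hN.inv))
    (CurvLib.isCoh_of_isInvertible (HilbPolyLib.isInvertible_tensor (AmpleThLib.tensorPow_isInvertible hL _) hN.inv))
  rw [mul_assoc]
  exact lt_of_lt_of_le (h1 ▸ h2) h3

end GrowthLib

end
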